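import Groth.Agent.Lib.Lead.KSch.Basic

/-!
# An abstract Noether–Deuring theorem

`Φ : C ⥤ D` an additive functor from a `k`-linear abelian category to a `K`-linear abelian category
(`K/k` a field extension) such that `K ⊗ Hom(E, E') ≃ Hom(ΦE, ΦE')` on a class of objects with
finite-dimensional endomorphism algebras.  Then `ΦE ≅ ΦE'` implies `E ≅ E'`.
-/

set_option autoImplicit false
universe w v₁ u₁ v₂ u₂
open CategoryTheory CategoryTheory.Limits TensorProduct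

namespace Groth.Agent.LD.KSch

noncomputable section

attribute [local instance] Abelian.hasFiniteBiproducts

variable (k K : Type w) [Field k] [Field K] [Algebra k K]
variable {C : Type u₁} [Category.{v₁} C] [Abelian C] [Linear k C]
variable {D : Type u₂} [Category.{v₂} D] [Abelian D] [Linear K D]
variable (Φ : C ⥤ D)

/-- base change for `Hom`. -/
structure HBC (E E' : C) where
  T : K ⊗[k] (E ⟶ E') →+ (Φ.obj E ⟶ Φ.obj E')
  bij : Function.Bijective T
  tmul : ∀ (c : K) (φ : E ⟶ E'), T (c ⊗ₜ[k] φ) = c • Φ.map φ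

variable {k K Φ}

/-- the extension of a functional to the base change. -/
def extFun {E : C} (l : (E ⟶ E) →ₗ[k] k) : K ⊗[k] (E ⟶ E) →ₗ[k] K :=
  (TensorProduct.rid k K).toLinearMap ∘ₗ (LinearMap.lTensor K l)

lemma extFun_tmul {E : C} (l : (E ⟶ E) →ₗ[k] k) (c : K) (f : E ⟶ E) :
    extFun (K := K) l (c ⊗ₜ[k] f) = l f • c := by
  simp [extFun]

lemma HBC.symm_id {E : C} (h : HBC k K Φ E E) :
    (AddEquiv.ofBijective h.T h.bij).symm (𝟙 (Φ.obj E)) = (1 : K) ⊗ₜ[k] (𝟙 E) := by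
  rw [AddEquiv.symm_apply_eq]
  change 𝟙 _ = h.T ((1 : K) ⊗ₜ[k] 𝟙 E)
  rw [h.tmul, Φ.map_id, one_smul]

/-- `ΦE = 0` implies `E = 0`. -/
theorem isZero_of_isZero_map {E : C} (h : HBC k K Φ E E) (hz : IsZero (Φ.obj E)) : IsZero E := by
  rw [IsZero.iff_id_eq_zero]
  by_contra hne
  have hn : (𝟙 E : E ⟶ E) ∉ (⊥ : Submodule k (E ⟶ E)) := by
    rw [Submodule.mem_bot]; exact hne
  obtain ⟨l, hl1, -⟩ := Submodule.exists_dual_map_eq_bot_of_notMem hn inferInstance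
  have h1 := h.symm_id
  rw [(IsZero.iff_id_eq_zero _).mp hz, map_zero] at h1
  have h2 := congrArg (extFun (K := K) l) h1
  rw [map_zero, extFun_tmul] at h2
  rcases smul_eq_zero.mp h2.symm with h3 | h3
  · exact hl1 h3
  · exact one_ne_zero h3

/-- descent of retracts. -/
theorem retract_of_retract_map {E E' : C} (hEE' : HBC k K Φ E E') (hE'E : HBC k K Φ E' E)
    (hEE : HBC k K Φ E E) (hE : LE E) (α : Φ.obj E ⟶ Φ.obj E') (β : Φ.obj E' ⟶ Φ.obj E)
    (hαβ : α ≫ β = 𝟙 _) : ∃ (i : E ⟶ E') (r : E' ⟶ E), i ≫ r = 𝟙 E := by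
  have h1 : (𝟙 E : E ⟶ E) ∈
      Submodule.span k {z : E ⟶ E | ∃ (φ : E ⟶ E') (ψ : E' ⟶ E), z = φ ≫ ψ} := by
    by_contra hn
    obtain ⟨l, hl1, hlI⟩ := Submodule.exists_dual_map_eq_bot_of_notMem hn inferInstance
    have hl0 : ∀ (φ : E ⟶ E') (ψ : E' ⟶ E), l (φ ≫ ψ) = 0 := by
      intro φ ψ
      have h0 : l (φ ≫ ψ) ∈ Submodule.map l
          (Submodule.span k {z : E ⟶ E | ∃ (φ : E ⟶ E') (ψ : E' ⟶ E), z = φ ≫ ψ}) :=
        Submodule.mem_map_of_mem (Submodule.subset_span ⟨φ, ψ, rfl⟩)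
      rw [hlI] at h0
      exact (Submodule.mem_bot k).mp h0
    have key : ∀ (x : K ⊗[k] (E ⟶ E')) (y : K ⊗[k] (E' ⟶ E)),
        extFun (K := K) l ((AddEquiv.ofBijective hEE.T hEE.bij).symm (hEE'.T x ≫ hE'E.T y)) = 0 := by
      intro x y
      induction x using TensorProduct.induction_on with
      | zero => simp only [map_zero, zero_comp]
      | add x x' hx hx' =>
        rw [map_add, Preadditive.add_comp, map_add, map_add, hx, hx', add_zero]
      | tmul c φ =>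
        induction y using TensorProduct.induction_on with
        | zero => simp only [map_zero, comp_zero]
        | add y y' hy hy' =>
          rw [map_add, Preadditive.comp_add, map_add, map_add, hy, hy', add_zero]
        | tmul d ψ =>
          rw [hEE'.tmul, hE'E.tmul, Linear.smul_comp, Linear.comp_smul, smul_smul, ← Φ.map_comp,
            ← hEE.tmul]
          have h0 : (AddEquiv.ofBijective hEE.T hEE.bij).symm (hEE.T ((c * d) ⊗ₜ[k] (φ ≫ ψ))) =
              (c * d) ⊗ₜ[k] (φ ≫ ψ) :=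
            (AddEquiv.ofBijective hEE.T hEE.bij).symm_apply_apply _
          rw [h0, extFun_tmul, hl0, zero_smul]
    obtain ⟨x, rfl⟩ := hEE'.bij.2 α
    obtain ⟨y, rfl⟩ := hE'E.bij.2 β
    have h2 := key x y
    rw [hαβ, hEE.symm_id, extFun_tmul] at h2
    rcases smul_eq_zero.mp h2 with h3 | h3
    · exact hl1 h3
    · exact one_ne_zero h3
  have hsm : ∀ (a : k) (l : List ((E ⟶ E') × (E' ⟶ E))),
      a • (l.map (fun p => p.1 ≫ p.2)).sum =
        ((l.map (fun p => (a • p.1, p.2))).map (fun p => p.1 ≫ p.2)).sum := by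
    intro a l
    induction l with
    | nil => simp
    | cons p l ih => simp only [List.map_cons, List.sum_cons, smul_add, ih, Linear.smul_comp]
  have h4 : ∀ z ∈ Submodule.span k {z : E ⟶ E | ∃ (φ : E ⟶ E') (ψ : E' ⟶ E), z = φ ≫ ψ},
      ∃ l : List ((E ⟶ E') × (E' ⟶ E)), z = (l.map (fun p => p.1 ≫ p.2)).sum := by
    intro z hz
    refine Submodule.span_induction
      (p := fun z _ => ∃ l : List ((E ⟶ E') × (E' ⟶ E)), z = (l.map (fun p => p.1 ≫ p.2)).sum)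
      ?_ ?_ ?_ ?_ hz
    · rintro z ⟨φ, ψ, rfl⟩
      exact ⟨[(φ, ψ)], by simp⟩
    · exact ⟨[], by simp⟩
    · rintro x y _ _ ⟨l₁, rfl⟩ ⟨l₂, rfl⟩
      exact ⟨l₁ ++ l₂, by simp⟩
    · rintro a x _ ⟨l, rfl⟩
      exact ⟨l.map (fun p => (a • p.1, p.2)), hsm a l⟩
  obtain ⟨l, hl⟩ := h4 _ h1
  obtain ⟨x, hx, hx'⟩ := hE.exists_isIso_of_isIso_list_sum (l.map (fun p => p.1 ≫ p.2))
    (by rw [← hl]; infer_instance)
  obtain ⟨p, -, rfl⟩ := List.mem_map.mp hx
  haveI := hx'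
  exact ⟨p.1, p.2 ≫ inv (p.1 ≫ p.2), by rw [← Category.assoc, IsIso.hom_inv_id]⟩

variable [Φ.Additive]

/-- **abstract Noether–Deuring**. -/
theorem nd (PC : C → Prop) (PD : D → Prop)
    (hPC : ∀ {A M : C} (i : A ⟶ M) (r : M ⟶ A), i ≫ r = 𝟙 A → PC M → PC A)
    (hfinC : ∀ M, PC M → Module.Finite k (M ⟶ M))
    (hPD : ∀ {A M : D} (i : A ⟶ M) (r : M ⟶ A), i ≫ r = 𝟙 A → PD M → PD A)
    (hfinD : ∀ M, PD M → Module.Finite K (M ⟶ M))
    (hΦ : ∀ M, PC M → PD (Φ.obj M))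
    (hbc : ∀ E E', PC E → PC E' → Nonempty (HBC k K Φ E E')) :
    ∀ (d : ℕ) (E E' : C), PC E → PC E' → Module.finrank k (E ⟶ E) ≤ d →
      Nonempty (Φ.obj E ≅ Φ.obj E') → Nonempty (E ≅ E') := by
  haveI : PreservesBinaryBiproducts Φ := preservesBinaryBiproducts_of_preservesBiproducts Φ
  intro d
  induction d with
  | zero =>
    intro E E' hE hE' hd ⟨θ⟩
    have hz := isZero_of_finrank_eq_zero k PC hfinC E hE (Nat.le_zero.mp hd)
    have hz1 : IsZero (Φ.obj E) := by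
      rw [IsZero.iff_id_eq_zero, ← Φ.map_id, (IsZero.iff_id_eq_zero E).mp hz, Φ.map_zero]
    obtain ⟨h⟩ := hbc E' E' hE' hE'
    exact ⟨hz.iso (isZero_of_isZero_map h (hz1.of_iso θ.symm))⟩
  | succ d ih =>
    intro E E' hE hE' hd ⟨θ⟩
    by_cases hz : IsZero E
    · have hz1 : IsZero (Φ.obj E) := by
        rw [IsZero.iff_id_eq_zero, ← Φ.map_id, (IsZero.iff_id_eq_zero E).mp hz, Φ.map_zero]
      obtain ⟨h⟩ := hbc E' E' hE' hE'
      exact ⟨hz.iso (isZero_of_isZero_map h (hz1.of_iso θ.symm))⟩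
    · obtain ⟨F, i, r, hir, hF⟩ := exists_indec_retract k PC hPC hfinC _ E hE hz le_rfl
      have hPF : PC F := hPC i r hir hE
      haveI := hfinC F hPF
      haveI := hfinC E hE
      have hFle : LE F := le_of_indec k hF
      let e : E ≅ F ⊞ cokernel i := isoBiprodOfRetract i r hir
      have hPQ : PC (cokernel i) := hPC (biprod.inr ≫ e.inv) (e.hom ≫ biprod.snd) (by simp) hE
      have hαβ : (Φ.map i ≫ θ.hom) ≫ (θ.inv ≫ Φ.map r) = 𝟙 _ := by
        rw [Category.assoc, Iso.hom_inv_id_assoc, ← Φ.map_comp, hir, Φ.map_id]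
      obtain ⟨h1⟩ := hbc F E' hPF hE'
      obtain ⟨h2⟩ := hbc E' F hE' hPF
      obtain ⟨h3⟩ := hbc F F hPF hPF
      obtain ⟨i', r', hir'⟩ := retract_of_retract_map h1 h2 h3 hFle _ _ hαβ
      let e' : E' ≅ F ⊞ cokernel i' := isoBiprodOfRetract i' r' hir'
      have hPQ' : PC (cokernel i') :=
        hPC (biprod.inr ≫ e'.inv) (e'.hom ≫ biprod.snd) (by simp) hE'
      let ψ : Φ.obj F ⊞ Φ.obj (cokernel i) ≅ Φ.obj F ⊞ Φ.obj (cokernel i') :=
        (Φ.mapBiprod F (cokernel i)).symm ≪≫ Φ.mapIso e.symm ≪≫ θ ≪≫ Φ.mapIso e' ≪≫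
          Φ.mapBiprod F (cokernel i')
      obtain ⟨n, As, hAs, ⟨eA⟩⟩ := exists_decomp K PD hPD hfinD _ (Φ.obj F) (hΦ F hPF) le_rfl
      have hLE : ∀ j, LE (As j) := by
        intro j
        have hPj : PD (As j) := hPD (biproduct.ι As j ≫ eA.inv) (eA.hom ≫ biproduct.π As j)
          (by simp) (hΦ F hPF)
        haveI := hfinD _ hPj
        exact le_of_indec K (hAs j)
      obtain ⟨eQ⟩ := cancel_sum n As hLE
        ⟨biprod.mapIso eA.symm (Iso.refl _) ≪≫ ψ ≪≫ biprod.mapIso eA (Iso.refl _)⟩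
      have hlt : Module.finrank k (cokernel i ⟶ cokernel i) < Module.finrank k (E ⟶ E) :=
        finrank_end_lt k e hF.1
      obtain ⟨eQ'⟩ := ih (cokernel i) (cokernel i') hPQ hPQ' (by omega) ⟨eQ⟩
      exact ⟨e ≪≫ biprod.mapIso (Iso.refl F) eQ' ≪≫ e'.symm⟩

end

end Groth.Agent.LD.KSch
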