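import Groth.Agent.Lib.Lead.KSch.WeilFin5
import Groth.Agent.Lib.Helper5.GG.TensExact
import Groth.Agent.Lib.Helper5.ExtG1.H
import Groth.Agent.Lib.Lead.Curve.RankAdd
import Groth.Agent.Lib.Helper5.Curve4.VB4
import Groth.Agent.Lib.Lead.XS.Adj

/-!
# Tensor products of essentially finite vector bundles on a curve

* `cokernel_comp_of_ext`: the cokernel of `u ≫ v` (`v` mono) is an extension of `coker v` by
  `coker u`;
* `cokernelKernelIso`: an epimorphism is the cokernel of its kernel;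
* `exists_mono_tensor`: the tensor product of two subbundles is a subbundle;
* `epi_tensorMap`: the tensor product of two epimorphisms is an epimorphism;
* `Nonpos`: all subbundles have nonpositive degree; stability under subobjects and quotients
  with kernel of degree zero;
* `essFin_tensor`: the tensor product of two essentially finite bundles is essentially finite.
-/

set_option autoImplicit false
universe v u
open CategoryTheory CategoryTheory.Limits AlgebraicGeometry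

namespace Groth.Agent.LD.KSch

open Groth.Agent.LD Groth.Agent.LD.QC Groth.Agent.H5.Curve4

attribute [-instance] Groth.Agent.LD.QC.stalkModule
attribute [local instance] Abelian.hasFiniteBiproducts

noncomputable section

section Abs

variable {C : Type u} [Category.{v} C] [Abelian C]

/-- the cokernel of `u ≫ v` for `v` a monomorphism is an extension of `coker v` by `coker u`. -/
lemma cokernel_comp_of_ext {P : C → Prop}
    (hext : ∀ S : ShortComplex C, S.ShortExact → P S.X₁ → P S.X₃ → P S.X₂)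
    {X Y Z : C} (u : X ⟶ Y) (v : Y ⟶ Z) [Mono v] (hu : P (cokernel u)) (hv : P (cokernel v)) :
    P (cokernel (u ≫ v)) := by
  have E := kernelCokernelCompSequence_exact u v
  let S2 := (kernelCokernelCompSequence u v).sc E.toIsComplex 2
  have h2 : S2.Exact := E.exact 2
  have hf : S2.f = 0 := (isZero_kernel_of_mono v).eq_of_src _ _
  have hm : Mono S2.g := (S2.exact_iff_mono hf).1 h2
  let S3 := (kernelCokernelCompSequence u v).sc E.toIsComplex 3
  have h3 : S3.Exact := E.exact 3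
  haveI : Mono S3.f := hm
  haveI : Epi S3.g := inferInstanceAs (Epi ((kernelCokernelCompSequence u v).map' 4 5))
  have hse : S3.ShortExact := ShortComplex.ShortExact.mk' h3 ‹_› ‹_›
  exact hext S3 hse hu hv

/-- an epimorphism is the cokernel of its kernel. -/
def cokernelKernelIso {A B : C} (p : A ⟶ B) [Epi p] : cokernel (kernel.ι p) ≅ B :=
  IsColimit.coconePointUniqueUpToIso (cokernelIsCokernel (kernel.ι p))
    (Abelian.epiIsCokernelOfKernel _ (limit.isLimit (parallelPair p 0)))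

end Abs

section Rank

variable {X : Scheme.{u}} [IsIntegral X] [IsNoetherian X]

lemma isFinLocFreeOfRank_cokernel_tensorMap_right {A B : X.Modules} (i : A ⟶ B) [Mono i] (c : ℕ)
    (hc : FlatMod.IsFinLocFreeOfRank c (cokernel i)) (m : ℕ) (P : X.Modules)
    (hP : FlatMod.IsFinLocFreeOfRank m P) :
    FlatMod.IsFinLocFreeOfRank (c * m) (cokernel (KoszTw.tensorMap i (𝟙 P))) := by
  let S : ShortComplex X.Modules := ShortComplex.mk i (cokernel.π i) (cokernel.condition i)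
  have hS : S.ShortExact := ShortComplex.ShortExact.mk' (ShortComplex.exact_cokernel i) ‹Mono i›
    (inferInstanceAs (Epi (cokernel.π i)))
  have hS' := MS.shortExact_map_flip_of_flat (O := X.sheaf) S hS
    (Groth.Agent.H5.GG.isFlat_of_isFinLocFree _ (Curve.isFinLocFree_of_rank hc)) P
  haveI := hS'.epi_g
  have e : cokernel (S.map (twF P)).f ≅ (S.map (twF P)).X₃ :=
    IsColimit.coconePointUniqueUpToIso (cokernelIsCokernel _) hS'.exact.gIsCokernel
  have e' : cokernel (KoszTw.tensorMap i (𝟙 P)) ≅ CohB1.tensorMod (cokernel i) P := by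
    rw [← twF_map]
    exact e
  exact isFinLocFreeOfRank_of_iso e'.symm (isFinLocFreeOfRank_tensorMod c m _ P hc hP)

lemma isFinLocFreeOfRank_cokernel_tensorMap_left {A B : X.Modules} (i : A ⟶ B) [Mono i] (c : ℕ)
    (hc : FlatMod.IsFinLocFreeOfRank c (cokernel i)) (m : ℕ) (P : X.Modules)
    (hP : FlatMod.IsFinLocFreeOfRank m P) :
    FlatMod.IsFinLocFreeOfRank (c * m) (cokernel (KoszTw.tensorMap (𝟙 P) i)) := by
  have e : cokernel (KoszTw.tensorMap (𝟙 P) i) ≅ cokernel (KoszTw.tensorMap i (𝟙 P)) :=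
    cokernel.mapIso _ _ (tensorCommAll P A) (tensorCommAll B P).symm (by
      rw [tensorMap_id_left_eq]
      simp only [Category.assoc, Iso.symm_hom, Iso.hom_inv_id, Category.comp_id])
  exact isFinLocFreeOfRank_of_iso e.symm
    (isFinLocFreeOfRank_cokernel_tensorMap_right i c hc m P hP)

/-- the tensor product of two subbundles is a subbundle. -/
lemma exists_mono_tensor {A B A' B' : X.Modules} (i : A ⟶ B) (i' : A' ⟶ B') [Mono i] [Mono i']
    (a' b : ℕ) (hA' : FlatMod.IsFinLocFreeOfRank a' A') (hB : FlatMod.IsFinLocFreeOfRank b B)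
    (c c' : ℕ) (hc : FlatMod.IsFinLocFreeOfRank c (cokernel i))
    (hc' : FlatMod.IsFinLocFreeOfRank c' (cokernel i')) :
    ∃ j : CohB1.tensorMod A A' ⟶ CohB1.tensorMod B B', Mono j ∧
      FlatMod.IsFinLocFree (cokernel j) := by
  haveI m1 : Mono (KoszTw.tensorMap i (𝟙 A')) :=
    mono_tensorMap_of_isFinLocFree i A' (Curve.isFinLocFree_of_rank hA')
  haveI m2 : Mono (KoszTw.tensorMap (𝟙 B) i') :=
    mono_tensorMap_left_of_isFinLocFree i' B (Curve.isFinLocFree_of_rank hB)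
  refine ⟨KoszTw.tensorMap i (𝟙 A') ≫ KoszTw.tensorMap (𝟙 B) i', mono_comp _ _, ?_⟩
  obtain ⟨n, hn⟩ := cokernel_comp_of_ext
    (P := fun M : X.Modules => ∃ n : ℕ, FlatMod.IsFinLocFreeOfRank n M)
    (fun S hS ⟨x, hx⟩ ⟨y, hy⟩ =>
      ⟨x + y, Groth.Agent.H5.ExtG1.isFinLocFreeOfRank_of_shortExact S hS x y hx hy⟩)
    (KoszTw.tensorMap i (𝟙 A')) (KoszTw.tensorMap (𝟙 B) i')
    ⟨c * a', isFinLocFreeOfRank_cokernel_tensorMap_right i c hc a' A' hA'⟩
    ⟨c' * b, isFinLocFreeOfRank_cokernel_tensorMap_left i' c' hc' b B hB⟩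
  exact Curve.isFinLocFree_of_rank hn

omit [IsIntegral X] [AlgebraicGeometry.IsNoetherian X] in
/-- the tensor product of two epimorphisms is an epimorphism. -/
lemma epi_tensorMap {A B A' B' : X.Modules} (p : A ⟶ B) (q : A' ⟶ B') [Epi p] [Epi q]
    [A'.IsQuasicoherent] [B.IsQuasicoherent] : Epi (KoszTw.tensorMap p q) := by
  have h : KoszTw.tensorMap p q = KoszTw.tensorMap p (𝟙 A') ≫ KoszTw.tensorMap (𝟙 B) q := by
    rw [← KoszTw.tensorMap_comp, Category.comp_id, Category.id_comp]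
  rw [h]
  haveI h1 : Epi (KoszTw.tensorMap p (𝟙 A')) := by
    rw [← twF_map]
    exact (Functor.preservesEpimorphisms_of_adjunction (XS.adjR A')).preserves p
  haveI h0 : Epi (KoszTw.tensorMap q (𝟙 B)) := by
    rw [← twF_map]
    exact (Functor.preservesEpimorphisms_of_adjunction (XS.adjR B)).preserves q
  haveI h2 : Epi (KoszTw.tensorMap (𝟙 B) q) := by
    rw [tensorMap_id_left_eq]
    infer_instance
  exact epi_comp _ _

end Rank

section CurveSec

variable (k : Type u) [Field k] [IsAlgClosed k] (X : Scheme.{u}) [X.Over (Spec (CommRingCat.of k))]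
  [IsIntegral X] [IsProper (X ↘ Spec (CommRingCat.of k))] [Smooth (X ↘ Spec (CommRingCat.of k))]

/-- all finite locally free submodules of positive rank have nonpositive degree. -/
def Nonpos (M : X.Modules) : Prop :=
  ∀ (F : X.Modules) (r' : ℕ) (i : F ⟶ M), Mono i → 0 < r' → FlatMod.IsFinLocFreeOfRank r' F →
    Curv2.deg k X F r' ≤ 0

lemma Nonpos.of_mono {M N : X.Modules} (j : N ⟶ M) [Mono j] (h : Nonpos k X M) :
    Nonpos k X N := by
  intro F r' i hi hr' hF
  haveI := hi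
  exact h F r' (i ≫ j) (mono_comp _ _) hr' hF

lemma Nonpos.ss {M : X.Modules} (h : Nonpos k X M) (r : ℕ) (hdeg : Curv2.deg k X M r = 0) :
    ModFun.IsSlopeSemistable k X M r := by
  intro F r' i hi hr' hF
  rw [hdeg, zero_mul]
  have h1 := h F r' i hi hr' hF
  nlinarith [h1, Int.natCast_nonneg r]

lemma nonpos_of_wf (hdim : topologicalKrullDim X = 1) (t : ℕ) (T : X.Modules)
    (hT : FlatMod.IsFinLocFreeOfRank t T) (h : WF T) : Nonpos k X T := by
  intro F r' i hi hr' hF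
  rcases Nat.eq_zero_or_pos t with ht | ht
  · exfalso
    subst ht
    haveI := hi
    haveI : Nonempty X := nonempty_of_dim_eq_one X hdim
    have h1 := rank_le_of_mono X i r' 0 hF hT
    omega
  · obtain ⟨hd, hss⟩ := deg_zero_and_ss_of_wf k X hdim t ht T hT h
    have h1 := hss F r' i hi hr' hF
    rw [hd, zero_mul] at h1
    have ht' : (0 : ℤ) < t := by exact_mod_cast ht
    exact le_of_not_gt fun hpos => absurd h1 (not_le.2 (mul_pos hpos ht'))

lemma Nonpos.quotient {M Q : X.Modules} (p : M ⟶ Q) [Epi p] (a : ℕ)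
    (hK : FlatMod.IsFinLocFreeOfRank a (kernel p)) (hdK : Curv2.deg k X (kernel p) a = 0)
    (h : Nonpos k X M) : Nonpos k X Q := by
  intro N q' i hi hq' hN
  haveI := hi
  haveI : IsNoetherian X := Groth.Agent.H5.Curve2.isNoetherian_of_proper k X
  let T : ShortComplex X.Modules := ShortComplex.mk (kernel.ι p) p (kernel.condition p)
  have hT : T.ShortExact := ShortComplex.ShortExact.mk' (ShortComplex.exact_kernel p)
    (inferInstanceAs (Mono (kernel.ι p))) ‹Epi p›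
  have hS := preimage_shortExact T hT i
  have hM' : FlatMod.IsFinLocFreeOfRank (a + q') (pullback T.g i) :=
    Groth.Agent.H5.ExtG1.isFinLocFreeOfRank_of_shortExact _ hS a q' hK hN
  have hdeg : Curv2.deg k X (pullback T.g i) (a + q') =
      Curv2.deg k X (kernel p) a + Curv2.deg k X N q' :=
    Curve.deg_add_of_shortExact k X _ hS a (a + q') q' hK hM' hN
  have h1 := h (pullback T.g i) (a + q') (pullback.fst T.g i) inferInstance (by omega) hM'
  rw [hdeg, hdK, zero_add] at h1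
  exact h1

/-- essentially finite vector bundles (in the form of the statements). -/
def EssFin (E : X.Modules) (r : ℕ) : Prop :=
  Curv2.deg k X E r = 0 ∧ ModFun.IsSlopeSemistable k X E r ∧
    ∃ (s : ℕ) (G : X.Modules) (s₁ : ℕ) (F₁ : X.Modules) (s₂ : ℕ) (F₂ : X.Modules)
      (i₁ : F₁ ⟶ G) (i₂ : F₂ ⟶ F₁),
      FlatMod.IsFinLocFreeOfRank s G ∧ WF G ∧
      FlatMod.IsFinLocFreeOfRank s₁ F₁ ∧ FlatMod.IsFinLocFreeOfRank s₂ F₂ ∧ Mono i₁ ∧ Mono i₂ ∧
      FlatMod.IsFinLocFree (cokernel i₁) ∧ FlatMod.IsFinLocFree (cokernel i₂) ∧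
      Curv2.deg k X F₁ s₁ = 0 ∧ ModFun.IsSlopeSemistable k X F₁ s₁ ∧
      Curv2.deg k X F₂ s₂ = 0 ∧ ModFun.IsSlopeSemistable k X F₂ s₂ ∧
      Nonempty (E ≅ cokernel i₂)

/-- **the tensor product of two essentially finite vector bundles is essentially finite.** -/
theorem essFin_tensor (hdim : topologicalKrullDim X = 1) (r₁ r₂ : ℕ) (E₁ E₂ : X.Modules)
    (hE₁ : FlatMod.IsFinLocFreeOfRank r₁ E₁) (hE₂ : FlatMod.IsFinLocFreeOfRank r₂ E₂)
    (h₁ : EssFin k X E₁ r₁) (h₂ : EssFin k X E₂ r₂) :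
    FlatMod.IsFinLocFreeOfRank (r₁ * r₂) (CohB1.tensorMod E₁ E₂) ∧
      EssFin k X (CohB1.tensorMod E₁ E₂) (r₁ * r₂) := by
  haveI : IsNoetherian X := Groth.Agent.H5.Curve2.isNoetherian_of_proper k X
  have hdim' : topologicalKrullDim X ≤ 1 := hdim.le
  obtain ⟨hd₁, -, s, G, s₁, F₁, s₂, F₂, i₁, i₂, hG, hwf, hF₁, hF₂, hi₁, hi₂, hc₁, hc₂, hdF₁, -,
    -, -, ⟨e₁⟩⟩ := h₁
  obtain ⟨hd₂, -, s', G', s₁', F₁', s₂', F₂', i₁', i₂', hG', hwf', hF₁', hF₂', hi₁', hi₂', hc₁',
    hc₂', hdF₁', -, -, -, ⟨e₂⟩⟩ := h₂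
  haveI := hi₁
  haveI := hi₁'
  have hQ : FlatMod.IsFinLocFreeOfRank (r₁ * r₂) (CohB1.tensorMod E₁ E₂) :=
    isFinLocFreeOfRank_tensorMod r₁ r₂ E₁ E₂ hE₁ hE₂
  have hT : FlatMod.IsFinLocFreeOfRank (s * s') (CohB1.tensorMod G G') :=
    isFinLocFreeOfRank_tensorMod s s' G G' hG hG'
  have hF : FlatMod.IsFinLocFreeOfRank (s₁ * s₁') (CohB1.tensorMod F₁ F₁') :=
    isFinLocFreeOfRank_tensorMod s₁ s₁' F₁ F₁' hF₁ hF₁'
  have hdQ : Curv2.deg k X (CohB1.tensorMod E₁ E₂) (r₁ * r₂) = 0 := by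
    rw [Groth.Agent.H5.DegC.deg_tensorMod k hdim' r₁ r₂ E₁ E₂ hE₁ hE₂, hd₁, hd₂]
    simp
  have hdF : Curv2.deg k X (CohB1.tensorMod F₁ F₁') (s₁ * s₁') = 0 := by
    rw [Groth.Agent.H5.DegC.deg_tensorMod k hdim' s₁ s₁' F₁ F₁' hF₁ hF₁', hdF₁, hdF₁']
    simp
  have hwfT : WF (CohB1.tensorMod G G') :=
    (wf_biprod_tensor k X G G' (Curve.isCoh_of_rank hG) (Curve.isCoh_of_rank hG')
      (Curve.isCoh_of_rank (Groth.Agent.H5.SD.isFinLocFreeOfRank_biprod G G' s s' hG hG'))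
      hwf hwf').2
  have hnT : Nonpos k X (CohB1.tensorMod G G') := nonpos_of_wf k X hdim (s * s') _ hT hwfT
  obtain ⟨c, hc⟩ := exists_rank hc₁
  obtain ⟨c', hc'⟩ := exists_rank hc₁'
  obtain ⟨j₁, hj₁m, hcok⟩ := exists_mono_tensor i₁ i₁' s₁' s hF₁' hG c c' hc hc'
  haveI := hj₁m
  have hnF : Nonpos k X (CohB1.tensorMod F₁ F₁') := hnT.of_mono k X j₁
  -- the epimorphism onto `E₁ ⊗ E₂`
  haveI : F₁'.IsQuasicoherent := qc_of_isFinLocFree F₁' (Curve.isFinLocFree_of_rank hF₁')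
  haveI : E₁.IsQuasicoherent := qc_of_isFinLocFree E₁ (Curve.isFinLocFree_of_rank hE₁)
  haveI : Epi (cokernel.π i₂ ≫ e₁.inv) := epi_comp _ _
  haveI : Epi (cokernel.π i₂' ≫ e₂.inv) := epi_comp _ _
  obtain ⟨p, hp⟩ : ∃ p : CohB1.tensorMod F₁ F₁' ⟶ CohB1.tensorMod E₁ E₂, Epi p :=
    ⟨KoszTw.tensorMap (cokernel.π i₂ ≫ e₁.inv) (cokernel.π i₂' ≫ e₂.inv), epi_tensorMap _ _⟩
  haveI := hp
  obtain ⟨a, b, -, hK, hcoim, hdegK⟩ :=
    kernel_image_facts k X hdim' (s₁ * s₁') (r₁ * r₂) hF hQ p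
  have eQ : cokernel (kernel.ι p) ≅ CohB1.tensorMod E₁ E₂ := cokernelKernelIso p
  have hcoim' : FlatMod.IsFinLocFreeOfRank (r₁ * r₂) (cokernel (kernel.ι p)) :=
    isFinLocFreeOfRank_of_iso eQ.symm hQ
  have hb : b = r₁ * r₂ := (gdim_of_rank hcoim).symm.trans (gdim_of_rank hcoim')
  subst hb
  have hdK : Curv2.deg k X (kernel p) a = 0 := by
    have h3 : Curv2.deg k X (Abelian.coimage p) (r₁ * r₂) = 0 :=
      (Curve.deg_iso k X eQ (r₁ * r₂)).trans hdQ
    rw [hdF, h3, add_zero] at hdegK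
    exact hdegK.symm
  have hnQ : Nonpos k X (CohB1.tensorMod E₁ E₂) := hnF.quotient k X p a hK hdK
  have hnK : Nonpos k X (kernel p) := hnF.of_mono k X (kernel.ι p)
  exact ⟨hQ, hdQ, hnQ.ss k X _ hdQ, s * s', CohB1.tensorMod G G', s₁ * s₁', CohB1.tensorMod F₁ F₁',
    a, kernel p, j₁, kernel.ι p, hT, hwfT, hF, hK, hj₁m, inferInstance, hcok,
    Curve.isFinLocFree_of_rank hcoim', hdF, hnF.ss k X _ hdF, hdK, hnK.ss k X _ hdK, ⟨eQ.symm⟩⟩

end CurveSec

end

end Groth.Agent.LD.KSch
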