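import Mathlib

/-!
# Krull–Schmidt in abelian categories with finite-dimensional endomorphism algebras

* `Indec`, `LE` (local endomorphism ring), Fitting's lemma `le_of_indec`.
* `LE.cancel`: objects with local endomorphism ring can be cancelled.
* `ks_unique`: uniqueness of decompositions into indecomposables.
* `exists_decomp`: existence of decompositions.
-/

set_option autoImplicit false
universe w v u
open CategoryTheory CategoryTheory.Limits

namespace Groth.Agent.LD.KSch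

noncomputable section

section Alg

lemma mulLeft_pow_apply (k : Type*) {R : Type*} [Field k] [Ring R] [Algebra k R] (a : R) (n : ℕ)
    (x : R) :
    ((LinearMap.mulLeft k a) ^ n) x = a ^ n * x := by
  induction n generalizing x with
  | zero => simp
  | succ n ih =>
    rw [pow_succ]
    change ((LinearMap.mulLeft k a) ^ n) ((LinearMap.mulLeft k a) x) = _
    rw [ih, LinearMap.mulLeft_apply, pow_succ, mul_assoc]

/-- **Fitting**: in a finite-dimensional algebra with only trivial idempotents every element is a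
unit or nilpotent. -/
theorem isUnit_or_isNilpotent (k : Type*) {R : Type*} [Field k] [Ring R] [Algebra k R]
    [Module.Finite k R] (hid : ∀ e : R, e * e = e → e = 0 ∨ e = 1) (a : R) :
    IsUnit a ∨ IsNilpotent a := by
  haveI : IsNoetherian k R := inferInstance
  haveI : IsArtinian k R := inferInstance
  obtain ⟨n, hn, hn1⟩ := ((LinearMap.mulLeft k a).eventually_isCompl_ker_pow_range_pow.and
    (Filter.eventually_ge_atTop 1)).exists
  have htop : (1 : R) ∈ LinearMap.ker ((LinearMap.mulLeft k a) ^ n) ⊔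
      LinearMap.range ((LinearMap.mulLeft k a) ^ n) := by
    rw [hn.sup_eq_top]; exact Submodule.mem_top
  obtain ⟨u, hu, v, hv, huv⟩ := Submodule.mem_sup.mp htop
  rw [LinearMap.mem_ker, mulLeft_pow_apply k] at hu
  obtain ⟨w, hw⟩ := hv
  rw [mulLeft_pow_apply k] at hw
  have huu : u * u + v * u = u := by
    have := congrArg (· * u) huv
    simpa only [add_mul, one_mul] using this
  have hvu : v * u = 0 := by
    have h3 : v * u = u - u * u := by
      rw [eq_sub_iff_add_eq, add_comm]; exact huu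
    have h1 : v * u ∈ LinearMap.ker ((LinearMap.mulLeft k a) ^ n) := by
      rw [LinearMap.mem_ker, mulLeft_pow_apply k, h3, mul_sub, ← mul_assoc, hu, zero_mul, sub_zero]
    have h2 : v * u ∈ LinearMap.range ((LinearMap.mulLeft k a) ^ n) := by
      refine ⟨w * u, ?_⟩
      rw [mulLeft_pow_apply k, ← mul_assoc, hw]
    exact (Submodule.disjoint_def.mp hn.disjoint) _ h1 h2
  have hidem : u * u = u := by
    rw [hvu, add_zero] at huu; exact huu
  rcases hid u hidem with h0 | h1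
  · left
    rw [h0, zero_add] at huv
    rw [huv] at hw
    obtain ⟨m, rfl⟩ : ∃ m, n = m + 1 := ⟨n - 1, by omega⟩
    have har : a * (a ^ m * w) = 1 := by rw [← mul_assoc, ← pow_succ', hw]
    have h5 : ∀ z : R, a * ((a ^ m * w) * z) = z := fun z => by
      rw [← mul_assoc a (a ^ m * w) z, har, one_mul]
    have hinj : Function.Injective (LinearMap.mulLeft k (a ^ m * w)) := by
      intro x y hxy
      have h4 : a * ((a ^ m * w) * x) = a * ((a ^ m * w) * y) := congrArg (a * ·) hxy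
      rw [h5, h5] at h4
      exact h4
    obtain ⟨s, hs⟩ := LinearMap.surjective_of_injective hinj 1
    have hs' : (a ^ m * w) * s = 1 := hs
    have has : a = s := by
      have h6 := h5 s
      rw [hs', mul_one] at h6
      exact h6
    have hra : (a ^ m * w) * a = 1 :=
      (congrArg ((a ^ m * w) * ·) has).trans hs'
    exact ⟨⟨a, a ^ m * w, har, hra⟩, rfl⟩
  · right
    refine ⟨n, ?_⟩
    rw [h1, mul_one] at hu
    exact hu

/-- a finite-dimensional algebra with only trivial idempotents is local. -/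
theorem isUnit_or_isUnit_of_isUnit_add (k : Type*) {R : Type*} [Field k] [Ring R] [Algebra k R]
    [Module.Finite k R] (hid : ∀ e : R, e * e = e → e = 0 ∨ e = 1) {x y : R}
    (hxy : IsUnit (x + y)) : IsUnit x ∨ IsUnit y := by
  obtain ⟨u, hu⟩ := hxy
  rcases isUnit_or_isNilpotent k hid (x * ↑u⁻¹) with h | h
  · left
    have h1 := h.mul u.isUnit
    rwa [mul_assoc, Units.inv_mul, mul_one] at h1
  · right
    have h1 : y * ↑u⁻¹ = 1 - x * ↑u⁻¹ := by
      rw [eq_sub_iff_add_eq, ← add_mul, add_comm y x, ← hu, Units.mul_inv]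
    have h2 : IsUnit (y * ↑u⁻¹) := by rw [h1]; exact h.isUnit_one_sub
    have h3 := h2.mul u.isUnit
    rwa [mul_assoc, Units.inv_mul, mul_one] at h3

end Alg

variable {C : Type u} [Category.{v} C] [Abelian C]

attribute [local instance] Abelian.hasFiniteBiproducts

/-- indecomposable objects. -/
def Indec (A : C) : Prop :=
  ¬ IsZero A ∧ ∀ X Y : C, Nonempty (A ≅ X ⊞ Y) → IsZero X ∨ IsZero Y

/-- objects with local endomorphism ring. -/
def LE (A : C) : Prop :=
  ¬ IsZero A ∧ ∀ x y : A ⟶ A, IsIso (x + y) → IsIso x ∨ IsIso y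

lemma isIso_neg' {A B : C} (f : A ⟶ B) [IsIso f] : IsIso (-f) :=
  ⟨⟨-inv f, by simp, by simp⟩⟩

lemma LE.isIso_add_of_not_isIso {A : C} (hA : LE A) (x u : A ⟶ A) (hx : ¬ IsIso x) [IsIso u] :
    IsIso (x + u) := by
  have h : IsIso ((x + u) + (-x)) := by
    have h0 : (x + u) + (-x) = u := by abel
    rw [h0]; infer_instance
  rcases hA.2 _ _ h with h1 | h1
  · exact h1
  · exfalso; apply hx
    haveI := h1
    have h2 : x = -(-x) := (neg_neg x).symm
    rw [h2]; exact isIso_neg' (-x)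

lemma LE.isIso_left_of_isIso_comp {A : C} (hA : LE A) (f g : A ⟶ A) [IsIso (f ≫ g)] :
    IsIso f := by
  have hfg' : f ≫ (g ≫ inv (f ≫ g)) = 𝟙 A := by rw [← Category.assoc, IsIso.hom_inv_id]
  have hee : ((g ≫ inv (f ≫ g)) ≫ f) ≫ ((g ≫ inv (f ≫ g)) ≫ f) = (g ≫ inv (f ≫ g)) ≫ f := by
    calc ((g ≫ inv (f ≫ g)) ≫ f) ≫ ((g ≫ inv (f ≫ g)) ≫ f)
        = (g ≫ inv (f ≫ g)) ≫ (f ≫ (g ≫ inv (f ≫ g))) ≫ f := by simp only [Category.assoc]
      _ = (g ≫ inv (f ≫ g)) ≫ f := by rw [hfg', Category.id_comp]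
  have h1 : IsIso (((g ≫ inv (f ≫ g)) ≫ f) + (𝟙 A - (g ≫ inv (f ≫ g)) ≫ f)) := by
    have h0 : ((g ≫ inv (f ≫ g)) ≫ f) + (𝟙 A - (g ≫ inv (f ≫ g)) ≫ f) = 𝟙 A := by abel
    rw [h0]; infer_instance
  rcases hA.2 _ _ h1 with h2 | h2
  · haveI := h2
    have he1 : (g ≫ inv (f ≫ g)) ≫ f = 𝟙 A :=
      (cancel_epi ((g ≫ inv (f ≫ g)) ≫ f)).mp (by rw [hee, Category.comp_id])
    exact ⟨⟨g ≫ inv (f ≫ g), hfg', he1⟩⟩
  · exfalso
    haveI := h2
    have h3 : f ≫ (𝟙 A - (g ≫ inv (f ≫ g)) ≫ f) = 0 := by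
      rw [Preadditive.comp_sub, Category.comp_id, ← Category.assoc, hfg', Category.id_comp,
        sub_self]
    have h4 : f = 0 := (cancel_mono (𝟙 A - (g ≫ inv (f ≫ g)) ≫ f)).mp (by rw [h3, zero_comp])
    apply hA.1
    rw [IsZero.iff_id_eq_zero]
    exact hfg'.symm.trans ((congrArg (fun z => z ≫ (g ≫ inv (f ≫ g))) h4).trans zero_comp)

lemma LE.isIso_right_of_isIso_comp {A : C} (hA : LE A) (f g : A ⟶ A) [IsIso (f ≫ g)] :
    IsIso g := by
  haveI := hA.isIso_left_of_isIso_comp f g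
  exact IsIso.of_isIso_comp_left f g

lemma LE.exists_isIso_of_isIso_sum {A : C} (hA : LE A) {ι : Type*} (g : ι → (A ⟶ A)) :
    ∀ s : Finset ι, IsIso (∑ i ∈ s, g i) → ∃ i ∈ s, IsIso (g i) := by
  classical
  intro s
  induction s using Finset.induction_on with
  | empty =>
    intro h
    exfalso; apply hA.1
    rw [Finset.sum_empty] at h
    haveI := h
    rw [IsZero.iff_id_eq_zero]
    have h1 := IsIso.hom_inv_id (0 : A ⟶ A)
    rw [zero_comp] at h1; exact h1.symm
  | insert a s ha ih =>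
    intro h
    rw [Finset.sum_insert ha] at h
    rcases hA.2 _ _ h with h1 | h1
    · exact ⟨a, Finset.mem_insert_self a s, h1⟩
    · obtain ⟨i, hi, hi'⟩ := ih h1
      exact ⟨i, Finset.mem_insert_of_mem hi, hi'⟩

lemma LE.exists_isIso_of_isIso_list_sum {A : C} (hA : LE A) :
    ∀ l : List (A ⟶ A), IsIso l.sum → ∃ x ∈ l, IsIso x := by
  intro l
  induction l with
  | nil =>
    intro h
    exfalso; apply hA.1
    rw [List.sum_nil] at h
    haveI := h
    rw [IsZero.iff_id_eq_zero]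
    have h1 := IsIso.hom_inv_id (0 : A ⟶ A)
    rw [zero_comp] at h1; exact h1.symm
  | cons a l ih =>
    intro h
    rw [List.sum_cons] at h
    rcases hA.2 _ _ h with h1 | h1
    · exact ⟨a, List.mem_cons_self, h1⟩
    · obtain ⟨x, hx, hx'⟩ := ih h1
      exact ⟨x, List.mem_cons_of_mem _ hx, hx'⟩

/-- a retract `F` of `M` gives a decomposition `M ≅ F ⊞ coker`. -/
def isoBiprodOfRetract {F M : C} (i : F ⟶ M) (r : M ⟶ F) (h : i ≫ r = 𝟙 F) :
    M ≅ F ⊞ cokernel i :=
  haveI : IsSplitMono i := IsSplitMono.mk' ⟨r, h⟩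
  biprod.uniqueUpToIso F (cokernel i)
    (isBilimitBinaryBiconeOfIsSplitMonoOfCokernel (cokernelIsCokernel i))

/-- a split monomorphism from a nonzero object into an indecomposable object is an isomorphism. -/
lemma isIso_of_splitMono_indec {A G : C} (hA : ¬ IsZero A) (hG : Indec G) (α : A ⟶ G) (ρ : G ⟶ A)
    (h : α ≫ ρ = 𝟙 A) : IsIso α := by
  rcases hG.2 _ _ ⟨isoBiprodOfRetract α ρ h⟩ with h1 | h1
  · exact absurd h1 hA
  · haveI : Epi α := Preadditive.epi_of_isZero_cokernel α h1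
    haveI : Mono α := (SplitMono.mk ρ h).mono
    exact isIso_of_mono_of_epi α

/-- idempotents of an indecomposable object are trivial. -/
lemma Indec.idem {G : C} (hG : Indec G) (e : G ⟶ G) (he : e ≫ e = e) : e = 0 ∨ e = 𝟙 G := by
  have hαe : kernel.ι (𝟙 G - e) ≫ e = kernel.ι (𝟙 G - e) := by
    have h0 := kernel.condition (𝟙 G - e)
    rw [Preadditive.comp_sub, Category.comp_id, sub_eq_zero] at h0
    exact h0.symm
  have hw : e ≫ (𝟙 G - e) = 0 := by rw [Preadditive.comp_sub, Category.comp_id, he, sub_self]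
  have hρα : kernel.lift (𝟙 G - e) e hw ≫ kernel.ι (𝟙 G - e) = e := kernel.lift_ι _ _ _
  have hαρ : kernel.ι (𝟙 G - e) ≫ kernel.lift (𝟙 G - e) e hw = 𝟙 _ := by
    rw [← cancel_mono (kernel.ι (𝟙 G - e)), Category.assoc, hρα, hαe, Category.id_comp]
  by_cases hz : IsZero (kernel (𝟙 G - e))
  · left
    rw [← hρα, hz.eq_of_tgt (kernel.lift (𝟙 G - e) e hw) 0, zero_comp]
  · right
    haveI := isIso_of_splitMono_indec hz hG _ _ hαρ
    have h0 : 𝟙 G - e = 0 :=
      (cancel_epi (kernel.ι (𝟙 G - e))).mp (by rw [kernel.condition, comp_zero])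
    exact (sub_eq_zero.mp h0).symm

/-- **Fitting's lemma**: an indecomposable object with finite-dimensional endomorphism algebra
has local endomorphism ring. -/
theorem le_of_indec (k : Type w) [Field k] [Linear k C] {G : C} (hG : Indec G)
    [hfin : Module.Finite k (G ⟶ G)] : LE G := by
  refine ⟨hG.1, fun x y hxy => ?_⟩
  haveI : Module.Finite k (End G) := hfin
  have hid : ∀ e : End G, e * e = e → e = 0 ∨ e = 1 := fun e he => hG.idem e he
  have hu : IsUnit ((show End G from x) + (show End G from y)) :=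
    (isUnit_iff_isIso (X := G) (x + y)).mpr hxy
  rcases isUnit_or_isUnit_of_isUnit_add k hid hu with h | h
  · left; exact (isUnit_iff_isIso (X := G) x).mp h
  · right; exact (isUnit_iff_isIso (X := G) y).mp h

/-- **cancellation** of an object with local endomorphism ring. -/
theorem LE.cancel {A M N : C} (hA : LE A) (θ : A ⊞ M ≅ A ⊞ N) : Nonempty (M ≅ N) := by
  by_cases ha : IsIso (biprod.inl ≫ θ.hom ≫ biprod.fst)
  · haveI := ha; exact ⟨Biprod.isoElim θ⟩
  · have hid : (biprod.inl ≫ θ.hom ≫ biprod.fst) ≫ (biprod.inl ≫ θ.inv ≫ biprod.fst) +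
        (biprod.inl ≫ θ.hom ≫ biprod.snd) ≫ (biprod.inr ≫ θ.inv ≫ biprod.fst) = 𝟙 A := by
      calc (biprod.inl ≫ θ.hom ≫ biprod.fst) ≫ (biprod.inl ≫ θ.inv ≫ biprod.fst) +
            (biprod.inl ≫ θ.hom ≫ biprod.snd) ≫ (biprod.inr ≫ θ.inv ≫ biprod.fst)
          = (biprod.inl ≫ θ.hom) ≫ (biprod.fst ≫ biprod.inl + biprod.snd ≫ biprod.inr) ≫
              (θ.inv ≫ biprod.fst) := by
            simp only [Preadditive.comp_add, Preadditive.add_comp, Category.assoc]
        _ = 𝟙 A := by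
            rw [biprod.total, Category.id_comp, Category.assoc, Iso.hom_inv_id_assoc,
              biprod.inl_fst]
    have h1 : IsIso ((biprod.inl ≫ θ.hom ≫ biprod.snd) ≫ (biprod.inr ≫ θ.inv ≫ biprod.fst)) := by
      rcases hA.2 _ _ (by rw [hid]; infer_instance) with h | h
      · exfalso; apply ha; haveI := h
        exact hA.isIso_left_of_isIso_comp _ (biprod.inl ≫ θ.inv ≫ biprod.fst)
      · exact h
    haveI := h1
    have h2 : IsIso ((biprod.inl ≫ θ.hom ≫ biprod.fst) +
        (biprod.inl ≫ θ.hom ≫ biprod.snd) ≫ (biprod.inr ≫ θ.inv ≫ biprod.fst)) :=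
      hA.isIso_add_of_not_isIso _ _ ha
    have h3 : biprod.inl ≫ (θ ≪≫ Biprod.unipotentLower (biprod.inr ≫ θ.inv ≫ biprod.fst)).hom ≫
        biprod.fst = (biprod.inl ≫ θ.hom ≫ biprod.fst) +
        (biprod.inl ≫ θ.hom ≫ biprod.snd) ≫ (biprod.inr ≫ θ.inv ≫ biprod.fst) := by
      simp only [Iso.trans_hom, Biprod.unipotentLower_hom, Category.assoc,
        Biprod.ofComponents_fst, Preadditive.comp_add, Category.comp_id]
    haveI : IsIso (biprod.inl ≫
        (θ ≪≫ Biprod.unipotentLower (biprod.inr ≫ θ.inv ≫ biprod.fst)).hom ≫ biprod.fst) := by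
      rw [h3]; exact h2
    exact ⟨Biprod.isoElim (θ ≪≫ Biprod.unipotentLower (biprod.inr ≫ θ.inv ≫ biprod.fst))⟩

lemma isZero_biproduct_fin_zero (Fs : Fin 0 → C) : IsZero (⨁ Fs) := by
  rw [IsZero.iff_id_eq_zero, ← biproduct.total]
  simp

/-- splitting off the `j`-th summand. -/
def dec {n : ℕ} (Fs : Fin (n + 1) → C) (j : Fin (n + 1)) :
    ⨁ Fs ≅ Fs j ⊞ ⨁ (fun i => Fs (j.succAbove i)) where
  hom := biprod.lift (biproduct.π Fs j) (biproduct.lift fun i => biproduct.π Fs (j.succAbove i))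
  inv := biprod.desc (biproduct.ι Fs j) (biproduct.desc fun i => biproduct.ι Fs (j.succAbove i))
  hom_inv_id := by
    have h : ∑ l, biproduct.π Fs l ≫ biproduct.ι Fs l =
        biproduct.π Fs j ≫ biproduct.ι Fs j +
          ∑ i : Fin n, biproduct.π Fs (j.succAbove i) ≫ biproduct.ι Fs (j.succAbove i) :=
      Fin.sum_univ_succAbove _ j
    rw [biproduct.total] at h
    rw [biprod.lift_desc, biproduct.lift_desc]
    exact h.symm
  inv_hom_id := by
    refine biprod.hom_ext' _ _ ?_ ?_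
    · rw [biprod.inl_desc_assoc, Category.comp_id]
      refine biprod.hom_ext _ _ ?_ ?_
      · rw [Category.assoc, biprod.lift_fst, biproduct.ι_π_self, biprod.inl_fst]
      · rw [Category.assoc, biprod.lift_snd, biprod.inl_snd]
        refine biproduct.hom_ext _ _ (fun i => ?_)
        rw [Category.assoc, biproduct.lift_π, zero_comp,
          biproduct.ι_π_ne _ (Fin.succAbove_ne j i).symm]
    · rw [biprod.inr_desc_assoc, Category.comp_id]
      refine biproduct.hom_ext' _ _ (fun i => ?_)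
      rw [biproduct.ι_desc_assoc]
      refine biprod.hom_ext _ _ ?_ ?_
      · rw [Category.assoc, biprod.lift_fst, biproduct.ι_π_ne _ (Fin.succAbove_ne j i),
          Category.assoc, biprod.inr_fst, comp_zero]
      · rw [Category.assoc, biprod.lift_snd, Category.assoc, biprod.inr_snd, Category.comp_id]
        refine biproduct.hom_ext _ _ (fun i' => ?_)
        rw [Category.assoc, biproduct.lift_π]
        by_cases hii : i = i'
        · subst hii; rw [biproduct.ι_π_self, biproduct.ι_π_self]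
        · rw [biproduct.ι_π_ne _ (fun h => hii (Fin.succAbove_right_injective h)),
            biproduct.ι_π_ne _ hii]

/-- adjoining a summand in front. -/
def consIso {n : ℕ} (F : C) (Fs : Fin n → C) :
    F ⊞ ⨁ Fs ≅ ⨁ (Fin.cons F Fs : Fin (n + 1) → C) :=
  (biprod.mapIso
    (eqToIso (show F = (Fin.cons F Fs : Fin (n + 1) → C) 0 from by first | rfl | simp))
    (biproduct.mapIso (fun i => eqToIso
      (show Fs i = (Fin.cons F Fs : Fin (n + 1) → C) ((0 : Fin (n + 1)).succAbove i) from by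
        first | rfl | simp)))) ≪≫
    (dec (Fin.cons F Fs : Fin (n + 1) → C) 0).symm

/-- **Krull–Schmidt, uniqueness**. -/
theorem ks_unique : ∀ (n m : ℕ) (Fs : Fin n → C) (Gs : Fin m → C), (∀ i, LE (Fs i)) →
    (∀ j, Indec (Gs j)) → Nonempty (⨁ Fs ≅ ⨁ Gs) →
    ∃ e : Fin n ≃ Fin m, ∀ i, Nonempty (Fs i ≅ Gs (e i)) := by
  intro n
  induction n with
  | zero =>
    intro m Fs Gs _ hG ⟨θ⟩
    have hz : IsZero (⨁ Fs) := isZero_biproduct_fin_zero Fs
    cases m with
    | zero => exact ⟨Equiv.refl _, fun i => i.elim0⟩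
    | succ m =>
      exfalso
      apply (hG 0).1
      rw [IsZero.iff_id_eq_zero, ← biproduct.ι_π_self Gs 0]
      have h0 : biproduct.ι Gs 0 = 0 := (hz.of_iso θ.symm).eq_of_tgt _ _
      rw [h0, zero_comp]
  | succ n ih =>
    intro m Fs Gs hF hG ⟨θ⟩
    have hsum : 𝟙 (Fs 0) = ∑ j : Fin m, (biproduct.ι Fs 0 ≫ θ.hom ≫ biproduct.π Gs j) ≫
        (biproduct.ι Gs j ≫ θ.inv ≫ biproduct.π Fs 0) := by
      calc 𝟙 (Fs 0) = (biproduct.ι Fs 0 ≫ θ.hom) ≫ 𝟙 (⨁ Gs) ≫ (θ.inv ≫ biproduct.π Fs 0) := by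
            rw [Category.id_comp, Category.assoc, Iso.hom_inv_id_assoc, biproduct.ι_π_self]
        _ = (biproduct.ι Fs 0 ≫ θ.hom) ≫ (∑ j : Fin m, biproduct.π Gs j ≫ biproduct.ι Gs j) ≫
              (θ.inv ≫ biproduct.π Fs 0) := by rw [biproduct.total]
        _ = ∑ j : Fin m, (biproduct.ι Fs 0 ≫ θ.hom ≫ biproduct.π Gs j) ≫
              (biproduct.ι Gs j ≫ θ.inv ≫ biproduct.π Fs 0) := by
            rw [Preadditive.sum_comp, Preadditive.comp_sum]
            refine Finset.sum_congr rfl (fun j _ => ?_)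
            simp only [Category.assoc]
    obtain ⟨j, -, hj⟩ := (hF 0).exists_isIso_of_isIso_sum _ Finset.univ
      (by rw [← hsum]; infer_instance)
    obtain ⟨m, rfl⟩ : ∃ m', m = m' + 1 := ⟨m - 1, by have := j.2; omega⟩
    haveI := hj
    have hret : (biproduct.ι Fs 0 ≫ θ.hom ≫ biproduct.π Gs j) ≫
        ((biproduct.ι Gs j ≫ θ.inv ≫ biproduct.π Fs 0) ≫
          inv ((biproduct.ι Fs 0 ≫ θ.hom ≫ biproduct.π Gs j) ≫
            (biproduct.ι Gs j ≫ θ.inv ≫ biproduct.π Fs 0))) = 𝟙 (Fs 0) := by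
      rw [← Category.assoc, IsIso.hom_inv_id]
    haveI : IsIso (biproduct.ι Fs 0 ≫ θ.hom ≫ biproduct.π Gs j) :=
      isIso_of_splitMono_indec (hF 0).1 (hG j) _ _ hret
    let e0 : Fs 0 ≅ Gs j := asIso (biproduct.ι Fs 0 ≫ θ.hom ≫ biproduct.π Gs j)
    let ψ : Fs 0 ⊞ ⨁ (fun i => Fs ((0 : Fin (n + 1)).succAbove i)) ≅
        Fs 0 ⊞ ⨁ (fun i => Gs (j.succAbove i)) :=
      (dec Fs 0).symm ≪≫ θ ≪≫ dec Gs j ≪≫ biprod.mapIso e0.symm (Iso.refl _)
    obtain ⟨e', he'⟩ := ih m (fun i => Fs ((0 : Fin (n + 1)).succAbove i))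
      (fun i => Gs (j.succAbove i)) (fun i => hF _) (fun i => hG _) ((hF 0).cancel ψ)
    refine ⟨(finSuccEquiv' 0).trans ((Equiv.optionCongr e').trans (finSuccEquiv' j).symm), ?_⟩
    intro i
    rcases Fin.eq_self_or_eq_succAbove 0 i with rfl | ⟨i', rfl⟩
    · have h1 : ((finSuccEquiv' 0).trans ((Equiv.optionCongr e').trans (finSuccEquiv' j).symm))
          (0 : Fin (n + 1)) = j := by simp
      rw [h1]; exact ⟨e0⟩
    · have h1 : ((finSuccEquiv' 0).trans ((Equiv.optionCongr e').trans (finSuccEquiv' j).symm))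
          ((0 : Fin (n + 1)).succAbove i') = j.succAbove (e' i') := by
        rw [Equiv.trans_apply, Equiv.trans_apply, finSuccEquiv'_succAbove,
          Equiv.optionCongr_apply, Option.map_some, finSuccEquiv'_symm_some]
      rw [h1]; exact he' i'

/-- cancellation of a finite sum of objects with local endomorphism rings. -/
theorem cancel_sum : ∀ (n : ℕ) (As : Fin n → C), (∀ i, LE (As i)) → ∀ {M N : C},
    Nonempty ((⨁ As) ⊞ M ≅ (⨁ As) ⊞ N) → Nonempty (M ≅ N) := by
  intro n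
  induction n with
  | zero =>
    intro As _ M N ⟨θ⟩
    have hz := isZero_biproduct_fin_zero As
    exact ⟨isoZeroBiprod hz ≪≫ θ ≪≫ (isoZeroBiprod hz).symm⟩
  | succ n ih =>
    intro As hA M N ⟨θ⟩
    let ψ : As 0 ⊞ ((⨁ fun i => As ((0 : Fin (n + 1)).succAbove i)) ⊞ M) ≅
        As 0 ⊞ ((⨁ fun i => As ((0 : Fin (n + 1)).succAbove i)) ⊞ N) :=
      (biprod.associator _ _ _).symm ≪≫ biprod.mapIso (dec As 0).symm (Iso.refl M) ≪≫ θ ≪≫
        biprod.mapIso (dec As 0) (Iso.refl N) ≪≫ biprod.associator _ _ _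
    exact ih _ (fun i => hA _) ((hA 0).cancel ψ)

section Exist

variable (k : Type w) [Field k] [Linear k C]

lemma finrank_end_lt {M A B : C} (e : M ≅ A ⊞ B) (hA : ¬ IsZero A)
    [Module.Finite k (M ⟶ M)] :
    Module.finrank k (B ⟶ B) < Module.finrank k (M ⟶ M) := by
  let S : (B ⟶ B) →ₗ[k] (M ⟶ M) :=
    (Linear.leftComp k M (e.hom ≫ biprod.snd)) ∘ₗ (Linear.rightComp k B (biprod.inr ≫ e.inv))
  have hS : ∀ f : B ⟶ B, S f = (e.hom ≫ biprod.snd) ≫ f ≫ (biprod.inr ≫ e.inv) := fun f => rfl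
  have hinj : Function.Injective S := by
    intro f g hfg
    rw [hS, hS] at hfg
    have h1 := congrArg (fun z => (biprod.inr ≫ e.inv) ≫ z ≫ (e.hom ≫ biprod.snd)) hfg
    simpa using h1
  have hv : (𝟙 M : M ⟶ M) ∉ LinearMap.range S := by
    rintro ⟨f, hf⟩
    rw [hS] at hf
    apply hA
    rw [IsZero.iff_id_eq_zero]
    have h1 := congrArg (fun z => (biprod.inl ≫ e.inv) ≫ z ≫ (e.hom ≫ biprod.fst)) hf
    simpa using h1.symm
  have h1 := LinearMap.finrank_range_of_inj hinj
  have h2 : LinearMap.range S < ⊤ := lt_top_iff_ne_top.mpr (fun h => hv (h ▸ Submodule.mem_top))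
  have h3 := Submodule.finrank_lt_finrank_of_lt h2
  rw [finrank_top] at h3
  omega

variable (P : C → Prop)
  (hP : ∀ {A M : C} (i : A ⟶ M) (r : M ⟶ A), i ≫ r = 𝟙 A → P M → P A)
  (hfin : ∀ M, P M → Module.Finite k (M ⟶ M))

include hfin in
lemma isZero_of_finrank_eq_zero (M : C) (hM : P M) (h : Module.finrank k (M ⟶ M) = 0) :
    IsZero M := by
  haveI := hfin M hM
  rw [IsZero.iff_id_eq_zero]
  exact (finrank_zero_iff_forall_zero (K := k)).mp h _

include hP hfin in
/-- a nonzero object has an indecomposable retract. -/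
theorem exists_indec_retract : ∀ (d : ℕ) (M : C), P M → ¬ IsZero M →
    Module.finrank k (M ⟶ M) ≤ d →
    ∃ (F : C) (i : F ⟶ M) (r : M ⟶ F), i ≫ r = 𝟙 F ∧ Indec F := by
  intro d
  induction d with
  | zero =>
    intro M hM hz hd
    exact absurd (isZero_of_finrank_eq_zero k P hfin M hM (Nat.le_zero.mp hd)) hz
  | succ d ih =>
    intro M hM hz hd
    by_cases hi : Indec M
    · exact ⟨M, 𝟙 M, 𝟙 M, Category.id_comp _, hi⟩
    · have hex : ∃ A B : C, Nonempty (M ≅ A ⊞ B) ∧ ¬ IsZero A ∧ ¬ IsZero B := by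
        by_contra hcon
        apply hi
        refine ⟨hz, fun A B hAB => ?_⟩
        by_contra hne
        rw [not_or] at hne
        exact hcon ⟨A, B, hAB, hne.1, hne.2⟩
      obtain ⟨A, B, ⟨e⟩, hA, hB⟩ := hex
      haveI := hfin M hM
      have hPA : P A := hP (biprod.inl ≫ e.inv) (e.hom ≫ biprod.fst) (by simp) hM
      have hlt : Module.finrank k (A ⟶ A) < Module.finrank k (M ⟶ M) :=
        finrank_end_lt k (e ≪≫ biprod.braiding A B) hB
      obtain ⟨F, i, r, hir, hF⟩ := ih A hPA hA (by omega)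
      refine ⟨F, i ≫ biprod.inl ≫ e.inv, e.hom ≫ biprod.fst ≫ r, ?_, hF⟩
      simp [hir]

include hP hfin in
/-- **Krull–Schmidt, existence**. -/
theorem exists_decomp : ∀ (d : ℕ) (M : C), P M → Module.finrank k (M ⟶ M) ≤ d →
    ∃ (n : ℕ) (Fs : Fin n → C), (∀ i, Indec (Fs i)) ∧ Nonempty (M ≅ ⨁ Fs) := by
  intro d
  induction d with
  | zero =>
    intro M hM hd
    have hz := isZero_of_finrank_eq_zero k P hfin M hM (Nat.le_zero.mp hd)
    exact ⟨0, fun i => i.elim0, fun i => i.elim0, ⟨hz.iso (isZero_biproduct_fin_zero _)⟩⟩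
  | succ d ih =>
    intro M hM hd
    by_cases hz : IsZero M
    · exact ⟨0, fun i => i.elim0, fun i => i.elim0, ⟨hz.iso (isZero_biproduct_fin_zero _)⟩⟩
    · obtain ⟨F, i, r, hir, hF⟩ := exists_indec_retract k P hP hfin _ M hM hz le_rfl
      haveI := hfin M hM
      let e : M ≅ F ⊞ cokernel i := isoBiprodOfRetract i r hir
      have hPQ : P (cokernel i) :=
        hP (biprod.inr ≫ e.inv) (e.hom ≫ biprod.snd) (by simp) hM
      have hlt : Module.finrank k (cokernel i ⟶ cokernel i) < Module.finrank k (M ⟶ M) :=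
        finrank_end_lt k e hF.1
      obtain ⟨n, Fs, hFs, ⟨eQ⟩⟩ := ih (cokernel i) hPQ (by omega)
      refine ⟨n + 1, Fin.cons F Fs, ?_, ⟨e ≪≫ biprod.mapIso (Iso.refl F) eQ ≪≫ consIso F Fs⟩⟩
      intro l
      refine Fin.cases ?_ (fun l' => ?_) l
      · simpa using hF
      · simpa using hFs l'

end Exist

end

end Groth.Agent.LD.KSch
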