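import Groth.Agent.Lib.Lead.KSch.Basic
import Groth.Agent.Lib.Helper5.LinEq.A
import Groth.Agent.H4.PSch4

/-!
# Krull–Schmidt for coherent modules on a proper scheme over a field
-/

set_option autoImplicit false
set_option linter.style.haveILetI false
universe u
open CategoryTheory CategoryTheory.Limits AlgebraicGeometry

namespace Groth.Agent.LD.KSch

attribute [local instance] Abelian.hasFiniteBiproducts

section

variable {X : Scheme.{u}}

/-- a retract of a coherent module is coherent. -/
lemma isCoh_of_retract {A M : X.Modules} (i : A ⟶ M) (r : M ⟶ A) (h : i ≫ r = 𝟙 A)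
    (hM : Coh.IsCoh M) : Coh.IsCoh A := by
  haveI : M.IsQuasicoherent := hM.1
  haveI : Epi r := (SplitEpi.mk i h).epi
  exact Groth.Agent.H4.PSch4.isCoh_of_epi r hM (Groth.Agent.LD.QC.qc_of_retract i r h)

/-- the summands of a coherent module are coherent. -/
lemma isCoh_of_iso_biproduct {n : ℕ} {M : X.Modules} (Fs : Fin n → X.Modules)
    (e : M ≅ ⨁ Fs) (hM : Coh.IsCoh M) (i : Fin n) : Coh.IsCoh (Fs i) :=
  isCoh_of_retract (biproduct.ι Fs i ≫ e.inv) (e.hom ≫ biproduct.π Fs i) (by simp) hM

end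

variable (k : Type u) [Field k] (X : Scheme.{u}) [X.Over (Spec (CommRingCat.of k))]
  [IsProper (X ↘ Spec (CommRingCat.of k))]

include k in
/-- **Fitting**: an indecomposable coherent module on a proper `k`-scheme has local endomorphism
ring. -/
theorem le_of_indec_coh {F : X.Modules} (hF : Coh.IsCoh F) (hi : Indec F) : LE F := by
  haveI := Groth.Agent.H5.LinEq.finite_hom k X F F hF hF
  exact le_of_indec k hi

include k in
/-- existence of a decomposition into indecomposables. -/
theorem exists_decomp_coh (M : X.Modules) (hM : Coh.IsCoh M) :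
    ∃ (n : ℕ) (Fs : Fin n → X.Modules), (∀ i, Indec (Fs i)) ∧ Nonempty (M ≅ ⨁ Fs) :=
  exists_decomp k (fun M : X.Modules => Coh.IsCoh M)
    (fun i r h hM => isCoh_of_retract i r h hM)
    (fun M hM => Groth.Agent.H5.LinEq.finite_hom k X M M hM hM) _ M hM le_rfl

include k in
/-- uniqueness of the decomposition into indecomposables. -/
theorem ks_unique_coh (M : X.Modules) (hM : Coh.IsCoh M) (n m : ℕ) (Fs : Fin n → X.Modules)
    (Gs : Fin m → X.Modules) (hFs : ∀ i, Indec (Fs i)) (hGs : ∀ j, Indec (Gs j))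
    (eF : M ≅ ⨁ Fs) (eG : M ≅ ⨁ Gs) :
    ∃ e : Fin n ≃ Fin m, ∀ i, Nonempty (Fs i ≅ Gs (e i)) :=
  ks_unique n m Fs Gs
    (fun i => le_of_indec_coh k X (isCoh_of_iso_biproduct Fs eF hM i) (hFs i)) hGs
    ⟨eF.symm ≪≫ eG⟩

end Groth.Agent.LD.KSch
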