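import Groth.Agent.Lib.Lead.KSch.ND

/-!
# Descent along a base-change functor: retracts, isotypic objects, simplicity of endomorphism rings

Abstract complements to the Noether–Deuring theorem of `KSch/ND.lean`: for a functor
`Φ : C ⥤ D` from a `k`-linear abelian category to a `K`-linear one with
`K ⊗ Hom(E, E') ≃ Hom(ΦE, ΦE')`,

* `HBC.mem_of_map_mem`: a morphism `z` lies in a `k`-subspace `V` of `Hom(E, E')` as soon as `Φ z`
  lies in the additive group generated by the `K`-multiples of `Φ(V)`;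
* `iso_of_isotypic`: indecomposable objects `E`, `E'` with `ΦE ≅ W^r`, `ΦE' ≅ W^s` are isomorphic;
* `isotypic_decomp`: an object with `ΦE ≅ L^r`, `L` indecomposable, is a power of an indecomposable
  object, unique up to isomorphism;
* `id_mem_span_of_isotypic`: if `ΦE ≅ L^r` with `End L = K`, every nonzero endomorphism of `E`
  generates the unit two-sided ideal of `End E`.
-/

set_option autoImplicit false
universe w v₁ u₁ v₂ u₂
open CategoryTheory CategoryTheory.Limits TensorProduct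

namespace Groth.Agent.LD.KSch

noncomputable section

attribute [local instance] Abelian.hasFiniteBiproducts

section Abs

variable {C : Type u₁} [Category.{v₁} C] [Abelian C]

/-- an object with local endomorphism ring which is a retract of a finite direct sum is a retract of
one of the summands. -/
theorem LE.retract_of_retract_biproduct {A : C} (hA : LE A) {n : ℕ} (Fs : Fin n → C)
    (i : A ⟶ ⨁ Fs) (r : ⨁ Fs ⟶ A) (h : i ≫ r = 𝟙 A) :
    ∃ (j : Fin n) (α : A ⟶ Fs j) (ρ : Fs j ⟶ A), α ≫ ρ = 𝟙 A := by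
  have h1 : ∀ j, (i ≫ biproduct.π Fs j) ≫ (biproduct.ι Fs j ≫ r) =
      i ≫ (biproduct.π Fs j ≫ biproduct.ι Fs j) ≫ r := by
    intro j; simp only [Category.assoc]
  have hsum : ∑ j, (i ≫ biproduct.π Fs j) ≫ (biproduct.ι Fs j ≫ r) = 𝟙 A := by
    rw [Finset.sum_congr rfl (fun j _ => h1 j), ← Preadditive.comp_sum, ← Preadditive.sum_comp,
      biproduct.total, Category.id_comp, h]
  have hiso : IsIso (∑ j ∈ Finset.univ,
      (fun j => (i ≫ biproduct.π Fs j) ≫ (biproduct.ι Fs j ≫ r)) j) := by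
    have h2 : IsIso (𝟙 A) := inferInstance
    rw [← hsum] at h2
    exact h2
  obtain ⟨j, -, hj⟩ := hA.exists_isIso_of_isIso_sum
    (fun j => (i ≫ biproduct.π Fs j) ≫ (biproduct.ι Fs j ≫ r)) Finset.univ hiso
  haveI : IsIso ((i ≫ biproduct.π Fs j) ≫ (biproduct.ι Fs j ≫ r)) := hj
  exact ⟨j, i ≫ biproduct.π Fs j,
    (biproduct.ι Fs j ≫ r) ≫ inv ((i ≫ biproduct.π Fs j) ≫ (biproduct.ι Fs j ≫ r)),
    by rw [← Category.assoc, IsIso.hom_inv_id]⟩

end Abs

section Lin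

variable (k : Type w) [Field k] {C : Type u₁} [Category.{v₁} C] [Abelian C] [Linear k C]

/-- if the identity of an object with local endomorphism ring lies in the span of the composites
`φ ≫ g ≫ ψ`, one of these composites is invertible. -/
theorem LE.exists_isIso_of_id_mem_span {E E₂ E₃ : C} (hE : LE E) (g : E₂ ⟶ E₃)
    (h1 : (𝟙 E : E ⟶ E) ∈ Submodule.span k
      {z : E ⟶ E | ∃ (φ : E ⟶ E₂) (ψ : E₃ ⟶ E), z = φ ≫ g ≫ ψ}) :
    ∃ (φ : E ⟶ E₂) (ψ : E₃ ⟶ E), IsIso (φ ≫ g ≫ ψ) := by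
  have hsm : ∀ (a : k) (l : List ((E ⟶ E₂) × (E₃ ⟶ E))),
      a • (l.map (fun p => p.1 ≫ g ≫ p.2)).sum =
        ((l.map (fun p => (a • p.1, p.2))).map (fun p => p.1 ≫ g ≫ p.2)).sum := by
    intro a l
    induction l with
    | nil => simp
    | cons p l ih => simp only [List.map_cons, List.sum_cons, smul_add, ih, Linear.smul_comp]
  have h4 : ∀ z ∈ Submodule.span k {z : E ⟶ E | ∃ (φ : E ⟶ E₂) (ψ : E₃ ⟶ E), z = φ ≫ g ≫ ψ},
      ∃ l : List ((E ⟶ E₂) × (E₃ ⟶ E)), z = (l.map (fun p => p.1 ≫ g ≫ p.2)).sum := by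
    intro z hz
    refine Submodule.span_induction
      (p := fun z _ => ∃ l : List ((E ⟶ E₂) × (E₃ ⟶ E)),
        z = (l.map (fun p => p.1 ≫ g ≫ p.2)).sum)
      ?_ ?_ ?_ ?_ hz
    · rintro z ⟨φ, ψ, rfl⟩
      exact ⟨[(φ, ψ)], by simp⟩
    · exact ⟨[], by simp⟩
    · rintro x y _ _ ⟨l₁, rfl⟩ ⟨l₂, rfl⟩
      exact ⟨l₁ ++ l₂, by simp⟩
    · rintro a x _ ⟨l, rfl⟩
      exact ⟨l.map (fun p => (a • p.1, p.2)), hsm a l⟩
  obtain ⟨l, hl⟩ := h4 _ h1
  obtain ⟨x, hx, hx'⟩ := hE.exists_isIso_of_isIso_list_sum (l.map (fun p => p.1 ≫ g ≫ p.2))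
    (by rw [← hl]; infer_instance)
  obtain ⟨p, -, rfl⟩ := List.mem_map.mp hx
  exact ⟨p.1, p.2, hx'⟩

/-- an endomorphism generating the unit ideal of a local endomorphism ring is invertible. -/
theorem LE.isIso_of_id_mem_span {E : C} (hE : LE E) (f : E ⟶ E)
    (h1 : (𝟙 E : E ⟶ E) ∈ Submodule.span k
      {z : E ⟶ E | ∃ (φ ψ : E ⟶ E), z = φ ≫ f ≫ ψ}) : IsIso f := by
  obtain ⟨φ, ψ, h⟩ := hE.exists_isIso_of_id_mem_span k f h1
  haveI := h
  haveI := hE.isIso_right_of_isIso_comp φ (f ≫ ψ)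
  exact hE.isIso_left_of_isIso_comp f ψ

/-- if every nonzero endomorphism generates the unit ideal, the endomorphism ring is simple. -/
theorem isSimpleRing_end_of_gen {E : C} (hE0 : ¬ IsZero E)
    (hgen : ∀ f : E ⟶ E, f ≠ 0 → (𝟙 E : E ⟶ E) ∈ Submodule.span k
      {z : E ⟶ E | ∃ (φ ψ : E ⟶ E), z = φ ≫ f ≫ ψ}) :
    IsSimpleRing (End E) := by
  haveI : Nontrivial (End E) :=
    ⟨⟨(1 : End E), 0, fun h => hE0 ((IsZero.iff_id_eq_zero E).mpr h)⟩⟩
  apply IsSimpleRing.of_eq_bot_or_eq_top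
  intro I
  by_cases h : ∀ x ∈ I, x = 0
  · left
    refine SetLike.ext (fun x => ?_)
    rw [TwoSidedIdeal.mem_bot]
    exact ⟨h x, fun hx => hx ▸ I.zero_mem⟩
  · right
    push_neg at h
    obtain ⟨f, hfI, hf0⟩ := h
    rw [← TwoSidedIdeal.one_mem_iff]
    have h1 := hgen f hf0
    have h2 : ∀ z ∈ Submodule.span k {z : E ⟶ E | ∃ (φ ψ : E ⟶ E), z = φ ≫ f ≫ ψ},
        (z : End E) ∈ I := by
      intro z hz
      refine Submodule.span_induction (p := fun z _ => (z : End E) ∈ I) ?_ ?_ ?_ ?_ hz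
      · rintro z ⟨φ, ψ, rfl⟩
        have h3 : ((show End E from ψ) * (show End E from f)) * (show End E from φ) ∈ I :=
          I.mul_mem_right _ _ (I.mul_mem_left _ _ hfI)
        exact h3
      · exact I.zero_mem
      · intro x y _ _ hx hy
        exact I.add_mem hx hy
      · intro a x _ hx
        have h3 : (show End E from x) * (show End E from (a • 𝟙 E : E ⟶ E)) ∈ I :=
          I.mul_mem_right _ _ hx
        have h4 : (show End E from x) * (show End E from (a • 𝟙 E : E ⟶ E)) =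
            (a • x : E ⟶ E) := by
          change (a • 𝟙 E) ≫ x = a • x
          rw [Linear.smul_comp, Category.id_comp]
        rw [h4] at h3
        exact h3
    exact h2 _ h1

variable (P : C → Prop)
  (hP : ∀ {A M : C} (i : A ⟶ M) (r : M ⟶ A), i ≫ r = 𝟙 A → P M → P A)
  (hfin : ∀ M, P M → Module.Finite k (M ⟶ M))

include hP hfin in
/-- a retract of a finite power of an indecomposable object is a finite power of that object. -/
theorem iso_pow_of_retract {L M : C} (hL : Indec L) (hM : P M) (r : ℕ)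
    (i : M ⟶ ⨁ fun _ : Fin r => L) (ρ : (⨁ fun _ : Fin r => L) ⟶ M) (h : i ≫ ρ = 𝟙 M) :
    ∃ a : ℕ, Nonempty (M ≅ ⨁ fun _ : Fin a => L) := by
  obtain ⟨n, Fs, hFs, ⟨eM⟩⟩ := exists_decomp k P hP hfin _ M hM le_rfl
  have hiso : ∀ j, Nonempty (Fs j ≅ L) := by
    intro j
    have hPj : P (Fs j) :=
      hP (biproduct.ι Fs j ≫ eM.inv) (eM.hom ≫ biproduct.π Fs j) (by simp) hM
    haveI := hfin _ hPj
    have hLE : LE (Fs j) := le_of_indec k (hFs j)
    have h2 : i ≫ ρ ≫ eM.hom ≫ biproduct.π Fs j = eM.hom ≫ biproduct.π Fs j := by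
      rw [← Category.assoc, h, Category.id_comp]
    have h1 : ((biproduct.ι Fs j ≫ eM.inv) ≫ i) ≫ (ρ ≫ (eM.hom ≫ biproduct.π Fs j)) =
        𝟙 (Fs j) := by
      simp only [Category.assoc, h2, Iso.inv_hom_id_assoc, biproduct.ι_π_self]
    obtain ⟨t, α, ρ', hαρ⟩ := hLE.retract_of_retract_biproduct (fun _ : Fin r => L) _ _ h1
    haveI := isIso_of_splitMono_indec (hFs j).1 hL α ρ' hαρ
    exact ⟨asIso α⟩
  exact ⟨n, ⟨eM ≪≫ biproduct.mapIso (fun j => (hiso j).some)⟩⟩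

end Lin

section BC

variable (k K : Type w) [Field k] [Field K] [Algebra k K]
variable {C : Type u₁} [Category.{v₁} C] [Abelian C] [Linear k C]
variable {D : Type u₂} [Category.{v₂} D] [Abelian D] [Linear K D]
variable (Φ : C ⥤ D)

/-- the additive group generated by the `K`-multiples of the images of the morphisms in `V`. -/
def spanMap {E E' : C} (V : Submodule k (E ⟶ E')) : AddSubgroup (Φ.obj E ⟶ Φ.obj E') :=
  AddSubgroup.closure {y : Φ.obj E ⟶ Φ.obj E' | ∃ (c : K) (φ : E ⟶ E'), φ ∈ V ∧ y = c • Φ.map φ}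

variable {k K Φ}

/-- the extension of a functional to the base change. -/
def extFun' {E E' : C} (l : (E ⟶ E') →ₗ[k] k) : K ⊗[k] (E ⟶ E') →ₗ[k] K :=
  (TensorProduct.rid k K).toLinearMap ∘ₗ (LinearMap.lTensor K l)

lemma extFun'_tmul {E E' : C} (l : (E ⟶ E') →ₗ[k] k) (c : K) (f : E ⟶ E') :
    extFun' (K := K) l (c ⊗ₜ[k] f) = l f • c := by
  simp [extFun']

/-- the additive functional on `Hom(ΦE, ΦE')` attached to a functional on `Hom(E, E')`. -/
def HBC.lam {E E' : C} (h : HBC k K Φ E E') (l : (E ⟶ E') →ₗ[k] k) :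
    (Φ.obj E ⟶ Φ.obj E') →+ K :=
  (extFun' (K := K) l).toAddMonoidHom.comp
    (AddEquiv.ofBijective h.T h.bij).symm.toAddMonoidHom

lemma HBC.lam_smul_map {E E' : C} (h : HBC k K Φ E E') (l : (E ⟶ E') →ₗ[k] k) (c : K)
    (φ : E ⟶ E') : h.lam l (c • Φ.map φ) = l φ • c := by
  have h0 : (AddEquiv.ofBijective h.T h.bij).symm (c • Φ.map φ) = c ⊗ₜ[k] φ := by
    rw [AddEquiv.symm_apply_eq]
    exact (h.tmul c φ).symm
  change extFun' (K := K) l ((AddEquiv.ofBijective h.T h.bij).symm (c • Φ.map φ)) = _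
  rw [h0, extFun'_tmul]

/-- **descent of membership in a subspace of morphisms.** -/
theorem HBC.mem_of_map_mem {E E' : C} (h : HBC k K Φ E E') (V : Submodule k (E ⟶ E'))
    (z : E ⟶ E') (hz : Φ.map z ∈ spanMap k K Φ V) : z ∈ V := by
  by_contra hn
  obtain ⟨l, hl1, hlV⟩ := Submodule.exists_dual_map_eq_bot_of_notMem hn inferInstance
  have hl0 : ∀ φ ∈ V, l φ = 0 := by
    intro φ hφ
    have h0 : l φ ∈ Submodule.map l V := Submodule.mem_map_of_mem hφ
    rw [hlV] at h0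
    exact (Submodule.mem_bot k).mp h0
  have h1 : h.lam l (Φ.map z) = 0 := by
    have hz' : Φ.map z ∈ AddSubgroup.closure {y : Φ.obj E ⟶ Φ.obj E' |
        ∃ (c : K) (φ : E ⟶ E'), φ ∈ V ∧ y = c • Φ.map φ} := hz
    refine AddSubgroup.closure_induction (p := fun y _ => h.lam l y = 0) ?_ ?_ ?_ ?_ hz'
    · rintro y ⟨c, φ, hφ, rfl⟩
      rw [h.lam_smul_map, hl0 φ hφ, zero_smul]
    · exact map_zero _
    · intro x y _ _ hx hy
      rw [map_add, hx, hy, add_zero]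
    · intro x _ hx
      rw [map_neg, hx, neg_zero]
  have h2 : h.lam l (Φ.map z) = l z • (1 : K) := by
    have h3 := h.lam_smul_map l 1 z
    rwa [one_smul] at h3
  rw [h2] at h1
  rcases smul_eq_zero.mp h1 with h3 | h3
  · exact hl1 h3
  · exact one_ne_zero h3

/-- composites through `Φ g` of arbitrary morphisms lie in the group generated by the images of
the composites through `g`. -/
theorem comp_mem_spanMap {E₁ E₂ E₃ E₄ : C} (h1 : HBC k K Φ E₁ E₂) (h2 : HBC k K Φ E₃ E₄)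
    (g : E₂ ⟶ E₃) (V : Submodule k (E₁ ⟶ E₄))
    (hV : ∀ (φ : E₁ ⟶ E₂) (ψ : E₃ ⟶ E₄), φ ≫ g ≫ ψ ∈ V)
    (α : Φ.obj E₁ ⟶ Φ.obj E₂) (β : Φ.obj E₃ ⟶ Φ.obj E₄) :
    α ≫ Φ.map g ≫ β ∈ spanMap k K Φ V := by
  obtain ⟨x, rfl⟩ := h1.bij.2 α
  obtain ⟨y, rfl⟩ := h2.bij.2 β
  induction x using TensorProduct.induction_on with
  | zero =>
    simp only [map_zero, Limits.zero_comp]
    exact zero_mem _
  | add x x' hx hx' =>
    rw [map_add, Preadditive.add_comp]
    exact add_mem hx hx'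
  | tmul c φ =>
    induction y using TensorProduct.induction_on with
    | zero =>
      simp only [map_zero, Limits.comp_zero]
      exact zero_mem _
    | add y y' hy hy' =>
      rw [map_add, Preadditive.comp_add, Preadditive.comp_add]
      exact add_mem hy hy'
    | tmul d ψ =>
      refine AddSubgroup.subset_closure ⟨c * d, φ ≫ g ≫ ψ, hV φ ψ, ?_⟩
      rw [h1.tmul, h2.tmul, Linear.smul_comp, Linear.comp_smul, Linear.comp_smul, smul_smul,
        Φ.map_comp, Φ.map_comp]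

/-- **descent of retracts**, with the identity of `ΦE` a sum of composites through `ΦE'`. -/
theorem retract_of_sum_retract_map {E E' : C} (hEE' : HBC k K Φ E E') (hE'E : HBC k K Φ E' E)
    (hEE : HBC k K Φ E E) (hE : LE E) {ι : Type*} (s : Finset ι)
    (α : ι → (Φ.obj E ⟶ Φ.obj E')) (β : ι → (Φ.obj E' ⟶ Φ.obj E))
    (hαβ : ∑ t ∈ s, α t ≫ β t = 𝟙 (Φ.obj E)) :
    ∃ (i : E ⟶ E') (r : E' ⟶ E), i ≫ r = 𝟙 E := by
  have hV : ∀ (φ : E ⟶ E') (ψ : E' ⟶ E), φ ≫ 𝟙 E' ≫ ψ ∈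
      Submodule.span k {z : E ⟶ E | ∃ (φ : E ⟶ E') (ψ : E' ⟶ E), z = φ ≫ 𝟙 E' ≫ ψ} :=
    fun φ ψ => Submodule.subset_span ⟨φ, ψ, rfl⟩
  have hmem : Φ.map (𝟙 E) ∈ spanMap k K Φ
      (Submodule.span k {z : E ⟶ E | ∃ (φ : E ⟶ E') (ψ : E' ⟶ E), z = φ ≫ 𝟙 E' ≫ ψ}) := by
    rw [Φ.map_id, ← hαβ]
    refine sum_mem (fun t _ => ?_)
    have h0 : α t ≫ β t = α t ≫ Φ.map (𝟙 E') ≫ β t := by
      rw [Φ.map_id, Category.id_comp]
    rw [h0]
    exact comp_mem_spanMap hEE' hE'E (𝟙 E') _ hV (α t) (β t)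
  have h1 := hEE.mem_of_map_mem _ (𝟙 E) hmem
  obtain ⟨φ, ψ, hiso⟩ := hE.exists_isIso_of_id_mem_span k (𝟙 E') h1
  haveI := hiso
  exact ⟨φ, (𝟙 E' ≫ ψ) ≫ inv (φ ≫ 𝟙 E' ≫ ψ), by rw [← Category.assoc, IsIso.hom_inv_id]⟩

/-- **indecomposable objects which become powers of the same object are isomorphic.** -/
theorem iso_of_isotypic {E E' : C} (hEE' : HBC k K Φ E E') (hE'E : HBC k K Φ E' E)
    (hEE : HBC k K Φ E E) (hE'E' : HBC k K Φ E' E') (hE : LE E) (hE' : Indec E') {W : D}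
    (r s : ℕ) (eE : Φ.obj E ≅ ⨁ fun _ : Fin r => W) (eE' : Φ.obj E' ≅ ⨁ fun _ : Fin s => W) :
    Nonempty (E ≅ E') := by
  have hs : 0 < s := by
    by_contra h0
    have hs0 : s = 0 := by omega
    subst hs0
    exact hE'.1 (isZero_of_isZero_map hE'E' ((isZero_biproduct_fin_zero _).of_iso eE'))
  have hterm : ∀ t : Fin r,
      (eE.hom ≫ biproduct.π (fun _ : Fin r => W) t ≫
          biproduct.ι (fun _ : Fin s => W) ⟨0, hs⟩ ≫ eE'.inv) ≫
        (eE'.hom ≫ biproduct.π (fun _ : Fin s => W) ⟨0, hs⟩ ≫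
          biproduct.ι (fun _ : Fin r => W) t ≫ eE.inv) =
      eE.hom ≫ (biproduct.π (fun _ : Fin r => W) t ≫ biproduct.ι (fun _ : Fin r => W) t) ≫
        eE.inv := by
    intro t
    simp
  obtain ⟨i, ρ, hiρ⟩ := retract_of_sum_retract_map hEE' hE'E hEE hE Finset.univ
    (fun t : Fin r => eE.hom ≫ biproduct.π (fun _ : Fin r => W) t ≫
      biproduct.ι (fun _ : Fin s => W) ⟨0, hs⟩ ≫ eE'.inv)
    (fun t : Fin r => eE'.hom ≫ biproduct.π (fun _ : Fin s => W) ⟨0, hs⟩ ≫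
      biproduct.ι (fun _ : Fin r => W) t ≫ eE.inv)
    (by
      rw [Finset.sum_congr rfl (fun t _ => hterm t), ← Preadditive.comp_sum,
        ← Preadditive.sum_comp, biproduct.total, Category.id_comp, eE.hom_inv_id])
  haveI := isIso_of_splitMono_indec hE.1 hE' i ρ hiρ
  exact ⟨asIso i⟩

/-- **isotypic objects**: if `ΦE` is a power of an indecomposable object, `E` is a power of an
indecomposable object, which is unique up to isomorphism. -/
theorem isotypic_decomp (PC : C → Prop) (PD : D → Prop)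
    (hPC : ∀ {A M : C} (i : A ⟶ M) (r : M ⟶ A), i ≫ r = 𝟙 A → PC M → PC A)
    (hfinC : ∀ M, PC M → Module.Finite k (M ⟶ M))
    (hPD : ∀ {A M : D} (i : A ⟶ M) (r : M ⟶ A), i ≫ r = 𝟙 A → PD M → PD A)
    (hfinD : ∀ M, PD M → Module.Finite K (M ⟶ M))
    (hΦ : ∀ M, PC M → PD (Φ.obj M))
    (hbc : ∀ E E', PC E → PC E' → Nonempty (HBC k K Φ E E'))
    (E : C) (hE : PC E) (hE0 : ¬ IsZero E) (L : D) (hL : Indec L) (r : ℕ)
    (e : Φ.obj E ≅ ⨁ fun _ : Fin r => L) :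
    (∃ (G : C) (n : ℕ), PC G ∧ Indec G ∧ Nonempty (E ≅ ⨁ fun _ : Fin n => G)) ∧
    (∀ (G G' : C) (n m : ℕ), Indec G → Indec G' → Nonempty (E ≅ ⨁ fun _ : Fin n => G) →
      Nonempty (E ≅ ⨁ fun _ : Fin m => G') → Nonempty (G ≅ G')) := by
  refine ⟨?_, ?_⟩
  · obtain ⟨n, Gs, hGs, ⟨eG⟩⟩ := exists_decomp k PC hPC hfinC _ E hE le_rfl
    have hPG : ∀ j, PC (Gs j) := fun j =>
      hPC (biproduct.ι Gs j ≫ eG.inv) (eG.hom ≫ biproduct.π Gs j) (by simp) hE
    have hpow : ∀ j, ∃ a : ℕ, Nonempty (Φ.obj (Gs j) ≅ ⨁ fun _ : Fin a => L) := by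
      intro j
      refine iso_pow_of_retract K PD hPD hfinD hL (hΦ _ (hPG j)) r
        (Φ.map (biproduct.ι Gs j ≫ eG.inv) ≫ e.hom)
        (e.inv ≫ Φ.map (eG.hom ≫ biproduct.π Gs j)) ?_
      have h0 : (biproduct.ι Gs j ≫ eG.inv) ≫ eG.hom ≫ biproduct.π Gs j = 𝟙 _ := by simp
      rw [Category.assoc, e.hom_inv_id_assoc, ← Φ.map_comp, h0, Φ.map_id]
    have hn : 0 < n := by
      by_contra h0
      have hn0 : n = 0 := by omega
      subst hn0
      exact hE0 ((isZero_biproduct_fin_zero _).of_iso eG)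
    have hiso : ∀ j, Nonempty (Gs j ≅ Gs ⟨0, hn⟩) := by
      intro j
      obtain ⟨a, ⟨ea⟩⟩ := hpow j
      obtain ⟨b, ⟨eb⟩⟩ := hpow ⟨0, hn⟩
      obtain ⟨h1⟩ := hbc _ _ (hPG j) (hPG ⟨0, hn⟩)
      obtain ⟨h2⟩ := hbc _ _ (hPG ⟨0, hn⟩) (hPG j)
      obtain ⟨h3⟩ := hbc _ _ (hPG j) (hPG j)
      obtain ⟨h4⟩ := hbc _ _ (hPG ⟨0, hn⟩) (hPG ⟨0, hn⟩)
      haveI := hfinC _ (hPG j)
      exact iso_of_isotypic h1 h2 h3 h4 (le_of_indec k (hGs j)) (hGs ⟨0, hn⟩) a b ea eb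
    exact ⟨Gs ⟨0, hn⟩, n, hPG _, hGs _,
      ⟨eG ≪≫ biproduct.mapIso (fun j => (hiso j).some)⟩⟩
  · intro G G' n m hG hG' ⟨e1⟩ ⟨e2⟩
    have hn : 0 < n := by
      by_contra h0
      have hn0 : n = 0 := by omega
      subst hn0
      exact hE0 ((isZero_biproduct_fin_zero _).of_iso e1)
    have hPG : PC G :=
      hPC (biproduct.ι (fun _ : Fin n => G) ⟨0, hn⟩ ≫ e1.inv)
        (e1.hom ≫ biproduct.π (fun _ : Fin n => G) ⟨0, hn⟩) (by simp) hE
    haveI := hfinC _ hPG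
    obtain ⟨σ, hσ⟩ := ks_unique n m (fun _ => G) (fun _ => G') (fun _ => le_of_indec k hG)
      (fun _ => hG') ⟨e1.symm ≪≫ e2⟩
    exact hσ ⟨0, hn⟩

/-- **generation of the unit ideal**: if `ΦE` is a power of an object all of whose endomorphisms are
scalars, every nonzero endomorphism of `E` generates the unit two-sided ideal. -/
theorem id_mem_span_of_isotypic {E : C} (hEE : HBC k K Φ E E) {L : D} (r : ℕ)
    (e : Φ.obj E ≅ ⨁ fun _ : Fin r => L) (hL : ∀ u : L ⟶ L, ∃ c : K, u = c • 𝟙 L)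
    (f : E ⟶ E) (hf : f ≠ 0) :
    (𝟙 E : E ⟶ E) ∈ Submodule.span k {z : E ⟶ E | ∃ (φ ψ : E ⟶ E), z = φ ≫ f ≫ ψ} := by
  have hΦf : Φ.map f ≠ 0 := by
    intro h0
    apply hf
    have h1 : f ∈ (⊥ : Submodule k (E ⟶ E)) := by
      apply hEE.mem_of_map_mem
      rw [h0]
      exact zero_mem _
    exact (Submodule.mem_bot k).mp h1
  have hF0 : e.inv ≫ Φ.map f ≫ e.hom ≠ 0 := by
    intro h0
    apply hΦf
    have h1 : Φ.map f = e.hom ≫ (e.inv ≫ Φ.map f ≫ e.hom) ≫ e.inv := by simp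
    rw [h1, h0, Limits.zero_comp, Limits.comp_zero]
  have hex : ∃ a b, biproduct.ι (fun _ : Fin r => L) a ≫ (e.inv ≫ Φ.map f ≫ e.hom) ≫
      biproduct.π (fun _ : Fin r => L) b ≠ 0 := by
    by_contra hcon
    apply hF0
    apply biproduct.hom_ext'
    intro a
    apply biproduct.hom_ext
    intro b
    rw [Limits.comp_zero, Limits.zero_comp, Category.assoc]
    by_contra h9
    exact hcon ⟨a, b, h9⟩
  obtain ⟨a, b, hab⟩ := hex
  obtain ⟨c, hc⟩ := hL (biproduct.ι (fun _ : Fin r => L) a ≫ (e.inv ≫ Φ.map f ≫ e.hom) ≫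
      biproduct.π (fun _ : Fin r => L) b)
  have hc0 : c ≠ 0 := by
    rintro rfl
    rw [zero_smul] at hc
    exact hab hc
  have hterm : ∀ t : Fin r,
      (e.hom ≫ biproduct.π (fun _ : Fin r => L) t ≫
          (c⁻¹ • biproduct.ι (fun _ : Fin r => L) a) ≫ e.inv) ≫
        Φ.map f ≫ (e.hom ≫ biproduct.π (fun _ : Fin r => L) b ≫
          biproduct.ι (fun _ : Fin r => L) t ≫ e.inv) =
      e.hom ≫ (biproduct.π (fun _ : Fin r => L) t ≫ biproduct.ι (fun _ : Fin r => L) t) ≫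
        e.inv := by
    intro t
    have h1 : (e.hom ≫ biproduct.π (fun _ : Fin r => L) t ≫
          (c⁻¹ • biproduct.ι (fun _ : Fin r => L) a) ≫ e.inv) ≫
        Φ.map f ≫ (e.hom ≫ biproduct.π (fun _ : Fin r => L) b ≫
          biproduct.ι (fun _ : Fin r => L) t ≫ e.inv) =
        e.hom ≫ biproduct.π (fun _ : Fin r => L) t ≫
          (c⁻¹ • (biproduct.ι (fun _ : Fin r => L) a ≫ (e.inv ≫ Φ.map f ≫ e.hom) ≫
            biproduct.π (fun _ : Fin r => L) b)) ≫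
          biproduct.ι (fun _ : Fin r => L) t ≫ e.inv := by
      simp only [Category.assoc, Linear.smul_comp, Linear.comp_smul]
    rw [h1, hc, smul_smul, inv_mul_cancel₀ hc0, one_smul]
    simp only [Category.id_comp, Category.assoc]
  have hsum : ∑ t : Fin r,
      (e.hom ≫ biproduct.π (fun _ : Fin r => L) t ≫
          (c⁻¹ • biproduct.ι (fun _ : Fin r => L) a) ≫ e.inv) ≫
        Φ.map f ≫ (e.hom ≫ biproduct.π (fun _ : Fin r => L) b ≫
          biproduct.ι (fun _ : Fin r => L) t ≫ e.inv) = 𝟙 (Φ.obj E) := by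
    rw [Finset.sum_congr rfl (fun t _ => hterm t), ← Preadditive.comp_sum,
      ← Preadditive.sum_comp, biproduct.total, Category.id_comp, e.hom_inv_id]
  have hV : ∀ (φ ψ : E ⟶ E), φ ≫ f ≫ ψ ∈
      Submodule.span k {z : E ⟶ E | ∃ (φ ψ : E ⟶ E), z = φ ≫ f ≫ ψ} :=
    fun φ ψ => Submodule.subset_span ⟨φ, ψ, rfl⟩
  apply hEE.mem_of_map_mem
  rw [Φ.map_id, ← hsum]
  exact sum_mem (fun t _ => comp_mem_spanMap hEE hEE f _ hV _ _)

end BC

end

end Groth.Agent.LD.KSch
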