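import Groth.Agent.Lib.Lead.KSch.Iso
import Groth.Agent.Lib.Lead.XS.DualInv
import Groth.Agent.Lib.Lead.XS.Adj
import Groth.Agent.Lib.Lead.HF.Killed
import Groth.Agent.Lib.Lead.PD.HomAdj

/-!
# Duals of finite locally free modules and field extensions

* functoriality of the sheaf Hom in the first variable (`preHom_id`, `preHom_comp`, `preHom_add`),
  `𝓗om(⨁ Lᵢ, Z) ≅ ⨁ 𝓗om(Lᵢ, Z)`;
* the dual of a finite locally free module commutes with pullback (`dualPullbackIso`);
* `dvd_of_dual`: if `W`, `W'` are finite locally free on a proper `k`-scheme, `W'` indecomposable,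
  `W_K ≅ L^r`, `W'_K ≅ L'^{r'}` with `L ⊗ L' ≅ O` and `L'` indecomposable, then `r' ∣ r`.
-/

set_option autoImplicit false
set_option linter.style.haveILetI false
universe w v₁ u₁ u
open CategoryTheory CategoryTheory.Limits AlgebraicGeometry TopologicalSpace Opposite TensorProduct

namespace Groth.Agent.LD.KSch

open Groth.Agent.H2.HomSh Groth.Agent.LD Groth.Agent.LD.QC Groth.Agent.LD.PD.HA

attribute [-instance] Groth.Agent.LD.QC.stalkModule
attribute [local instance] Abelian.hasFiniteBiproducts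
attribute [local instance] overBC

noncomputable section

section Abs

variable {K : Type w} [Field K] {D : Type u₁} [Category.{v₁} D] [Abelian D] [Linear K D]

/-- a nonzero object all of whose endomorphisms are scalars is indecomposable. -/
theorem indec_of_end_scalar {L : D} (hL0 : ¬ IsZero L) (hL : ∀ u : L ⟶ L, ∃ c : K, u = c • 𝟙 L) :
    Indec L := by
  refine ⟨hL0, fun A B ⟨e⟩ => ?_⟩
  obtain ⟨c, hc⟩ := hL (e.hom ≫ biprod.fst ≫ biprod.inl ≫ e.inv)
  have hp : (e.hom ≫ biprod.fst ≫ biprod.inl ≫ e.inv) ≫ (e.hom ≫ biprod.fst ≫ biprod.inl ≫ e.inv) =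
      e.hom ≫ biprod.fst ≫ biprod.inl ≫ e.inv := by simp
  have hfi : (biprod.fst : A ⊞ B ⟶ A) ≫ (biprod.inl : A ⟶ A ⊞ B) =
      e.inv ≫ (e.hom ≫ biprod.fst ≫ biprod.inl ≫ e.inv) ≫ e.hom := by simp
  rw [hc, Linear.smul_comp, Linear.comp_smul, Category.id_comp, smul_smul] at hp
  have h1 : 𝟙 L ≠ 0 := fun h => hL0 ((IsZero.iff_id_eq_zero L).mpr h)
  have h2 : (c * c - c) • 𝟙 L = 0 := by rw [sub_smul, hp, sub_self]
  have h3 : c * c - c = 0 := by
    by_contra hne
    apply h1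
    have h0 : 𝟙 L = (c * c - c)⁻¹ • ((c * c - c) • 𝟙 L) := by
      rw [smul_smul, inv_mul_cancel₀ hne, one_smul]
    rw [h0, h2, smul_zero]
  have h4 : c * (c - 1) = 0 := by linear_combination h3
  rcases mul_eq_zero.mp h4 with h5 | h5
  · left
    rw [IsZero.iff_id_eq_zero]
    have h7 : (biprod.fst : A ⊞ B ⟶ A) ≫ (biprod.inl : A ⟶ A ⊞ B) = 0 := by
      rw [hfi, hc, h5, zero_smul, Limits.zero_comp, Limits.comp_zero]
    calc 𝟙 A = (biprod.inl : A ⟶ A ⊞ B) ≫
          ((biprod.fst : A ⊞ B ⟶ A) ≫ (biprod.inl : A ⟶ A ⊞ B)) ≫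
            (biprod.fst : A ⊞ B ⟶ A) := by simp
      _ = 0 := by rw [h7, Limits.zero_comp, Limits.comp_zero]
  · right
    have hc1 : c = 1 := sub_eq_zero.mp h5
    rw [IsZero.iff_id_eq_zero]
    have h7 : (biprod.fst : A ⊞ B ⟶ A) ≫ (biprod.inl : A ⟶ A ⊞ B) = 𝟙 (A ⊞ B) := by
      rw [hfi, hc, hc1, one_smul, Category.id_comp, e.inv_hom_id]
    calc 𝟙 B = (biprod.inr : B ⟶ A ⊞ B) ≫ 𝟙 (A ⊞ B) ≫ (biprod.snd : A ⊞ B ⟶ B) := by simp
      _ = (biprod.inr : B ⟶ A ⊞ B) ≫
          ((biprod.fst : A ⊞ B ⟶ A) ≫ (biprod.inl : A ⟶ A ⊞ B)) ≫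
            (biprod.snd : A ⊞ B ⟶ B) := by rw [h7]
      _ = 0 := by simp

end Abs

section General

variable {X : Scheme.{u}}

lemma stalkMapₗ_add {K E : X.Modules} (u u' : K ⟶ E) (x : X) :
    RefHull.stalkMapₗ (u + u') x = RefHull.stalkMapₗ u x + RefHull.stalkMapₗ u' x := by
  apply LinearMap.ext
  intro v
  obtain ⟨W, hx, m, rfl⟩ := TopCat.Presheaf.exists_germ_eq K.presheaf v
  rw [LinearMap.add_apply, RefHull.stalkMapₗ_germ, RefHull.stalkMapₗ_germ,
    RefHull.stalkMapₗ_germ]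
  show E.presheaf.germ W x hx (u.app W m + u'.app W m) = _
  exact map_add _ _ _

lemma preSec_add {K E Z : X.Modules} (u u' : K ⟶ E) {U : X.Opens}
    (g : Γ(RefHull.homSh E Z, U)) : preSec (u + u') g = preSec u g + preSec u' g := by
  apply hom_ext
  intro x hx
  change (g.1 ⟨x, hx⟩).comp (RefHull.stalkMapₗ (u + u') x) =
    (g.1 ⟨x, hx⟩).comp (RefHull.stalkMapₗ u x) + (g.1 ⟨x, hx⟩).comp (RefHull.stalkMapₗ u' x)
  rw [stalkMapₗ_add, LinearMap.comp_add]

lemma preSec_id {K Z : X.Modules} {U : X.Opens} (g : Γ(RefHull.homSh K Z, U)) :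
    preSec (𝟙 K) g = g := by
  apply hom_ext
  intro x hx
  change (g.1 ⟨x, hx⟩).comp (RefHull.stalkMapₗ (𝟙 K) x) = g.1 ⟨x, hx⟩
  rw [XS.stalkMapₗ_id]
  exact LinearMap.comp_id _

lemma preSec_comp {K E F Z : X.Modules} (u : K ⟶ E) (v : E ⟶ F) {U : X.Opens}
    (g : Γ(RefHull.homSh F Z, U)) : preSec (u ≫ v) g = preSec u (preSec v g) := by
  apply hom_ext
  intro x hx
  change (g.1 ⟨x, hx⟩).comp (RefHull.stalkMapₗ (u ≫ v) x) =
    ((g.1 ⟨x, hx⟩).comp (RefHull.stalkMapₗ v x)).comp (RefHull.stalkMapₗ u x)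
  rw [HF.stalkMapₗ_comp, LinearMap.comp_assoc]

lemma preHom_add {K E : X.Modules} (u u' : K ⟶ E) (Z : X.Modules) :
    preHom (u + u') Z = preHom u Z + preHom u' Z := by
  apply Scheme.Modules.hom_ext
  intro U
  ext g
  exact preSec_add u u' g

lemma preHom_id (K Z : X.Modules) : preHom (𝟙 K) Z = 𝟙 (RefHull.homSh K Z) := by
  apply Scheme.Modules.hom_ext
  intro U
  ext g
  exact preSec_id g

lemma preHom_comp {K E F : X.Modules} (u : K ⟶ E) (v : E ⟶ F) (Z : X.Modules) :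
    preHom (u ≫ v) Z = preHom v Z ≫ preHom u Z := by
  apply Scheme.Modules.hom_ext
  intro U
  ext g
  exact preSec_comp u v g

/-- `preHom` as an additive map. -/
def preHomAdd (K E Z : X.Modules) : (K ⟶ E) →+ (RefHull.homSh E Z ⟶ RefHull.homSh K Z) :=
  AddMonoidHom.mk' (fun u => preHom u Z) (fun u u' => preHom_add u u' Z)

lemma preHom_zero (K E Z : X.Modules) : preHom (0 : K ⟶ E) Z = 0 :=
  map_zero (preHomAdd K E Z)

lemma preHom_sum {K E : X.Modules} (Z : X.Modules) {ι : Type*} (s : Finset ι)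
    (u : ι → (K ⟶ E)) : preHom (∑ i ∈ s, u i) Z = ∑ i ∈ s, preHom (u i) Z :=
  map_sum (preHomAdd K E Z) u s

/-- the sheaf Hom of isomorphic modules (first variable). -/
def preHomIso {K E : X.Modules} (e : K ≅ E) (Z : X.Modules) :
    RefHull.homSh E Z ≅ RefHull.homSh K Z where
  hom := preHom e.hom Z
  inv := preHom e.inv Z
  hom_inv_id := by rw [← preHom_comp, e.inv_hom_id, preHom_id]
  inv_hom_id := by rw [← preHom_comp, e.hom_inv_id, preHom_id]

/-- **the sheaf Hom out of a finite direct sum.** -/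
def homShBiproductIso {n : ℕ} (Ls : Fin n → X.Modules) (Z : X.Modules) :
    RefHull.homSh (⨁ Ls) Z ≅ ⨁ fun i => RefHull.homSh (Ls i) Z where
  hom := biproduct.lift (fun i => preHom (biproduct.ι Ls i) Z)
  inv := biproduct.desc (fun i => preHom (biproduct.π Ls i) Z)
  hom_inv_id := by
    rw [biproduct.lift_desc]
    have h1 : ∀ i, preHom (biproduct.ι Ls i) Z ≫ preHom (biproduct.π Ls i) Z =
        preHom (biproduct.π Ls i ≫ biproduct.ι Ls i) Z := fun i => (preHom_comp _ _ Z).symm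
    rw [Finset.sum_congr rfl (fun i _ => h1 i), ← preHom_sum, biproduct.total, preHom_id]
  inv_hom_id := by
    apply biproduct.hom_ext'
    intro i
    apply biproduct.hom_ext
    intro j
    simp only [Category.assoc, Category.comp_id, Category.id_comp, biproduct.ι_desc_assoc,
      biproduct.lift_π]
    rw [← preHom_comp]
    by_cases h : i = j
    · subst h
      rw [biproduct.ι_π_self, preHom_id, biproduct.ι_π_self]
    · rw [biproduct.ι_π_ne _ (Ne.symm h), preHom_zero, biproduct.ι_π_ne _ h]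

/-- `∐_s ∐_r A ≅ ∐_{rs} A`. -/
def sigmaPowIso (A : X.Modules) (r s : ℕ) :
    (∐ fun _ : Fin s => ∐ fun _ : Fin r => A) ≅ ∐ fun _ : Fin (r * s) => A :=
  sigmaSigmaIso (fun _ : Fin s => Fin r) (fun _ _ => A) ≪≫
  Sigma.whiskerEquiv (f := fun _ : (Σ _ : Fin s, Fin r) => A) (g := fun _ : Fin (r * s) => A)
    ((Equiv.sigmaEquivProd (Fin s) (Fin r)).trans
      (finProdFinEquiv.trans (finCongr (Nat.mul_comm s r))))
    (fun _ => Iso.refl _)

/-- **the dual of a finite locally free module commutes with pullback.** -/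
def dualPullbackIso {X' : Scheme.{u}} (h : X' ⟶ X) (F : X.Modules)
    (hF : FlatMod.IsFinLocFree F) :
    (Scheme.Modules.pullback h).obj (RefHull.homSh F (unitMod X)) ≅
      RefHull.homSh ((Scheme.Modules.pullback h).obj F) (unitMod X') :=
  haveI : (unitMod X).IsQuasicoherent := qc_of_isInvertible _ (isInvertible_unit X)
  haveI : IsIso (LF.homBC h F (unitMod X) (isFinitePresentation_of_isFinLocFree F hF)) :=
    LF.isIso_homBC h F (unitMod X) hF _
  asIso (LF.homBC h F (unitMod X) (isFinitePresentation_of_isFinLocFree F hF)) ≪≫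
    (XS.homShF ((Scheme.Modules.pullback h).obj F)).mapIso (pullbackUnitIso h)

/-- the dual of a power of a module with a tensor inverse. -/
theorem nonempty_dual_pow_iso (L L' : X.Modules) [L.IsQuasicoherent]
    (e : CohB1.tensorMod L L' ≅ unitMod X) (r : ℕ) :
    Nonempty (RefHull.homSh (∐ fun _ : Fin r => L) (unitMod X) ≅ ∐ fun _ : Fin r => L') := by
  obtain ⟨a⟩ := XS.DualInv.nonempty_dual_iso L L' e
  exact ⟨preHomIso (biproduct.isoCoproduct fun _ : Fin r => L) (unitMod X) ≪≫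
    homShBiproductIso (fun _ : Fin r => L) (unitMod X) ≪≫
    biproduct.mapIso (fun _ => a) ≪≫ biproduct.isoCoproduct _⟩

end General

section Dvd

variable (k : Type u) [Field k] (X : Scheme.{u}) [X.Over (Spec (CommRingCat.of k))]
  [IsProper (X ↘ Spec (CommRingCat.of k))] (K : Type u) [Field K] [Algebra k K]

/-- a finite locally free retract of a module whose base change is a power of an indecomposable
module has base change a power of that module. -/
theorem pow_of_retract_flf (L : (XK k X K).Modules) (hL : Indec L) (E G : X.Modules)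
    (hG : FlatMod.IsFinLocFree G) (i : G ⟶ E) (ρ : E ⟶ G) (h : i ≫ ρ = 𝟙 G) (r : ℕ)
    (e : (Scheme.Modules.pullback (prK k X K)).obj E ≅ ∐ fun _ : Fin r => L) :
    ∃ a : ℕ, Nonempty ((Scheme.Modules.pullback (prK k X K)).obj G ≅ ∐ fun _ : Fin a => L) := by
  obtain ⟨a, ⟨ea⟩⟩ := iso_pow_of_retract K (fun M : (XK k X K).Modules => Coh.IsCoh M)
    (fun i r h hM => isCoh_of_retract i r h hM) (fun M hM => finite_end_coh_XK k X K M hM) hL
    (Groth.Agent.H4.PSch4.isCoh_of_isFinLocFree _ (QC.isFinLocFree_pullback _ G hG)) r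
    ((Scheme.Modules.pullback (prK k X K)).map i ≫ e.hom ≫ (biproduct.isoCoproduct _).inv)
    ((biproduct.isoCoproduct _).hom ≫ e.inv ≫ (Scheme.Modules.pullback (prK k X K)).map ρ)
    (by
      simp only [Category.assoc, Iso.inv_hom_id_assoc, Iso.hom_inv_id_assoc]
      rw [← CategoryTheory.Functor.map_comp, h, CategoryTheory.Functor.map_id])
  exact ⟨a, ⟨ea ≪≫ biproduct.isoCoproduct _⟩⟩

/-- **divisibility of multiplicities under duality.** -/
theorem dvd_of_dual (L L' : (XK k X K).Modules) [L.IsQuasicoherent] (hL' : Indec L')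
    (e : CohB1.tensorMod L L' ≅ unitMod (XK k X K))
    (W W' : X.Modules) (hW : FlatMod.IsFinLocFree W) (hW' : FlatMod.IsFinLocFree W')
    (hW'i : Indec W') (r r' : ℕ)
    (eW : Nonempty ((Scheme.Modules.pullback (prK k X K)).obj W ≅ ∐ fun _ : Fin r => L))
    (eW' : Nonempty ((Scheme.Modules.pullback (prK k X K)).obj W' ≅ ∐ fun _ : Fin r' => L')) :
    r' ∣ r := by
  by_cases hr : r = 0
  · rw [hr]; exact dvd_zero _
  obtain ⟨a⟩ := eW
  haveI := Curve.isLocallyNoetherian k X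
  have hD : FlatMod.IsFinLocFree (RefHull.homSh W (unitMod X)) :=
    HF.isFinLocFree_homSh W (unitMod X) hW (isFinLocFree_of_isInvertible _ (isInvertible_unit X))
  obtain ⟨b⟩ := nonempty_dual_pow_iso L L' e r
  have eD : (Scheme.Modules.pullback (prK k X K)).obj (RefHull.homSh W (unitMod X)) ≅
      ∐ fun _ : Fin r => L' :=
    dualPullbackIso (prK k X K) W hW ≪≫ preHomIso a.symm (unitMod (XK k X K)) ≪≫ b
  have hr0 : 0 < r := Nat.pos_of_ne_zero hr
  have hcohD : Coh.IsCoh ((Scheme.Modules.pullback (prK k X K)).obj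
      (RefHull.homSh W (unitMod X))) :=
    Groth.Agent.H4.PSch4.isCoh_of_isFinLocFree _ (QC.isFinLocFree_pullback _ _ hD)
  have hcohL' : Coh.IsCoh L' :=
    isCoh_of_retract
      (biproduct.ι (fun _ : Fin r => L') ⟨0, hr0⟩ ≫ (biproduct.isoCoproduct _).hom ≫ eD.inv)
      (eD.hom ≫ (biproduct.isoCoproduct _).inv ≫ biproduct.π (fun _ : Fin r => L') ⟨0, hr0⟩)
      (by simp only [Category.assoc, Iso.inv_hom_id_assoc, Iso.hom_inv_id_assoc,
        biproduct.ι_π_self])
      hcohD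
  have hpowne : ¬ IsZero (∐ fun _ : Fin r => L') := by
    intro hz
    apply hL'.1
    rw [IsZero.iff_id_eq_zero]
    have hz' : IsZero (⨁ fun _ : Fin r => L') := hz.of_iso (biproduct.isoCoproduct _)
    have h1 : 𝟙 L' = biproduct.ι (fun _ : Fin r => L') ⟨0, hr0⟩ ≫
        biproduct.π (fun _ : Fin r => L') ⟨0, hr0⟩ :=
      (biproduct.ι_π_self (fun _ : Fin r => L') ⟨0, hr0⟩).symm
    rw [h1, hz'.eq_of_tgt (biproduct.ι (fun _ : Fin r => L') ⟨0, hr0⟩) 0, Limits.zero_comp]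
  have hD0 : ¬ IsZero (RefHull.homSh W (unitMod X)) := by
    intro hz
    apply hpowne
    refine IsZero.of_iso ?_ eD.symm
    rw [IsZero.iff_id_eq_zero, ← CategoryTheory.Functor.map_id,
      (IsZero.iff_id_eq_zero _).mp hz, Functor.map_zero]
  obtain ⟨⟨G, m, hG, hGi, ⟨eG⟩⟩, -⟩ := isotypic_decomp_flf k X K _ hD hD0 L' hL' r ⟨eD⟩
  have hm : 0 < m := by
    by_contra h0
    have hm0 : m = 0 := by omega
    subst hm0
    apply hD0
    have hz : IsZero (⨁ fun _ : Fin 0 => G) := isZero_biproduct_fin_zero _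
    exact (hz.of_iso (biproduct.isoCoproduct _).symm).of_iso eG
  obtain ⟨eG', -⟩ : ∃ x : RefHull.homSh W (unitMod X) ≅ ⨁ fun _ : Fin m => G, True :=
    ⟨eG ≪≫ (biproduct.isoCoproduct _).symm, trivial⟩
  have hret : (biproduct.ι (fun _ : Fin m => G) ⟨0, hm⟩ ≫ eG'.inv) ≫
      (eG'.hom ≫ biproduct.π (fun _ : Fin m => G) ⟨0, hm⟩) = 𝟙 G := by
    simp only [Category.assoc, Iso.inv_hom_id_assoc, biproduct.ι_π_self]
  obtain ⟨c, ⟨ec⟩⟩ := pow_of_retract_flf k X K L' hL' _ G hG _ _ hret r eD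
  obtain ⟨eGW⟩ := iso_of_isotypic_flf k X K L' G W' hG hW' hGi hW'i c r' ⟨ec⟩ eW'
  obtain ⟨a'⟩ := eW'
  have e1 : (∐ fun _ : Fin r => L') ≅ ∐ fun _ : Fin (r' * m) => L' :=
    eD.symm ≪≫
      (Scheme.Modules.pullback (prK k X K)).mapIso (eG ≪≫ Sigma.mapIso (fun _ => eGW)) ≪≫
      PreservesCoproduct.iso (Scheme.Modules.pullback (prK k X K)) (fun _ : Fin m => W') ≪≫
      Sigma.mapIso (fun _ => a') ≪≫ sigmaPowIso L' r' m
  haveI := isProper_strK k X K
  have hLE : LE L' := le_of_indec_coh K (XK k X K) hcohL' hL'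
  obtain ⟨σ, -⟩ := ks_unique r (r' * m) (fun _ => L') (fun _ => L') (fun _ => hLE)
    (fun _ => hL') ⟨(biproduct.isoCoproduct _) ≪≫ e1 ≪≫ (biproduct.isoCoproduct _).symm⟩
  have hcard : r = r' * m := by simpa using Fintype.card_congr σ
  exact ⟨m, hcard⟩

end Dvd

end

end Groth.Agent.LD.KSch
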