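import Groth.Agent.Lib.Lead.KSch.ND
import Groth.Agent.Lib.Lead.LF.HomBC
import Groth.Agent.Lib.Lead.FBC.SecTop
import Groth.Agent.Lib.Lead.XS.HomTwist
import Groth.Agent.Lib.Lead.QC.LocFree2

/-!
# Base change of `Hom` along a field extension, for finite locally free modules

`K ⊗_k Hom_X(E, E') ≃ Hom_{X_K}(π^*E, π^*E')` for `E` finite locally free and `E'` quasi-coherent on
a quasi-compact quasi-separated `k`-scheme `X`.
-/

set_option autoImplicit false
set_option linter.style.haveILetI false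
universe u
open CategoryTheory CategoryTheory.Limits AlgebraicGeometry TopologicalSpace Opposite TensorProduct

namespace Groth.Agent.LD.KSch

open Groth.Agent.H2.HomSh Groth.Agent.LD Groth.Agent.LD.QC

attribute [-instance] Groth.Agent.LD.QC.stalkModule

noncomputable section

section General

variable {X X' : Scheme.{u}} (h : X' ⟶ X)

lemma pull_hom_ext {F : X.Modules} {N : X'.Modules}
    (α β : (Scheme.Modules.pullback h).obj F ⟶ N)
    (hab : ∀ (V : X.affineOpens) (m : Γ(F, V.1)),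
      α.app (h ⁻¹ᵁ V.1) (unitSec h F V.1 m) = β.app (h ⁻¹ᵁ V.1) (unitSec h F V.1 m)) :
    α = β := by
  apply ((Scheme.Modules.pullbackPushforwardAdjunction h).homEquiv F N).injective
  apply QC.hom_ext_affine
  intro V m
  rw [Adjunction.homEquiv_unit, Adjunction.homEquiv_unit]
  exact hab V m

lemma pbSec_le_rfl (M : X.Modules) (V : X.Opens) (m : Γ(M, V)) :
    pbSec h M (le_refl (h ⁻¹ᵁ V)) m = unitSec h M V m := by
  unfold pbSec
  exact res_self _ _ _

lemma resΓ_top (c : Coh.Γtop X) : FBC.resΓ X ⊤ c = c := by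
  change (X.ringCatSheaf.obj.map (homOfLE (le_top : (⊤ : X.Opens) ≤ ⊤)).op).hom c = c
  have h0 : (homOfLE (le_top : (⊤ : X.Opens) ≤ ⊤)).op = 𝟙 (op ⊤) := rfl
  rw [h0, CategoryTheory.Functor.map_id]
  rfl

lemma homOfSec_add {M N : X.Modules} (s t : Γ(RefHull.homSh M N, ⊤)) :
    HF.homOfSec (s + t) = HF.homOfSec s + HF.homOfSec t := by
  apply HF.ofHom_top_injective
  change RefHull.ofHom (HF.homOfSec (s + t)) ⊤ =
    RefHull.ofHom (HF.homOfSec s + HF.homOfSec t) ⊤
  rw [HF.ofHom_homOfSec, XS.ofHom_add, HF.ofHom_homOfSec, HF.ofHom_homOfSec]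

variable (F G : X.Modules) [G.IsQuasicoherent] (hF : F.IsFinitePresentation)

/-- the base change of a global section of the sheaf Hom. -/
def bcSec (σ : Γ(RefHull.homSh F G, ⊤)) :
    Γ(RefHull.homSh ((Scheme.Modules.pullback h).obj F) ((Scheme.Modules.pullback h).obj G), ⊤) :=
  (LF.homBC h F G hF).app (h ⁻¹ᵁ ⊤) (unitSec h (RefHull.homSh F G) ⊤ σ)

lemma homOfSec_bcSec_ofHom [IsAffineHom h] (φ : F ⟶ G) :
    HF.homOfSec (bcSec h F G hF (RefHull.ofHom φ ⊤)) = (Scheme.Modules.pullback h).map φ := by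
  apply pull_hom_ext
  intro V m
  have hVa : IsAffineOpen (h ⁻¹ᵁ V.1) := V.2.preimage h
  refine (HF.homOfSec_app (bcSec h F G hF (RefHull.ofHom φ ⊤)) ⟨h ⁻¹ᵁ V.1, hVa⟩
    (unitSec h F V.1 m)).trans ?_
  refine Eq.trans ?_ (unitSec_naturality h φ V.1 m).symm
  have e2 : (RefHull.homSh ((Scheme.Modules.pullback h).obj F)
      ((Scheme.Modules.pullback h).obj G)).presheaf.map
        (homOfLE (le_top : h ⁻¹ᵁ V.1 ≤ ⊤)).op (bcSec h F G hF (RefHull.ofHom φ ⊤)) =
      (LF.homBC h F G hF).app (h ⁻¹ᵁ V.1) (pbSec h (RefHull.homSh F G) (le_refl _)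
        ((RefHull.homSh F G).presheaf.map (homOfLE (le_top : V.1 ≤ ⊤)).op
          (RefHull.ofHom φ ⊤))) := by
    rw [pbSec_le_rfl, unitSec_res h (RefHull.homSh F G) (le_top : V.1 ≤ ⊤) (RefHull.ofHom φ ⊤)]
    exact (QC.app_res (LF.homBC h F G hF) _ _).symm
  have e3 : app ((RefHull.homSh F G).presheaf.map (homOfLE (le_top : V.1 ≤ ⊤)).op
      (RefHull.ofHom φ ⊤)) (le_refl V.1) m = φ.app V.1 m := by
    rw [app_res_hom, app_ofHom]
  calc app (bcSec h F G hF (RefHull.ofHom φ ⊤)) le_top (unitSec h F V.1 m)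
      = app ((RefHull.homSh ((Scheme.Modules.pullback h).obj F)
          ((Scheme.Modules.pullback h).obj G)).presheaf.map
            (homOfLE (le_top : h ⁻¹ᵁ V.1 ≤ ⊤)).op (bcSec h F G hF (RefHull.ofHom φ ⊤)))
          (le_refl _) (unitSec h F V.1 m) := (app_res_hom le_top _ (le_refl _) _).symm
    _ = app ((LF.homBC h F G hF).app (h ⁻¹ᵁ V.1) (pbSec h (RefHull.homSh F G) (le_refl _)
          ((RefHull.homSh F G).presheaf.map (homOfLE (le_top : V.1 ≤ ⊤)).op
            (RefHull.ofHom φ ⊤)))) (le_refl _) (pbSec h F (le_refl _) m) := by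
        rw [e2, pbSec_le_rfl h F]
    _ = pbSec h G (le_refl _) (app ((RefHull.homSh F G).presheaf.map
          (homOfLE (le_top : V.1 ≤ ⊤)).op (RefHull.ofHom φ ⊤)) (le_refl V.1) m) :=
        LF.app_homBC_pbSec h F G hF V (le_refl _) _ m
    _ = unitSec h G V.1 (φ.app V.1 m) := by rw [e3, pbSec_le_rfl]

lemma bcSec_ofHom [IsAffineHom h] (φ : F ⟶ G) :
    bcSec h F G hF (RefHull.ofHom φ ⊤) = RefHull.ofHom ((Scheme.Modules.pullback h).map φ) ⊤ := by
  rw [← homOfSec_bcSec_ofHom h F G hF φ, HF.ofHom_homOfSec]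

end General

section BC

variable (k : Type u) [Field k] (X : Scheme.{u}) [X.Over (Spec (CommRingCat.of k))]
  (K : Type u) [Field K] [Algebra k K]

/-- the base change `X_K`. -/
abbrev XK : Scheme.{u} :=
  pullback (X ↘ Spec (CommRingCat.of k)) (Spec.map (CommRingCat.ofHom (algebraMap k K)))

/-- the projection `X_K ⟶ X`. -/
abbrev prK : XK k X K ⟶ X :=
  pullback.fst (X ↘ Spec (CommRingCat.of k)) (Spec.map (CommRingCat.ofHom (algebraMap k K)))

/-- the structure morphism `X_K ⟶ Spec K`. -/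
abbrev strK : XK k X K ⟶ Spec (CommRingCat.of K) :=
  pullback.snd (X ↘ Spec (CommRingCat.of k)) (Spec.map (CommRingCat.ofHom (algebraMap k K)))

/-- `X_K` as a `K`-scheme. -/
def overBC : (XK k X K).Over (Spec (CommRingCat.of K)) := ⟨strK k X K⟩

attribute [local instance] overBC

lemma isPullbackBC : IsPullback (prK k X K) (strK k X K) (X ↘ Spec (CommRingCat.of k))
    (Spec.map (CommRingCat.ofHom (algebraMap k K))) :=
  IsPullback.of_hasPullback _ _

instance : IsAffineHom (prK k X K) :=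
  FBC.isAffineHom_of_isPullback _ _ _ (isPullbackBC k X K)

variable (E E' : X.Modules)

/-- `Hom(E, E') ≃ Γ(X, 𝓗om(E, E'))`, `k`-linearly. -/
def ofHomEquiv : (E ⟶ E') ≃ₗ[k]
    FBC.GamA (RefHull.homSh E E') (Coh.toGlobal (X ↘ Spec (CommRingCat.of k))) ⊤ where
  toFun φ := RefHull.ofHom φ ⊤
  map_add' := XS.ofHom_add
  map_smul' a φ := by
    change RefHull.ofHom (a • φ) ⊤ =
      (FBC.resΓ X ⊤ (Coh.toGlobal (X ↘ Spec (CommRingCat.of k)) a) : Γ(X, ⊤)) •
        (RefHull.ofHom φ ⊤ : Γ(RefHull.homSh E E', ⊤))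
    rw [resΓ_top, XS.ofHom_smul k a φ]
  invFun := HF.homOfSec
  left_inv := HF.homOfSec_ofHom
  right_inv := HF.ofHom_homOfSec

variable [E'.IsQuasicoherent] (hE : E.IsFinitePresentation)

/-- the base change map `K ⊗ Hom(E, E') → Hom(π^*E, π^*E')`. -/
def TFun (x : K ⊗[k] (E ⟶ E')) :
    (Scheme.Modules.pullback (prK k X K)).obj E ⟶ (Scheme.Modules.pullback (prK k X K)).obj E' :=
  HF.homOfSec (show Γ(RefHull.homSh ((Scheme.Modules.pullback (prK k X K)).obj E)
      ((Scheme.Modules.pullback (prK k X K)).obj E'), ⊤) from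
    (LF.homBC (prK k X K) E E' hE).app ((prK k X K) ⁻¹ᵁ ⊤)
      (FBC.secMap (prK k X K) (RefHull.homSh E E')
        (Coh.toGlobal (X ↘ Spec (CommRingCat.of k))) (Coh.toGlobal (strK k X K))
        (FBC.toGlobal_compat _ _ _ (isPullbackBC k X K)) ⊤
        ((LinearEquiv.lTensor K (ofHomEquiv k X E E')) x)))

lemma TFun_add (x y : K ⊗[k] (E ⟶ E')) :
    TFun k X K E E' hE (x + y) = TFun k X K E E' hE x + TFun k X K E E' hE y := by
  unfold TFun
  rw [map_add, map_add]
  have h1 := map_add (ConcreteCategory.hom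
    ((LF.homBC (prK k X K) E E' hE).app ((prK k X K) ⁻¹ᵁ ⊤)))
    (FBC.secMap (prK k X K) (RefHull.homSh E E')
        (Coh.toGlobal (X ↘ Spec (CommRingCat.of k))) (Coh.toGlobal (strK k X K))
        (FBC.toGlobal_compat _ _ _ (isPullbackBC k X K)) ⊤
        ((LinearEquiv.lTensor K (ofHomEquiv k X E E')) x))
    (FBC.secMap (prK k X K) (RefHull.homSh E E')
        (Coh.toGlobal (X ↘ Spec (CommRingCat.of k))) (Coh.toGlobal (strK k X K))
        (FBC.toGlobal_compat _ _ _ (isPullbackBC k X K)) ⊤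
        ((LinearEquiv.lTensor K (ofHomEquiv k X E E')) y))
  exact (congrArg HF.homOfSec h1).trans (homOfSec_add _ _)

lemma TFun_tmul (c : K) (φ : E ⟶ E') :
    TFun k X K E E' hE (c ⊗ₜ[k] φ) = c • (Scheme.Modules.pullback (prK k X K)).map φ := by
  unfold TFun
  rw [LinearEquiv.lTensor_tmul, FBC.secMap_tmul, Scheme.Modules.Hom.app_smul]
  have h1 : (LF.homBC (prK k X K) E E' hE).app ((prK k X K) ⁻¹ᵁ ⊤)
      (unitSec (prK k X K) (RefHull.homSh E E') ⊤ (RefHull.ofHom φ ⊤)) =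
      RefHull.ofHom ((Scheme.Modules.pullback (prK k X K)).map φ) ⊤ :=
    bcSec_ofHom (prK k X K) E E' hE φ
  apply HF.ofHom_top_injective
  change RefHull.ofHom (HF.homOfSec _) ⊤ = RefHull.ofHom (c • _) ⊤
  rw [HF.ofHom_homOfSec, XS.ofHom_smul K c]
  have h2 := congrArg (fun s : Γ(RefHull.homSh ((Scheme.Modules.pullback (prK k X K)).obj E)
      ((Scheme.Modules.pullback (prK k X K)).obj E'), (prK k X K) ⁻¹ᵁ ⊤) =>
    (FBC.resΓ (XK k X K) ((prK k X K) ⁻¹ᵁ ⊤) (Coh.toGlobal (strK k X K) c)) • s) h1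
  have h3 := congrArg (fun a : Γ(XK k X K, ⊤) =>
    a • RefHull.ofHom ((Scheme.Modules.pullback (prK k X K)).map φ) ⊤)
    (resΓ_top (Coh.toGlobal (strK k X K) c))
  exact Eq.trans h2 h3

variable [CompactSpace X] [QuasiSeparatedSpace X]

lemma TFun_bijective (hflf : FlatMod.IsFinLocFree E) :
    Function.Bijective (TFun k X K E E' hE) := by
  haveI : (RefHull.homSh E E').IsQuasicoherent := qc_homSh hE
  haveI : IsIso (LF.homBC (prK k X K) E E' hE) := LF.isIso_homBC _ E E' hflf hE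
  have h1 : Function.Bijective (LinearEquiv.lTensor K (ofHomEquiv k X E E')) :=
    (LinearEquiv.lTensor K (ofHomEquiv k X E E')).bijective
  have h2 := FBC.bijective_secMap_top (X ↘ Spec (CommRingCat.of k)) (strK k X K) (prK k X K)
    (isPullbackBC k X K) (RefHull.homSh E E')
  have h3 : Function.Bijective (fun s : Γ((Scheme.Modules.pullback (prK k X K)).obj
      (RefHull.homSh E E'), (prK k X K) ⁻¹ᵁ ⊤) =>
      (LF.homBC (prK k X K) E E' hE).app ((prK k X K) ⁻¹ᵁ ⊤) s) := by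
    refine Function.bijective_iff_has_inverse.mpr
      ⟨fun t => (inv (LF.homBC (prK k X K) E E' hE)).app ((prK k X K) ⁻¹ᵁ ⊤) t, ?_, ?_⟩
    · intro s; exact LF.inv_app_app _ _ s
    · intro t; exact LF.app_inv_app _ _ t
  have h4 : Function.Bijective (HF.homOfSec (M := (Scheme.Modules.pullback (prK k X K)).obj E)
      (N := (Scheme.Modules.pullback (prK k X K)).obj E')) :=
    Function.bijective_iff_has_inverse.mpr
      ⟨fun ψ => RefHull.ofHom ψ ⊤, HF.ofHom_homOfSec, HF.homOfSec_ofHom⟩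
  exact h4.comp (h3.comp (h2.comp h1))

/-- **base change for `Hom`** out of a finite locally free module. -/
def hbcOfFLF (hflf : FlatMod.IsFinLocFree E) :
    HBC k K (Scheme.Modules.pullback (prK k X K)) E E' where
  T := AddMonoidHom.mk' (TFun k X K E E' (QC.isFinitePresentation_of_isFinLocFree E hflf))
    (TFun_add k X K E E' _)
  bij := TFun_bijective k X K E E' _ hflf
  tmul := TFun_tmul k X K E E' _

end BC

end

end Groth.Agent.LD.KSch
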