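import Groth.Agent.Lib.Lead.KSch.Iso
import Groth.Agent.Lib.Lead.LF.HomBCFlat
import Groth.Agent.Lib.Lead.Curve.Torsion
import Groth.Agent.Lib.Lead.QC.Coh
import Groth.Agent.Lib.Lead.QC.Pullback

/-!
# Base change of `Hom` along a field extension, for finitely presented modules, and descent of
isomorphy of coherent modules along a field extension

`K ⊗_k Hom_X(E, E') ≃ Hom_{X_K}(π^*E, π^*E')` for `E` finitely presented and `E'` quasi-coherent on
a quasi-compact quasi-separated `k`-scheme `X` (the projection `π : X_K ⟶ X` is flat).  Together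
with the abstract Noether–Deuring theorem this gives: coherent modules on a proper `k`-scheme which
become isomorphic after a field extension are isomorphic.
-/

set_option autoImplicit false
set_option linter.style.haveILetI false
universe u
open CategoryTheory CategoryTheory.Limits AlgebraicGeometry TopologicalSpace Opposite TensorProduct

namespace Groth.Agent.LD.KSch

open Groth.Agent.H2.HomSh Groth.Agent.LD Groth.Agent.LD.QC

attribute [-instance] Groth.Agent.LD.QC.stalkModule
attribute [local instance] Abelian.hasFiniteBiproducts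
attribute [local instance] overBC

noncomputable section

variable (k : Type u) [Field k] (X : Scheme.{u}) [X.Over (Spec (CommRingCat.of k))]
  (K : Type u) [Field K] [Algebra k K]

/-- the projection `X_K ⟶ X` is flat. -/
lemma flat_prK : Flat (prK k X K) := by
  have hfs : Flat (Spec.map (CommRingCat.ofHom (algebraMap k K))) ∧
      Surjective (Spec.map (CommRingCat.ofHom (algebraMap k K))) := by
    rw [flat_and_surjective_SpecMap_iff]
    exact (RingHom.faithfullyFlat_algebraMap_iff).mpr inferInstance
  haveI := hfs.1
  infer_instance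

section HBC

variable (E E' : X.Modules) [E'.IsQuasicoherent] (hE : E.IsFinitePresentation)
variable [CompactSpace X] [QuasiSeparatedSpace X]

lemma TFun_bijective_of_flat : Function.Bijective (TFun k X K E E' hE) := by
  haveI : (RefHull.homSh E E').IsQuasicoherent := qc_homSh hE
  haveI := flat_prK k X K
  haveI : IsIso (LF.homBC (prK k X K) E E' hE) := LF.isIso_homBC_of_flat _ E E' hE
  have h1 : Function.Bijective (LinearEquiv.lTensor K (ofHomEquiv k X E E')) :=
    (LinearEquiv.lTensor K (ofHomEquiv k X E E')).bijective
  have h2 := FBC.bijective_secMap_top (X ↘ Spec (CommRingCat.of k)) (strK k X K) (prK k X K)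
    (isPullbackBC k X K) (RefHull.homSh E E')
  have h3 : Function.Bijective (fun s : Γ((Scheme.Modules.pullback (prK k X K)).obj
      (RefHull.homSh E E'), (prK k X K) ⁻¹ᵁ ⊤) =>
      (LF.homBC (prK k X K) E E' hE).app ((prK k X K) ⁻¹ᵁ ⊤) s) := by
    refine Function.bijective_iff_has_inverse.mpr
      ⟨fun t => (inv (LF.homBC (prK k X K) E E' hE)).app ((prK k X K) ⁻¹ᵁ ⊤) t, ?_, ?_⟩
    · intro s; exact LF.inv_app_app _ _ s
    · intro t; exact LF.app_inv_app _ _ t
  have h4 : Function.Bijective (HF.homOfSec (M := (Scheme.Modules.pullback (prK k X K)).obj E)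
      (N := (Scheme.Modules.pullback (prK k X K)).obj E')) :=
    Function.bijective_iff_has_inverse.mpr
      ⟨fun ψ => RefHull.ofHom ψ ⊤, HF.ofHom_homOfSec, HF.homOfSec_ofHom⟩
  exact h4.comp (h3.comp (h2.comp h1))

/-- **base change for `Hom`** out of a finitely presented module along a field extension. -/
def hbcOfFP : HBC k K (Scheme.Modules.pullback (prK k X K)) E E' where
  T := AddMonoidHom.mk' (TFun k X K E E' hE) (TFun_add k X K E E' hE)
  bij := TFun_bijective_of_flat k X K E E' hE
  tmul := TFun_tmul k X K E E' hE

end HBC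

variable [IsProper (X ↘ Spec (CommRingCat.of k))]

/-- base change for `Hom` between coherent modules. -/
lemma hbc_coh (E E' : X.Modules) (hE : Coh.IsCoh E) (hE' : Coh.IsCoh E') :
    Nonempty (HBC k K (Scheme.Modules.pullback (prK k X K)) E E') := by
  haveI := Curve.compactSpace k X
  haveI := Curve.quasiSeparatedSpace k X
  haveI := Curve.isLocallyNoetherian k X
  haveI := hE'.1
  exact ⟨hbcOfFP k X K E E' (QC.isFinitePresentation_of_qc_ft E hE.1 hE.2)⟩

/-- **Noether–Deuring for coherent modules**: coherent modules on a proper `k`-scheme which become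
isomorphic after a field extension are isomorphic. -/
theorem iso_of_iso_pullback_coh (F G : X.Modules) (hF : Coh.IsCoh F) (hG : Coh.IsCoh G)
    (e : (Scheme.Modules.pullback (prK k X K)).obj F ≅
      (Scheme.Modules.pullback (prK k X K)).obj G) : Nonempty (F ≅ G) := by
  refine nd (k := k) (K := K) (Φ := Scheme.Modules.pullback (prK k X K))
    (fun M : X.Modules => Coh.IsCoh M) (fun M : (XK k X K).Modules => Coh.IsCoh M)
    (fun i r h hM => isCoh_of_retract i r h hM)
    (fun M hM => Groth.Agent.H5.LinEq.finite_hom k X M M hM hM)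
    (fun i r h hM => isCoh_of_retract i r h hM)
    (fun M hM => finite_end_coh_XK k X K M hM)
    (fun M hM => ?_) (fun E E' hE hE' => hbc_coh k X K E E' hE hE')
    (Module.finrank k (F ⟶ F)) F G hF hG le_rfl ⟨e⟩
  haveI := hM.1
  exact ⟨QC.qc_pullback _ M, QC.isFiniteType_pullback _ M hM.2⟩

end

end Groth.Agent.LD.KSch
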