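import Groth.Agent.Lib.Lead.KSch.Desc
import Groth.Agent.Lib.Lead.KSch.HomBC
import Groth.Agent.Lib.Lead.KSch.Coh
import Groth.Agent.Lib.Helper2.EndInv

/-!
# Finite locally free modules on a proper scheme over a field and their base change

Concrete forms, for finite locally free modules on a proper `k`-scheme `X` and the base change
`X_K` to a field extension, of the abstract results of `KSch/Desc.lean`.
-/

set_option autoImplicit false
set_option linter.style.haveILetI false
universe u
open CategoryTheory CategoryTheory.Limits AlgebraicGeometry TopologicalSpace Opposite TensorProduct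

namespace Groth.Agent.LD.KSch

open Groth.Agent.LD Groth.Agent.LD.QC

attribute [-instance] Groth.Agent.LD.QC.stalkModule
attribute [local instance] Abelian.hasFiniteBiproducts
attribute [local instance] overBC

noncomputable section

section Scalars

/-- global functions on an integral universally closed scheme over an algebraically closed field are
constants. -/
theorem exists_toGlobal_eq (K : Type u) [Field K] [IsAlgClosed K] {Z : Scheme.{u}}
    (f : Z ⟶ Spec (CommRingCat.of K)) [IsIntegral Z] [UniversallyClosed f] (a : Γ(Z, ⊤)) :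
    ∃ c : K, (show Γ(Z, ⊤) from Coh.toGlobal f c) = a := by
  let F := (Scheme.ΓSpecIso (CommRingCat.of K)).inv ≫ f.appTop
  have hF : F.hom.IsIntegral := by
    apply RingHom.isIntegral_respectsIso.2
      (e := (Scheme.ΓSpecIso _).symm.commRingCatIsoToRingEquiv)
    exact isIntegral_appTop_of_universallyClosed f
  let F' : K →+* Γ(Z, ⊤) := F.hom
  have hb : Function.Bijective F' := IsAlgClosed.ringHom_bijective_of_isIntegral F' hF
  obtain ⟨c, hc⟩ := hb.2 a
  exact ⟨c, hc⟩

/-- endomorphisms of an invertible module on an integral universally closed scheme over an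
algebraically closed field are scalars. -/
theorem end_scalar (K : Type u) [Field K] [IsAlgClosed K] (Z : Scheme.{u})
    [Z.Over (Spec (CommRingCat.of K))] [IsIntegral Z]
    [UniversallyClosed (Z ↘ Spec (CommRingCat.of K))] {L : Z.Modules}
    (hL : PicF.IsInvertible L) (v : L ⟶ L) : ∃ c : K, v = c • 𝟙 L := by
  obtain ⟨a, ha⟩ := Groth.Agent.H2.EndInv.exists_global_coord L hL v
  obtain ⟨c, hc⟩ := exists_toGlobal_eq K (Z ↘ Spec (CommRingCat.of K)) a
  subst hc
  refine ⟨c, Groth.Agent.H2.EndInv.hom_ext_of_bases hL _ _ (fun W e he => ?_)⟩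
  rw [ha W e he, KLin.smul_app_apply]
  rfl

end Scalars

variable (k : Type u) [Field k] (X : Scheme.{u}) [X.Over (Spec (CommRingCat.of k))]
  [IsProper (X ↘ Spec (CommRingCat.of k))] (K : Type u) [Field K] [Algebra k K]

include k in
lemma isProper_strK : IsProper (XK k X K ↘ Spec (CommRingCat.of K)) := by
  change IsProper (strK k X K)
  infer_instance

lemma isIntegral_XK [GeometricallyIntegral (X ↘ Spec (CommRingCat.of k))] :
    IsIntegral (XK k X K) :=
  GeometricallyIntegral.geometrically_isIntegral (f := X ↘ Spec (CommRingCat.of k))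
    (Spec.map (CommRingCat.ofHom (algebraMap k K))) (prK k X K) (strK k X K) (isPullbackBC k X K)

lemma finite_end_flf (E : X.Modules) (hE : FlatMod.IsFinLocFree E) : Module.Finite k (E ⟶ E) :=
  Groth.Agent.H5.LinEq.finite_hom k X E E (Groth.Agent.H4.PSch4.isCoh_of_isFinLocFree E hE)
    (Groth.Agent.H4.PSch4.isCoh_of_isFinLocFree E hE)

lemma finite_end_coh_XK (M : (XK k X K).Modules) (hM : Coh.IsCoh M) :
    Module.Finite K (M ⟶ M) := by
  haveI := isProper_strK k X K
  exact Groth.Agent.H5.LinEq.finite_hom K (XK k X K) M M hM hM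

/-- base change for `Hom` between finite locally free modules. -/
lemma hbc_flf (E E' : X.Modules) (hE : FlatMod.IsFinLocFree E) (hE' : FlatMod.IsFinLocFree E') :
    Nonempty (HBC k K (Scheme.Modules.pullback (prK k X K)) E E') := by
  haveI := Curve.compactSpace k X
  haveI := Curve.quasiSeparatedSpace k X
  haveI := QC.qc_of_isFinLocFree E' hE'
  exact ⟨hbcOfFLF k X K E E' hE⟩

/-- **indecomposable finite locally free modules which become powers of the same module after a
field extension are isomorphic.** -/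
theorem iso_of_isotypic_flf (W : (XK k X K).Modules) (E E' : X.Modules)
    (hE : FlatMod.IsFinLocFree E) (hE' : FlatMod.IsFinLocFree E') (hEi : Indec E)
    (hE'i : Indec E') (r s : ℕ)
    (eE : Nonempty ((Scheme.Modules.pullback (prK k X K)).obj E ≅ ∐ fun _ : Fin r => W))
    (eE' : Nonempty ((Scheme.Modules.pullback (prK k X K)).obj E' ≅ ∐ fun _ : Fin s => W)) :
    Nonempty (E ≅ E') := by
  obtain ⟨e1⟩ := eE
  obtain ⟨e2⟩ := eE'
  obtain ⟨h1⟩ := hbc_flf k X K E E' hE hE'
  obtain ⟨h2⟩ := hbc_flf k X K E' E hE' hE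
  obtain ⟨h3⟩ := hbc_flf k X K E E hE hE
  obtain ⟨h4⟩ := hbc_flf k X K E' E' hE' hE'
  haveI := finite_end_flf k X E hE
  exact iso_of_isotypic h1 h2 h3 h4 (le_of_indec k hEi) hE'i r s
    (e1 ≪≫ (biproduct.isoCoproduct _).symm) (e2 ≪≫ (biproduct.isoCoproduct _).symm)

/-- **a finite locally free module which becomes a power of an indecomposable module after a field
extension is a power of an indecomposable finite locally free module, unique up to isomorphism.** -/
theorem isotypic_decomp_flf (E : X.Modules) (hE : FlatMod.IsFinLocFree E) (hE0 : ¬ IsZero E)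
    (L : (XK k X K).Modules) (hLi : Indec L) (r : ℕ)
    (e : Nonempty ((Scheme.Modules.pullback (prK k X K)).obj E ≅ ∐ fun _ : Fin r => L)) :
    (∃ (G : X.Modules) (n : ℕ), FlatMod.IsFinLocFree G ∧ Indec G ∧
      Nonempty (E ≅ ∐ fun _ : Fin n => G)) ∧
    (∀ (G G' : X.Modules) (n m : ℕ), Indec G → Indec G' →
      Nonempty (E ≅ ∐ fun _ : Fin n => G) → Nonempty (E ≅ ∐ fun _ : Fin m => G') →
      Nonempty (G ≅ G')) := by
  obtain ⟨e0⟩ := e
  have key := isotypic_decomp (k := k) (K := K) (Φ := Scheme.Modules.pullback (prK k X K))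
    (fun M : X.Modules => FlatMod.IsFinLocFree M) (fun M : (XK k X K).Modules => Coh.IsCoh M)
    (fun i r h hM => QC.isFinLocFree_of_retract i r h hM)
    (fun M hM => finite_end_flf k X M hM)
    (fun i r h hM => isCoh_of_retract i r h hM)
    (fun M hM => finite_end_coh_XK k X K M hM)
    (fun M hM => Groth.Agent.H4.PSch4.isCoh_of_isFinLocFree _ (QC.isFinLocFree_pullback _ M hM))
    (fun E E' hE hE' => hbc_flf k X K E E' hE hE')
    E hE hE0 L hLi r (e0 ≪≫ (biproduct.isoCoproduct _).symm)
  refine ⟨?_, ?_⟩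
  · obtain ⟨G, n, hG, hGi, ⟨eG⟩⟩ := key.1
    exact ⟨G, n, hG, hGi, ⟨eG ≪≫ biproduct.isoCoproduct _⟩⟩
  · intro G G' n m hG hG' ⟨e1⟩ ⟨e2⟩
    exact key.2 G G' n m hG hG' ⟨e1 ≪≫ (biproduct.isoCoproduct _).symm⟩
      ⟨e2 ≪≫ (biproduct.isoCoproduct _).symm⟩

section GeomInt

variable [GeometricallyIntegral (X ↘ Spec (CommRingCat.of k))] [IsAlgClosed K]

/-- **generation of the unit ideal** of the endomorphism ring of an absolutely rank-one-isotypical
module by any nonzero endomorphism. -/
theorem id_mem_span_flf (E : X.Modules) (hE : FlatMod.IsFinLocFree E)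
    (L : (XK k X K).Modules) (hL : PicF.IsInvertible L) (r : ℕ)
    (e : Nonempty ((Scheme.Modules.pullback (prK k X K)).obj E ≅ ∐ fun _ : Fin r => L))
    (f : E ⟶ E) (hf : f ≠ 0) :
    (𝟙 E : E ⟶ E) ∈ Submodule.span k {z : E ⟶ E | ∃ (φ ψ : E ⟶ E), z = φ ≫ f ≫ ψ} := by
  obtain ⟨e0⟩ := e
  obtain ⟨h⟩ := hbc_flf k X K E E hE hE
  haveI : IsIntegral (XK k X K) := isIntegral_XK k X K
  haveI := isProper_strK k X K
  exact id_mem_span_of_isotypic h r (e0 ≪≫ (biproduct.isoCoproduct _).symm)
    (fun u => end_scalar K (XK k X K) hL u) f hf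

/-- the endomorphism ring of a nonzero absolutely rank-one-isotypical module is simple. -/
theorem isSimpleRing_end_flf (E : X.Modules) (hE : FlatMod.IsFinLocFree E) (hE0 : ¬ IsZero E)
    (L : (XK k X K).Modules) (hL : PicF.IsInvertible L) (r : ℕ)
    (e : Nonempty ((Scheme.Modules.pullback (prK k X K)).obj E ≅ ∐ fun _ : Fin r => L)) :
    IsSimpleRing (End E) :=
  isSimpleRing_end_of_gen k hE0 (fun f hf => id_mem_span_flf k X K E hE L hL r e f hf)

/-- the endomorphism ring of an indecomposable absolutely rank-one-isotypical module is a division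
ring. -/
theorem isIso_of_ne_zero_flf (E : X.Modules) (hE : FlatMod.IsFinLocFree E) (hEi : Indec E)
    (L : (XK k X K).Modules) (hL : PicF.IsInvertible L) (r : ℕ)
    (e : Nonempty ((Scheme.Modules.pullback (prK k X K)).obj E ≅ ∐ fun _ : Fin r => L))
    (f : E ⟶ E) (hf : f ≠ 0) : IsIso f := by
  haveI := finite_end_flf k X E hE
  exact (le_of_indec k hEi).isIso_of_id_mem_span k f (id_mem_span_flf k X K E hE L hL r e f hf)

end GeomInt

end

end Groth.Agent.LD.KSch
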