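import Groth.Agent.Lib.Lead.KSch.Dual
import Groth.Agent.Lib.Lead.KSch.Iso
import Groth.Agent.Lib.Lead.QC.TwistExt
import Groth.Agent.Lib.Lead.LF.PullTensor
import Groth.Agent.Lib.Lead.FF.H0Const
import Groth.Agent.Lib.Lead.QC.ResolProp
import Groth.Agent.Lib.Helper5.IntN.Kod2
import Groth.Agent.Lib.Helper5.Glue.F
import Groth.Agent.Lib.Helper2.EndInv
import Groth.Prelude.Def_PicGrp

/-!
# Ranks of indecomposable absolutely isotypical modules when `Pic(X_K)` is cyclic (S15409)

* `indec_of_idem`: a nonzero object whose idempotent endomorphisms are `0` or `𝟙` is indecomposable.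
* `idem_end_invertible`, `indec_of_invertible_connected`: invertible modules on a connected scheme
  are indecomposable.
* `indec_of_equiv`: additive equivalences preserve indecomposability.
* `rank_eq_of_pic_cyclic`: the main statement.
-/

set_option autoImplicit false
set_option linter.style.haveILetI false
universe u
open CategoryTheory CategoryTheory.Limits AlgebraicGeometry TopologicalSpace Opposite

namespace Groth.Agent.LD.KSch

open Groth.Agent.LD Groth.Agent.LD.QC

attribute [-instance] Groth.Agent.LD.QC.stalkModule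
attribute [local instance] Abelian.hasFiniteBiproducts
attribute [local instance] overBC

noncomputable section

section Abs

universe v₁ u₁ v₂ u₂

variable {C : Type u₁} [Category.{v₁} C] [Abelian C]

/-- a nonzero object whose idempotent endomorphisms are trivial is indecomposable. -/
theorem indec_of_idem {L : C} (hL0 : ¬ IsZero L)
    (hL : ∀ u : L ⟶ L, u ≫ u = u → u = 0 ∨ u = 𝟙 L) : Indec L := by
  refine ⟨hL0, fun A B ⟨e⟩ => ?_⟩
  have hp : (e.hom ≫ biprod.fst ≫ biprod.inl ≫ e.inv) ≫ (e.hom ≫ biprod.fst ≫ biprod.inl ≫ e.inv) =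
      e.hom ≫ biprod.fst ≫ biprod.inl ≫ e.inv := by simp
  have hfi : (biprod.fst : A ⊞ B ⟶ A) ≫ (biprod.inl : A ⟶ A ⊞ B) =
      e.inv ≫ (e.hom ≫ biprod.fst ≫ biprod.inl ≫ e.inv) ≫ e.hom := by simp
  rcases hL _ hp with h5 | h5
  · left
    rw [IsZero.iff_id_eq_zero]
    have h7 : (biprod.fst : A ⊞ B ⟶ A) ≫ (biprod.inl : A ⟶ A ⊞ B) = 0 := by
      rw [hfi, h5, Limits.zero_comp, Limits.comp_zero]
    calc 𝟙 A = (biprod.inl : A ⟶ A ⊞ B) ≫
          ((biprod.fst : A ⊞ B ⟶ A) ≫ (biprod.inl : A ⟶ A ⊞ B)) ≫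
            (biprod.fst : A ⊞ B ⟶ A) := by simp
      _ = 0 := by rw [h7, Limits.zero_comp, Limits.comp_zero]
  · right
    rw [IsZero.iff_id_eq_zero]
    have h7 : (biprod.fst : A ⊞ B ⟶ A) ≫ (biprod.inl : A ⟶ A ⊞ B) = 𝟙 (A ⊞ B) := by
      rw [hfi, h5, Category.id_comp, e.inv_hom_id]
    calc 𝟙 B = (biprod.inr : B ⟶ A ⊞ B) ≫ 𝟙 (A ⊞ B) ≫ (biprod.snd : A ⊞ B ⟶ B) := by simp
      _ = (biprod.inr : B ⟶ A ⊞ B) ≫
          ((biprod.fst : A ⊞ B ⟶ A) ≫ (biprod.inl : A ⟶ A ⊞ B)) ≫
            (biprod.snd : A ⊞ B ⟶ B) := by rw [h7]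
      _ = 0 := by simp

variable {D : Type u₂} [Category.{v₂} D] [Abelian D]

/-- additive equivalences preserve indecomposability. -/
theorem indec_of_equiv (e : C ≌ D) (hF : e.functor.Additive) (hG : e.inverse.Additive) {M : C}
    (hM : Indec M) : Indec (e.functor.obj M) := by
  haveI := hF
  haveI := hG
  haveI : PreservesBinaryBiproducts e.inverse :=
    preservesBinaryBiproducts_of_preservesBiproducts e.inverse
  refine ⟨fun hz => hM.1 ?_, fun A B ⟨i⟩ => ?_⟩
  · have h1 : IsZero (e.inverse.obj (e.functor.obj M)) := e.inverse.map_isZero hz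
    exact h1.of_iso (e.unitIso.app M)
  · have i' : M ≅ e.inverse.obj A ⊞ e.inverse.obj B :=
      e.unitIso.app M ≪≫ e.inverse.mapIso i ≪≫ e.inverse.mapBiprod A B
    rcases hM.2 _ _ ⟨i'⟩ with h | h
    · left
      have h1 : IsZero (e.functor.obj (e.inverse.obj A)) := e.functor.map_isZero h
      exact h1.of_iso (e.counitIso.app A).symm
    · right
      have h1 : IsZero (e.functor.obj (e.inverse.obj B)) := e.functor.map_isZero h
      exact h1.of_iso (e.counitIso.app B).symm

end Abs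

section Inv

variable {Y : Scheme.{u}}

/-- idempotent endomorphisms of an invertible module on a connected scheme are trivial. -/
theorem idem_end_invertible [ConnectedSpace Y] (N : Y.Modules) (hN : PicF.IsInvertible N)
    (u : N ⟶ N) (hu : u ≫ u = u) : u = 0 ∨ u = 𝟙 N := by
  obtain ⟨a, ha⟩ := Groth.Agent.H2.EndInv.exists_global_coord N hN u
  let κ := {p : Σ W : Y.Opens, Γ(N, W) // IsBasisOver N p.1 p.2}
  have hcov : (⊤ : Y.Opens) ≤ ⨆ i : κ, i.1.1 := by
    intro x _
    obtain ⟨W, e, hxW, he⟩ := (isInvertible_iff_exists_isBasisOver N).1 hN x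
    exact Opens.mem_iSup.mpr ⟨⟨⟨W, e⟩, he⟩, hxW⟩
  have haa : a * a = a := by
    apply Groth.Agent.H5.Glue.fn_ext_of_cover (fun i : κ => i.1.1) ⊤ (fun _ => le_top) hcov
    intro i
    have h1 := ha i.1.1 i.1.2 i.2
    have h2 : (u ≫ u).app i.1.1 i.1.2 = u.app i.1.1 i.1.2 := by rw [hu]
    rw [Scheme.Modules.Hom.comp_app, ConcreteCategory.comp_apply, h1,
      Scheme.Modules.Hom.app_smul, h1, smul_smul] at h2
    have h3 := i.2.coord_injective h2
    rw [map_mul]
    exact h3
  rcases Groth.Agent.LD.FF.idem_trivial_of_connectedSpace Y a haa with h0 | h1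
  · left
    apply Groth.Agent.H2.EndInv.hom_ext_of_bases hN
    intro W e he
    rw [ha W e he, h0]
    have h8 : Y.presheaf.map (homOfLE (le_top : W ≤ ⊤)).op (0 : Γ(Y, ⊤)) = 0 :=
      map_zero (Y.presheaf.map (homOfLE (le_top : W ≤ ⊤)).op).hom
    rw [h8, zero_smul]
    first | rfl | simp
  · right
    apply Groth.Agent.H2.EndInv.hom_ext_of_bases hN
    intro W e he
    rw [ha W e he, h1]
    have h8 : Y.presheaf.map (homOfLE (le_top : W ≤ ⊤)).op (1 : Γ(Y, ⊤)) = 1 :=
      map_one (Y.presheaf.map (homOfLE (le_top : W ≤ ⊤)).op).hom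
    rw [h8, one_smul]
    first | rfl | simp

/-- invertible modules on a connected scheme are indecomposable. -/
theorem indec_of_invertible_connected [ConnectedSpace Y] (N : Y.Modules)
    (hN : PicF.IsInvertible N) : Indec N := by
  haveI : Nonempty Y := inferInstance
  exact indec_of_idem (Groth.Agent.H5.IntN.not_isZero_of_isInvertible hN)
    (fun u hu => idem_end_invertible N hN u hu)

/-- twisting by an invertible module preserves indecomposability. -/
theorem indec_tensor_invertible {X : Scheme.{u}} (W Ja : X.Modules) (hJa : PicF.IsInvertible Ja)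
    (hW : Indec W) : Indec (CohB1.tensorMod W Ja) := by
  obtain ⟨Ja', -, ⟨eJ⟩⟩ := Groth.Agent.H5.Glue.exists_inverse Ja hJa
  exact indec_of_equiv (QC.twEquiv Ja Ja' eJ) (QC.twF_additive Ja) (QC.twF_additive Ja') hW

end Inv

section Main

variable (k : Type u) [Field k] (X : Scheme.{u}) [X.Over (Spec (CommRingCat.of k))]
  [IsProper (X ↘ Spec (CommRingCat.of k))] (K : Type u) [Field K] [Algebra k K]

/-- the base change of `W ⊗ Ja` when the base change of `W` is a power of `N`. -/
theorem nonempty_pullback_tensor_pow (W Ja : X.Modules) (hW : FlatMod.IsFinLocFree W)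
    (hJa : PicF.IsInvertible Ja) (N N' : (XK k X K).Modules) (d : ℕ)
    (aW : (Scheme.Modules.pullback (prK k X K)).obj W ≅ ∐ fun _ : Fin d => N)
    (tm : N' ≅ CohB1.tensorMod N ((Scheme.Modules.pullback (prK k X K)).obj Ja)) :
    Nonempty ((Scheme.Modules.pullback (prK k X K)).obj (CohB1.tensorMod W Ja) ≅
      ∐ fun _ : Fin d => N') := by
  haveI : W.IsQuasicoherent := QC.qc_of_isFinLocFree W hW
  haveI : Ja.IsQuasicoherent := QC.qc_of_isInvertible Ja hJa
  have e1 : (Scheme.Modules.pullback (prK k X K)).obj (CohB1.tensorMod W Ja) ≅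
      CohB1.tensorMod ((Scheme.Modules.pullback (prK k X K)).obj W)
        ((Scheme.Modules.pullback (prK k X K)).obj Ja) := QC.pbTensorIsoQC (prK k X K) W Ja
  have e2 : CohB1.tensorMod ((Scheme.Modules.pullback (prK k X K)).obj W)
        ((Scheme.Modules.pullback (prK k X K)).obj Ja) ≅
      CohB1.tensorMod (∐ fun _ : Fin d => N) ((Scheme.Modules.pullback (prK k X K)).obj Ja) :=
    QC.tensorIso' aW (Iso.refl _)
  have e3 : CohB1.tensorMod (∐ fun _ : Fin d => N)
        ((Scheme.Modules.pullback (prK k X K)).obj Ja) ≅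
      ∐ fun _ : Fin d => CohB1.tensorMod N ((Scheme.Modules.pullback (prK k X K)).obj Ja) :=
    PreservesCoproduct.iso (QC.twF ((Scheme.Modules.pullback (prK k X K)).obj Ja))
      (fun _ : Fin d => N)
  have e4 : (∐ fun _ : Fin d =>
        CohB1.tensorMod N ((Scheme.Modules.pullback (prK k X K)).obj Ja)) ≅
      ∐ fun _ : Fin d => N' := Sigma.mapIso (fun _ => tm.symm)
  exact ⟨e1 ≪≫ e2 ≪≫ e3 ≪≫ e4⟩

set_option maxHeartbeats 800000 in
/-- **S15409**: the rank of the indecomposable absolutely isotypical module of type `L^j` depends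
only on `±j` modulo `r`. -/
theorem rank_eq_of_pic_cyclic [ConnectedSpace (XK k X K)] [PicGrp.Law X]
    [PicGrp.Law (XK k X K)] (hπ : PicGrp.PullMul (prK k X K))
    (L : (XK k X K).Modules) (hL : PicF.IsInvertible L) (r : ℕ)
    (J : X.Modules) (hJ : PicF.IsInvertible J)
    (hJL : PicGrp.cls ((Scheme.Modules.pullback (prK k X K)).obj J)
      (PicLoc.isInvertible_pullback (prK k X K) hJ) = PicGrp.cls L hL ^ r)
    (j a j' : ℤ) (hj' : j' = -j ∨ j' = j + a * r)
    (N N' : (XK k X K).Modules) (hN : PicF.IsInvertible N) (hN' : PicF.IsInvertible N')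
    (hNj : PicGrp.cls N hN = PicGrp.cls L hL ^ j) (hN'j : PicGrp.cls N' hN' = PicGrp.cls L hL ^ j')
    (W W' : X.Modules) (hW : FlatMod.IsFinLocFree W) (hW' : FlatMod.IsFinLocFree W')
    (hWi : Indec W) (hW'i : Indec W') (d d' : ℕ)
    (eW : Nonempty ((Scheme.Modules.pullback (prK k X K)).obj W ≅ ∐ fun _ : Fin d => N))
    (eW' : Nonempty ((Scheme.Modules.pullback (prK k X K)).obj W' ≅ ∐ fun _ : Fin d' => N')) :
    d = d' := by
  have hNi : Indec N := indec_of_invertible_connected N hN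
  have hN'i : Indec N' := indec_of_invertible_connected N' hN'
  rcases hj' with hj' | hj'
  · -- `j' = -j`: duality
    have h1 : PicGrp.cls N hN * PicGrp.cls N' hN' = 1 := by
      rw [hNj, hN'j, hj', zpow_neg]
      exact mul_inv_cancel _
    have h2 : PicGrp.cls N' hN' * PicGrp.cls N hN = 1 := by
      rw [mul_comm]
      exact h1
    obtain ⟨e1⟩ := (PicGrp.cls_mul_cls_eq_one_iff hN hN').mp h1
    obtain ⟨e2⟩ := (PicGrp.cls_mul_cls_eq_one_iff hN' hN).mp h2
    haveI := QC.qc_of_isInvertible N hN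
    haveI := QC.qc_of_isInvertible N' hN'
    have d1 : d' ∣ d := dvd_of_dual k X K N N' hN'i e1 W W' hW hW' hW'i d d' eW eW'
    have d2 : d ∣ d' := dvd_of_dual k X K N' N hNi e2 W' W hW' hW hWi d' d eW' eW
    exact Nat.dvd_antisymm d2 d1
  · -- `j' = j + a r`: twist by a power of `J`
    obtain ⟨Ja, hJa, hJa_eq⟩ := PicGrp.exists_eq_cls (PicGrp.cls J hJ ^ a)
    have h1 : PicGrp.cls ((Scheme.Modules.pullback (prK k X K)).obj Ja)
        (PicLoc.isInvertible_pullback (prK k X K) hJa) = (PicGrp.cls L hL ^ r) ^ a := by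
      rw [← PicGrp.pullHom_cls (prK k X K) hπ Ja hJa, ← hJa_eq, map_zpow,
        PicGrp.pullHom_cls (prK k X K) hπ J hJ, hJL]
    have h2 : PicGrp.cls N' hN' = PicGrp.cls N hN *
        PicGrp.cls ((Scheme.Modules.pullback (prK k X K)).obj Ja)
          (PicLoc.isInvertible_pullback (prK k X K) hJa) := by
      rw [hN'j, hNj, h1, hj', zpow_add, zpow_mul', zpow_natCast]
    have h3 : Nonempty (N' ≅
        CohB1.tensorMod N ((Scheme.Modules.pullback (prK k X K)).obj Ja)) := by
      apply (PicGrp.cl_eq_cl_iff _ _).mp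
      have h4 := congrArg Subtype.val h2
      rw [PicGrp.cls_mul_cls_val hN (PicLoc.isInvertible_pullback (prK k X K) hJa)] at h4
      exact h4
    obtain ⟨tm⟩ := h3
    obtain ⟨aW⟩ := eW
    have hE : FlatMod.IsFinLocFree (CohB1.tensorMod W Ja) :=
      Groth.Agent.LD.RP2.isFinLocFree_tensorMod_of_isInvertible W Ja hW hJa
    have hEi : Indec (CohB1.tensorMod W Ja) := indec_tensor_invertible W Ja hJa hWi
    obtain ⟨eE⟩ := nonempty_pullback_tensor_pow k X K W Ja hW hJa N N' d aW tm
    obtain ⟨φ⟩ := iso_of_isotypic_flf k X K N' (CohB1.tensorMod W Ja) W' hE hW' hEi hW'i d d'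
      ⟨eE⟩ eW'
    obtain ⟨aW'⟩ := eW'
    have ψ : (∐ fun _ : Fin d => N') ≅ ∐ fun _ : Fin d' => N' :=
      eE.symm ≪≫ (Scheme.Modules.pullback (prK k X K)).mapIso φ ≪≫ aW'
    haveI := isProper_strK k X K
    have hLE : LE N' := le_of_indec_coh K (XK k X K)
      (Groth.Agent.H4.PSch4.isCoh_of_isFinLocFree N' (QC.isFinLocFree_of_isInvertible N' hN')) hN'i
    obtain ⟨σ, -⟩ := ks_unique d d' (fun _ => N') (fun _ => N') (fun _ => hLE)
      (fun _ => hN'i) ⟨(biproduct.isoCoproduct _) ≪≫ ψ ≪≫ (biproduct.isoCoproduct _).symm⟩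
    simpa using Fintype.card_congr σ

end Main

end

end Groth.Agent.LD.KSch
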