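import Groth.Agent.Lib.Lead.KSch.PicCyc
import Groth.Agent.Lib.Lead.MV.TwPow
import Groth.Agent.H4.RT4

/-!
# Indecomposable absolutely split modules when `Pic(X_K)` is cyclic (S15405)

* `iso_of_common_summand`: indecomposable objects `T`, `E` such that `ΦT` is a power of an object
  `W` which is a retract of `ΦE` are isomorphic.
* `exists_indec_of_type`, `exists_indec_tensorPow`: existence of indecomposable modules of type
  `L^{⊗ j}`.
* `exists_isotypical_tensor`, `unique_isotypical_tensor`: the two halves of S15405.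
-/

set_option autoImplicit false
set_option linter.style.haveILetI false
universe w v₁ u₁ v₂ u₂ u
open CategoryTheory CategoryTheory.Limits AlgebraicGeometry TopologicalSpace Opposite

namespace Groth.Agent.LD.KSch

open Groth.Agent.LD Groth.Agent.LD.QC

attribute [-instance] Groth.Agent.LD.QC.stalkModule
attribute [local instance] Abelian.hasFiniteBiproducts
attribute [local instance] overBC

noncomputable section

section AbsCS

variable {k K : Type w} [Field k] [Field K] [Algebra k K]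
variable {C : Type u₁} [Category.{v₁} C] [Abelian C] [Linear k C]
variable {D : Type u₂} [Category.{v₂} D] [Abelian D] [Linear K D]
variable {Φ : C ⥤ D}

/-- **descent of isomorphism from a common summand**: if `T` has local endomorphism ring, `E` is
indecomposable, `ΦT` is a power of `W` and `W` is a retract of `ΦE`, then `T ≅ E`. -/
theorem iso_of_common_summand {T E : C} (hTE : HBC k K Φ T E) (hET : HBC k K Φ E T)
    (hTT : HBC k K Φ T T) (hT : LE T) (hE : Indec E) {W : D} (d : ℕ)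
    (eT : Φ.obj T ≅ ⨁ fun _ : Fin d => W) (ι : W ⟶ Φ.obj E) (ρ : Φ.obj E ⟶ W)
    (h : ι ≫ ρ = 𝟙 W) : Nonempty (T ≅ E) := by
  have hterm : ∀ t : Fin d,
      (eT.hom ≫ biproduct.π (fun _ : Fin d => W) t ≫ ι) ≫
        (ρ ≫ biproduct.ι (fun _ : Fin d => W) t ≫ eT.inv) =
      eT.hom ≫ (biproduct.π (fun _ : Fin d => W) t ≫ biproduct.ι (fun _ : Fin d => W) t) ≫
        eT.inv := by
    intro t
    have h' : ι ≫ ρ ≫ biproduct.ι (fun _ : Fin d => W) t ≫ eT.inv =
        biproduct.ι (fun _ : Fin d => W) t ≫ eT.inv := by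
      rw [← Category.assoc, h, Category.id_comp]
    simp only [Category.assoc, h']
  obtain ⟨i, ρ', hiρ⟩ := retract_of_sum_retract_map hTE hET hTT hT Finset.univ
    (fun t : Fin d => eT.hom ≫ biproduct.π (fun _ : Fin d => W) t ≫ ι)
    (fun t : Fin d => ρ ≫ biproduct.ι (fun _ : Fin d => W) t ≫ eT.inv)
    (by
      rw [Finset.sum_congr rfl (fun t _ => hterm t), ← Preadditive.comp_sum,
        ← Preadditive.sum_comp, biproduct.total, Category.id_comp, eT.hom_inv_id])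
  haveI := isIso_of_splitMono_indec hT.1 hE i ρ' hiρ
  exact ⟨asIso i⟩

end AbsCS

section Grp

variable {G : Type*} [Group G] (e : G ≃* Multiplicative ℤ) (g : G)
  (he : e g = Multiplicative.ofAdd 1)

include he

lemma map_gen_zpow (m : ℤ) : e (g ^ m) = Multiplicative.ofAdd m := by
  rw [map_zpow, he]
  apply Multiplicative.toAdd.injective
  rw [toAdd_zpow, toAdd_ofAdd, toAdd_ofAdd]
  first | rw [smul_eq_mul, mul_one] | simp

lemma exists_zpow_of_gen (c : G) : ∃ m : ℤ, c = g ^ m :=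
  ⟨Multiplicative.toAdd (e c), e.injective (by rw [map_gen_zpow e g he, ofAdd_toAdd])⟩

lemma zpow_inj_of_gen {m m' : ℤ} (h : g ^ m = g ^ m') : m = m' := by
  have h1 := congrArg e h
  rw [map_gen_zpow e g he, map_gen_zpow e g he] at h1
  exact Multiplicative.ofAdd.injective h1

end Grp

lemma exists_div_mod_nat (m : ℤ) (r : ℕ) (hr : 1 ≤ r) :
    ∃ (j : ℕ) (a : ℤ), j < r ∧ m = (j : ℤ) + a * (r : ℤ) := by
  have hr0 : (0 : ℤ) < (r : ℤ) := by omega
  have h1 : 0 ≤ m % (r : ℤ) := Int.emod_nonneg m (ne_of_gt hr0)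
  have h2 : m % (r : ℤ) < r := Int.emod_lt_of_pos m hr0
  have h3 : ((m % (r : ℤ)).toNat : ℤ) = m % (r : ℤ) := Int.toNat_of_nonneg h1
  refine ⟨(m % (r : ℤ)).toNat, m / (r : ℤ), ?_, ?_⟩
  · have h4 : ((m % (r : ℤ)).toNat : ℤ) < (r : ℤ) := by rw [h3]; exact h2
    exact_mod_cast h4
  · rw [h3]; exact (Int.emod_add_ediv_mul m r).symm

lemma eq_of_add_mul_eq {j j' : ℕ} {a a' : ℤ} {r : ℕ} (hr : 1 ≤ r) (hj : j < r) (hj' : j' < r)
    (hmm : (j : ℤ) + a * (r : ℤ) = (j' : ℤ) + a' * (r : ℤ)) : a = a' ∧ j = j' := by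
  have hr0 : (0 : ℤ) < (r : ℤ) := by omega
  have hjj : (j : ℤ) = (j' : ℤ) := by
    have h1 := congrArg (fun z : ℤ => z % (r : ℤ)) hmm
    simp only [Int.add_mul_emod_self_right] at h1
    have e1 : (j : ℤ) % (r : ℤ) = j := Int.emod_eq_of_lt (by omega) (by omega)
    have e2 : (j' : ℤ) % (r : ℤ) = j' := Int.emod_eq_of_lt (by omega) (by omega)
    rw [e1, e2] at h1
    exact h1
  have haa : a = a' := by
    have h2 : a * (r : ℤ) = a' * (r : ℤ) := by
      rw [hjj] at hmm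
      linarith
    exact mul_right_cancel₀ (ne_of_gt hr0) h2
  exact ⟨haa, by exact_mod_cast hjj⟩

section Pic

variable {Y : Scheme.{u}} [PicGrp.Law Y]

lemma cls_tensorMod' {A B : Y.Modules} (hA : PicF.IsInvertible A) (hB : PicF.IsInvertible B) :
    PicGrp.cls (CohB1.tensorMod A B) (QC.isInvertible_tensorMod hA hB) =
      PicGrp.cls A hA * PicGrp.cls B hB :=
  Subtype.ext (PicGrp.cls_mul_cls_val hA hB).symm

lemma cls_tensorPow' {L : Y.Modules} (hL : PicF.IsInvertible L) (j : ℕ) :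
    PicGrp.cls (CohB1.tensorPow L j) (QC.isInvertible_tensorPow hL j) = PicGrp.cls L hL ^ j :=
  Subtype.ext (PicGrp.cls_pow_val hL j).symm

end Pic

section Main

variable (k : Type u) [Field k] (X : Scheme.{u}) [X.Over (Spec (CommRingCat.of k))]
  [IsProper (X ↘ Spec (CommRingCat.of k))] (K : Type u) [Field K] [Algebra k K]

/-- the concrete form of `iso_of_common_summand`. -/
theorem iso_of_common_summand_flf (N : (XK k X K).Modules) (T E : X.Modules)
    (hT : FlatMod.IsFinLocFree T) (hE : FlatMod.IsFinLocFree E) (hTi : Indec T) (hEi : Indec E)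
    (d : ℕ) (eT : Nonempty ((Scheme.Modules.pullback (prK k X K)).obj T ≅ ∐ fun _ : Fin d => N))
    (ι : N ⟶ (Scheme.Modules.pullback (prK k X K)).obj E)
    (ρ : (Scheme.Modules.pullback (prK k X K)).obj E ⟶ N) (h : ι ≫ ρ = 𝟙 N) :
    Nonempty (T ≅ E) := by
  obtain ⟨e1⟩ := eT
  obtain ⟨h1⟩ := hbc_flf k X K T E hT hE
  obtain ⟨h2⟩ := hbc_flf k X K E T hE hT
  obtain ⟨h3⟩ := hbc_flf k X K T T hT hT
  haveI := finite_end_flf k X T hT
  exact iso_of_common_summand h1 h2 h3 (le_of_indec k hTi) hEi d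
    (e1 ≪≫ (biproduct.isoCoproduct _).symm) ι ρ h

/-- a nonzero finite locally free module whose base change is `A^r` has `r > 0`. -/
lemma pos_of_pullback_pow (E : X.Modules) (hE : FlatMod.IsFinLocFree E) (hE0 : ¬ IsZero E)
    (A : (XK k X K).Modules) (r : ℕ)
    (e : Nonempty ((Scheme.Modules.pullback (prK k X K)).obj E ≅ ∐ fun _ : Fin r => A)) :
    0 < r := by
  by_contra h0
  have hr0 : r = 0 := by omega
  subst hr0
  obtain ⟨e0⟩ := e
  obtain ⟨h⟩ := hbc_flf k X K E E hE hE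
  exact hE0 (isZero_of_isZero_map h
    (((isZero_biproduct_fin_zero (fun _ : Fin 0 => A)).of_iso
      (biproduct.isoCoproduct (fun _ : Fin 0 => A)).symm).of_iso e0))

/-- a finite locally free module whose base change is a positive power of an indecomposable module
`A` has an indecomposable finite locally free retract whose base change is a power of `A`. -/
theorem exists_indec_of_type (E' : X.Modules) (hE' : FlatMod.IsFinLocFree E')
    (A : (XK k X K).Modules) (hA : Indec A) (c : ℕ) (hc : 0 < c)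
    (e : (Scheme.Modules.pullback (prK k X K)).obj E' ≅ ∐ fun _ : Fin c => A) :
    ∃ (G : X.Modules) (c' : ℕ), FlatMod.IsFinLocFree G ∧ Indec G ∧
      Nonempty ((Scheme.Modules.pullback (prK k X K)).obj G ≅ ∐ fun _ : Fin c' => A) := by
  have hpowne : ¬ IsZero (∐ fun _ : Fin c => A) := by
    intro hz
    apply hA.1
    rw [IsZero.iff_id_eq_zero]
    have hz' : IsZero (⨁ fun _ : Fin c => A) := hz.of_iso (biproduct.isoCoproduct _)
    have h1 : 𝟙 A = biproduct.ι (fun _ : Fin c => A) ⟨0, hc⟩ ≫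
        biproduct.π (fun _ : Fin c => A) ⟨0, hc⟩ :=
      (biproduct.ι_π_self (fun _ : Fin c => A) ⟨0, hc⟩).symm
    rw [h1, hz'.eq_of_tgt (biproduct.ι (fun _ : Fin c => A) ⟨0, hc⟩) 0, Limits.zero_comp]
  have hE0 : ¬ IsZero E' := by
    intro hz
    apply hpowne
    refine IsZero.of_iso ?_ e.symm
    rw [IsZero.iff_id_eq_zero, ← CategoryTheory.Functor.map_id,
      (IsZero.iff_id_eq_zero _).mp hz, Functor.map_zero]
  obtain ⟨⟨G, m, hG, hGi, ⟨eG⟩⟩, -⟩ := isotypic_decomp_flf k X K E' hE' hE0 A hA c ⟨e⟩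
  have hm : 0 < m := by
    by_contra h0
    have hm0 : m = 0 := by omega
    subst hm0
    apply hE0
    have hz : IsZero (⨁ fun _ : Fin 0 => G) := isZero_biproduct_fin_zero _
    exact (hz.of_iso (biproduct.isoCoproduct _).symm).of_iso eG
  obtain ⟨eG', -⟩ : ∃ x : E' ≅ ⨁ fun _ : Fin m => G, True :=
    ⟨eG ≪≫ (biproduct.isoCoproduct _).symm, trivial⟩
  have hret : (biproduct.ι (fun _ : Fin m => G) ⟨0, hm⟩ ≫ eG'.inv) ≫
      (eG'.hom ≫ biproduct.π (fun _ : Fin m => G) ⟨0, hm⟩) = 𝟙 G := by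
    simp only [Category.assoc, Iso.inv_hom_id_assoc, biproduct.ι_π_self]
  obtain ⟨c', ⟨ec⟩⟩ := pow_of_retract_flf k X K A hA E' G hG _ _ hret c e
  exact ⟨G, c', hG, hGi, ⟨ec⟩⟩

/-- if some indecomposable finite locally free module has type `L`, there are indecomposable finite
locally free modules of type `L^{⊗ j}` for all `j`. -/
theorem exists_indec_tensorPow [ConnectedSpace (XK k X K)] (L : (XK k X K).Modules)
    (hL : PicF.IsInvertible L) (M₁ : X.Modules) (d₁ : ℕ) (hM₁ : FlatMod.IsFinLocFree M₁)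
    (hM₁i : Indec M₁)
    (eM₁ : Nonempty ((Scheme.Modules.pullback (prK k X K)).obj M₁ ≅ ∐ fun _ : Fin d₁ => L))
    (j : ℕ) :
    ∃ (M : X.Modules) (d : ℕ), FlatMod.IsFinLocFree M ∧ Indec M ∧
      Nonempty ((Scheme.Modules.pullback (prK k X K)).obj M ≅
        ∐ fun _ : Fin d => CohB1.tensorPow L j) := by
  induction j with
  | zero =>
    have e1 : CohB1.tensorPow L 0 ≅ ∐ fun _ : Fin 1 => CohB1.tensorPow L 0 :=
      (coproductUniqueIso (fun _ : Fin 1 => CohB1.tensorPow L 0)).symm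
    have e2 : (Scheme.Modules.pullback (prK k X K)).obj (unitMod X) ≅ CohB1.tensorPow L 0 :=
      QC.pullbackUnitIso (prK k X K)
    exact exists_indec_of_type k X K (unitMod X)
      (QC.isFinLocFree_of_isInvertible _ (QC.isInvertible_unit X)) (CohB1.tensorPow L 0)
      (indec_of_invertible_connected _ (QC.isInvertible_tensorPow hL 0)) 1 Nat.one_pos
      (e2 ≪≫ e1)
  | succ j ih =>
    obtain ⟨M, d, hM, hMi, ⟨eM⟩⟩ := ih
    obtain ⟨a1⟩ := eM₁
    have hd : 0 < d := pos_of_pullback_pow k X K M hM hMi.1 _ d ⟨eM⟩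
    have hd₁ : 0 < d₁ := pos_of_pullback_pow k X K M₁ hM₁ hM₁i.1 _ d₁ ⟨a1⟩
    haveI : M.IsQuasicoherent := QC.qc_of_isFinLocFree M hM
    haveI : M₁.IsQuasicoherent := QC.qc_of_isFinLocFree M₁ hM₁
    have e' : (Scheme.Modules.pullback (prK k X K)).obj (CohB1.tensorMod M M₁) ≅
        ∐ fun _ : Fin (d * d₁) => CohB1.tensorMod (CohB1.tensorPow L j) L :=
      QC.pbTensorIsoQC (prK k X K) M M₁ ≪≫ QC.tensorIso' eM a1 ≪≫
        Groth.Agent.LD.TwPow.sigmaTensorSigmaIso _ _ d d₁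
    exact exists_indec_of_type k X K (CohB1.tensorMod M M₁)
      (Groth.Agent.H4.RT4.isFinLocFree_tensor M M₁ hM hM₁) (CohB1.tensorPow L (j + 1))
      (indec_of_invertible_connected _ (QC.isInvertible_tensorPow hL (j + 1))) (d * d₁)
      (Nat.mul_pos hd hd₁) e'

/-- the base change of `E ≅ M ⊗ Ja` when the base change of `M` is a power of `Nj`. -/
lemma pullback_of_tensor_decomp (E : X.Modules) (hE : FlatMod.IsFinLocFree E) (M Ja : X.Modules)
    (hJa : PicF.IsInvertible Ja) (Nj : (XK k X K).Modules) (d : ℕ)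
    (eM : Nonempty ((Scheme.Modules.pullback (prK k X K)).obj M ≅ ∐ fun _ : Fin d => Nj))
    (eE : Nonempty (E ≅ CohB1.tensorMod M Ja)) :
    Nonempty ((Scheme.Modules.pullback (prK k X K)).obj E ≅
      ∐ fun _ : Fin d => CohB1.tensorMod Nj ((Scheme.Modules.pullback (prK k X K)).obj Ja)) := by
  obtain ⟨aM⟩ := eM
  obtain ⟨φ⟩ := eE
  obtain ⟨Jb, hJb, ⟨eJ⟩⟩ := Groth.Agent.H5.Glue.exists_inverse Ja hJa
  have ψ : M ≅ CohB1.tensorMod E Jb :=
    (QC.twEquiv Ja Jb eJ).unitIso.app M ≪≫ (QC.twF Jb).mapIso φ.symm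
  have hM : FlatMod.IsFinLocFree M :=
    QC.isFinLocFree_of_retract ψ.hom ψ.inv ψ.hom_inv_id
      (Groth.Agent.LD.RP2.isFinLocFree_tensorMod_of_isInvertible E Jb hE hJb)
  obtain ⟨eT⟩ := nonempty_pullback_tensor_pow k X K M Ja hM hJa Nj
    (CohB1.tensorMod Nj ((Scheme.Modules.pullback (prK k X K)).obj Ja)) d aM (Iso.refl _)
  exact ⟨(Scheme.Modules.pullback (prK k X K)).mapIso φ ≪≫ eT⟩

section PicMain

variable [PicGrp.Law X] [PicGrp.Law (XK k X K)] (hπ : PicGrp.PullMul (prK k X K))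
  (L : (XK k X K).Modules) (hL : PicF.IsInvertible L) (r : ℕ) (J : X.Modules)
  (hJ : PicF.IsInvertible J)
  (hJL : Nonempty ((Scheme.Modules.pullback (prK k X K)).obj J ≅ CohB1.tensorPow L r))

include hπ hJL in
lemma cls_pullback_of_zpow (Ja : X.Modules) (hJa : PicF.IsInvertible Ja) (a : ℤ)
    (h : PicGrp.cls Ja hJa = PicGrp.cls J hJ ^ a) :
    PicGrp.cls ((Scheme.Modules.pullback (prK k X K)).obj Ja)
      (PicLoc.isInvertible_pullback (prK k X K) hJa) = (PicGrp.cls L hL ^ r) ^ a := by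
  have hJr : PicGrp.cls ((Scheme.Modules.pullback (prK k X K)).obj J)
      (PicLoc.isInvertible_pullback (prK k X K) hJ) = PicGrp.cls L hL ^ r := by
    rw [← cls_tensorPow' hL r]
    exact (PicGrp.cls_eq_cls_iff _ _).mpr hJL
  rw [← PicGrp.pullHom_cls (prK k X K) hπ Ja hJa, h, map_zpow,
    PicGrp.pullHom_cls (prK k X K) hπ J hJ, hJr]

include hπ hJL in
lemma cls_type (Ja : X.Modules) (hJa : PicF.IsInvertible Ja) (a : ℤ)
    (hc : PicGrp.cls Ja hJa = PicGrp.cls J hJ ^ a) (j : ℕ) :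
    PicGrp.cls (CohB1.tensorMod (CohB1.tensorPow L j)
        ((Scheme.Modules.pullback (prK k X K)).obj Ja))
      (QC.isInvertible_tensorMod (QC.isInvertible_tensorPow hL j)
        (PicLoc.isInvertible_pullback (prK k X K) hJa)) =
      PicGrp.cls L hL ^ ((j : ℤ) + a * (r : ℤ)) := by
  rw [cls_tensorMod' (QC.isInvertible_tensorPow hL j)
      (PicLoc.isInvertible_pullback (prK k X K) hJa), cls_tensorPow' hL j,
    cls_pullback_of_zpow k X K hπ L hL r J hJ hJL Ja hJa a hc]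
  first
    | rw [zpow_add, zpow_mul', zpow_natCast, zpow_natCast]
    | simp only [zpow_add, zpow_mul', zpow_natCast]

set_option maxHeartbeats 800000 in
include hπ hJL in
/-- **S15405 (a)**. -/
theorem exists_isotypical_tensor [ConnectedSpace (XK k X K)]
    (e : PicLoc.PicSet (XK k X K) ≃* Multiplicative ℤ)
    (he : e (PicGrp.cls L hL) = Multiplicative.ofAdd 1) (hr : 1 ≤ r)
    (M₁ : X.Modules) (d₁ : ℕ) (hM₁ : FlatMod.IsFinLocFree M₁) (hM₁i : Indec M₁)
    (eM₁ : Nonempty ((Scheme.Modules.pullback (prK k X K)).obj M₁ ≅ ∐ fun _ : Fin d₁ => L))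
    (E : X.Modules) (hE : FlatMod.IsFinLocFree E) (hEi : Indec E) (n : ℕ)
    (Ls : Fin n → (XK k X K).Modules) (hLs : ∀ i, PicF.IsInvertible (Ls i))
    (hEs : Nonempty ((Scheme.Modules.pullback (prK k X K)).obj E ≅ ∐ Ls)) :
    ∃ (a : ℤ) (j : ℕ), j < r ∧ ∃ (M : X.Modules) (d : ℕ) (Ja : X.Modules)
      (hJa : PicF.IsInvertible Ja),
      FlatMod.IsFinLocFree M ∧ Indec M ∧
      Nonempty ((Scheme.Modules.pullback (prK k X K)).obj M ≅
        ∐ fun _ : Fin d => CohB1.tensorPow L j) ∧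
      PicGrp.cls Ja hJa = PicGrp.cls J hJ ^ a ∧ Nonempty (E ≅ CohB1.tensorMod M Ja) := by
  obtain ⟨eEs⟩ := hEs
  have hn : 0 < n := by
    by_contra h0
    have hn0 : n = 0 := by omega
    subst hn0
    obtain ⟨h⟩ := hbc_flf k X K E E hE hE
    exact hEi.1 (isZero_of_isZero_map h
      (((isZero_biproduct_fin_zero Ls).of_iso (biproduct.isoCoproduct Ls).symm).of_iso eEs))
  obtain ⟨m, hm⟩ := exists_zpow_of_gen e (PicGrp.cls L hL) he
    (PicGrp.cls (Ls ⟨0, hn⟩) (hLs ⟨0, hn⟩))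
  obtain ⟨j, a, hj, rfl⟩ := exists_div_mod_nat m r hr
  obtain ⟨M, d, hM, hMi, ⟨aM⟩⟩ :=
    exists_indec_tensorPow k X K L hL M₁ d₁ hM₁ hM₁i eM₁ j
  obtain ⟨Ja, hJa, hJa_eq⟩ := PicGrp.exists_eq_cls (PicGrp.cls J hJ ^ a)
  have h5 : PicGrp.cls (Ls ⟨0, hn⟩) (hLs ⟨0, hn⟩) =
      PicGrp.cls (CohB1.tensorMod (CohB1.tensorPow L j)
          ((Scheme.Modules.pullback (prK k X K)).obj Ja))
        (QC.isInvertible_tensorMod (QC.isInvertible_tensorPow hL j)
          (PicLoc.isInvertible_pullback (prK k X K) hJa)) := by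
    rw [cls_type k X K hπ L hL r J hJ hJL Ja hJa a hJa_eq.symm j, hm]
  obtain ⟨tm⟩ := (PicGrp.cls_eq_cls_iff _ _).mp h5
  obtain ⟨eT⟩ := nonempty_pullback_tensor_pow k X K M Ja hM hJa (CohB1.tensorPow L j)
    (Ls ⟨0, hn⟩) d aM tm
  have hT : FlatMod.IsFinLocFree (CohB1.tensorMod M Ja) :=
    Groth.Agent.LD.RP2.isFinLocFree_tensorMod_of_isInvertible M Ja hM hJa
  have hTi : Indec (CohB1.tensorMod M Ja) := indec_tensor_invertible M Ja hJa hMi
  obtain ⟨φ⟩ := iso_of_common_summand_flf k X K (Ls ⟨0, hn⟩) (CohB1.tensorMod M Ja) E hT hE hTi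
    hEi d ⟨eT⟩
    (biproduct.ι Ls ⟨0, hn⟩ ≫ (biproduct.isoCoproduct Ls).hom ≫ eEs.inv)
    (eEs.hom ≫ (biproduct.isoCoproduct Ls).inv ≫ biproduct.π Ls ⟨0, hn⟩)
    (by simp only [Category.assoc, Iso.inv_hom_id_assoc, Iso.hom_inv_id_assoc,
      biproduct.ι_π_self])
  exact ⟨a, j, hj, M, d, Ja, hJa, hM, hMi, ⟨aM⟩, hJa_eq.symm, ⟨φ.symm⟩⟩

set_option maxHeartbeats 800000 in
include hπ hJL in
/-- **S15405 (b)**. -/
theorem unique_isotypical_tensor [ConnectedSpace (XK k X K)]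
    (e : PicLoc.PicSet (XK k X K) ≃* Multiplicative ℤ)
    (he : e (PicGrp.cls L hL) = Multiplicative.ofAdd 1) (hr : 1 ≤ r)
    (E : X.Modules) (hE : FlatMod.IsFinLocFree E) (hEi : Indec E)
    (a a' : ℤ) (j j' : ℕ) (M M' : X.Modules) (d d' : ℕ) (Ja Ja' : X.Modules)
    (hJa : PicF.IsInvertible Ja) (hJa' : PicF.IsInvertible Ja') (hj : j < r) (hj' : j' < r)
    (eM : Nonempty ((Scheme.Modules.pullback (prK k X K)).obj M ≅
      ∐ fun _ : Fin d => CohB1.tensorPow L j))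
    (eM' : Nonempty ((Scheme.Modules.pullback (prK k X K)).obj M' ≅
      ∐ fun _ : Fin d' => CohB1.tensorPow L j'))
    (hc : PicGrp.cls Ja hJa = PicGrp.cls J hJ ^ a)
    (hc' : PicGrp.cls Ja' hJa' = PicGrp.cls J hJ ^ a')
    (eE : Nonempty (E ≅ CohB1.tensorMod M Ja)) (eE' : Nonempty (E ≅ CohB1.tensorMod M' Ja')) :
    a = a' ∧ j = j' := by
  obtain ⟨e1⟩ := pullback_of_tensor_decomp k X K E hE M Ja hJa (CohB1.tensorPow L j) d eM eE
  obtain ⟨e2⟩ := pullback_of_tensor_decomp k X K E hE M' Ja' hJa' (CohB1.tensorPow L j') d' eM' eE'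
  have hN1 := QC.isInvertible_tensorMod (QC.isInvertible_tensorPow hL j)
    (PicLoc.isInvertible_pullback (prK k X K) hJa)
  have hN2 := QC.isInvertible_tensorMod (QC.isInvertible_tensorPow hL j')
    (PicLoc.isInvertible_pullback (prK k X K) hJa')
  have hd : 0 < d := pos_of_pullback_pow k X K E hE hEi.1 _ d ⟨e1⟩
  have hN1i := indec_of_invertible_connected _ hN1
  have hN2i := indec_of_invertible_connected _ hN2
  haveI := isProper_strK k X K
  have hLE : LE (CohB1.tensorMod (CohB1.tensorPow L j)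
      ((Scheme.Modules.pullback (prK k X K)).obj Ja)) :=
    le_of_indec_coh K (XK k X K)
      (Groth.Agent.H4.PSch4.isCoh_of_isFinLocFree _ (QC.isFinLocFree_of_isInvertible _ hN1)) hN1i
  obtain ⟨σ, hσ⟩ := ks_unique d d'
    (fun _ => CohB1.tensorMod (CohB1.tensorPow L j)
      ((Scheme.Modules.pullback (prK k X K)).obj Ja))
    (fun _ => CohB1.tensorMod (CohB1.tensorPow L j')
      ((Scheme.Modules.pullback (prK k X K)).obj Ja'))
    (fun _ => hLE) (fun _ => hN2i)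
    ⟨(biproduct.isoCoproduct _) ≪≫ e1.symm ≪≫ e2 ≪≫ (biproduct.isoCoproduct _).symm⟩
  obtain ⟨θ⟩ := hσ ⟨0, hd⟩
  have hcl := (PicGrp.cls_eq_cls_iff hN1 hN2).mpr ⟨θ⟩
  have k1 := cls_type k X K hπ L hL r J hJ hJL Ja hJa a hc j
  have k2 := cls_type k X K hπ L hL r J hJ hJL Ja' hJa' a' hc' j'
  have hz : PicGrp.cls L hL ^ ((j : ℤ) + a * (r : ℤ)) =
      PicGrp.cls L hL ^ ((j' : ℤ) + a' * (r : ℤ)) := by
    rw [← k1, ← k2]
    exact hcl
  exact eq_of_add_mul_eq hr hj hj' (zpow_inj_of_gen e (PicGrp.cls L hL) he hz)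

end PicMain

end Main

end

end Groth.Agent.LD.KSch
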