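import Groth.Agent.Lib.Lead.KSch.WeilFin3
import Groth.Agent.Lib.Lead.FBC.BC0Iso
import Groth.Agent.Lib.Lead.CohLES.H0Lin
import Groth.Prelude.Def_NonAbH2
import Groth.Prelude.Def_Red
import Groth.Prelude.Def_AlgGrp

/-! # The direct image of the structure sheaf of a torsor under a finite group scheme

For a pseudo-torsor `j : P → X` under `G ×_k X` with `G` finite over the field `k` and `j` affine,
`j^* j_* O_P ≅ O_P^n` with `n = dim_k H^0(G, O_G)`; consequently `j_* O_P ⊗ j_* O_P ≅ (j_* O_P)^n`
when `j` is finite locally free. -/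

set_option autoImplicit false
universe u
open CategoryTheory CategoryTheory.Limits AlgebraicGeometry Opposite

namespace Groth.Agent.LD.KSch

open Groth.Agent.LD Groth.Agent.LD.QC

attribute [-instance] Groth.Agent.LD.QC.stalkModule
attribute [local instance] Abelian.hasFiniteBiproducts

noncomputable section

/-- a semilinear equivalence with a vector space of dimension `n` over a field gives coordinates. -/
lemma nonempty_equiv_fin_fun_of_semilinear {A A' N N' : Type*} [Field A] [CommRing A']
    [AddCommGroup N] [AddCommGroup N'] [Module A N] [Module A' N'] (e₁ : A ≃+* A') (e₂ : N ≃+ N')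
    (h : ∀ (a : A) (x : N), e₂ (a • x) = e₁ a • e₂ x) [Module.Finite A' N'] (n : ℕ)
    (hn : Module.finrank A N = n) : Nonempty (N' ≃ₗ[A'] (Fin n → A')) := by
  letI : Module A' N := Module.compHom N e₁.symm.toRingHom
  let e₂' : N ≃ₗ[A'] N' :=
    { e₂ with
      map_smul' := fun a' x => by
        change e₂ (e₁.symm a' • x) = a' • e₂ x
        rw [h]; simp }
  haveI : Module.Finite A' N := Module.Finite.equiv e₂'.symm
  letI : SMul A' A := ⟨fun a' a => e₁.symm a' * a⟩
  haveI : IsScalarTower A' A N := ⟨fun x y z => by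
    change (e₁.symm x * y) • z = e₁.symm x • (y • z)
    exact mul_smul _ _ _⟩
  haveI : Module.Finite A N := Module.Finite.of_restrictScalars_finite A' A N
  let b := Module.finBasisOfFinrankEq A N hn
  have b' : Module.Basis (Fin n) A' N := b.mapCoeffs e₁ (by
    intro c x
    change e₁.symm (e₁ c) • x = c • x
    simp)
  exact ⟨e₂'.symm.trans b'.equivFun⟩

section Field

variable (k : Type u) [Field k] (G : Scheme.{u}) [G.Over (Spec (CommRingCat.of k))]

/-- the global sections of `π_* O_G` over `Spec k` have coordinates. -/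
lemma nonempty_sections_pushUnit_equiv (n : ℕ)
    (hn : Module.finrank k (Coh.HH G (Coh.structureModule G) 0) = n)
    [Module.Finite Γ(Spec (CommRingCat.of k), ⊤)
      Γ((Scheme.Modules.pushforward (G ↘ Spec (CommRingCat.of k))).obj (Coh.structureModule G), ⊤)] :
    Nonempty (Γ((Scheme.Modules.pushforward (G ↘ Spec (CommRingCat.of k))).obj
        (Coh.structureModule G), ⊤) ≃ₗ[Γ(Spec (CommRingCat.of k), ⊤)]
      (Fin n → Γ(Spec (CommRingCat.of k), ⊤))) := by
  refine nonempty_equiv_fin_fun_of_semilinear (A := k)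
    (A' := Γ(Spec (CommRingCat.of k), ⊤))
    (N := Coh.HH G (Coh.structureModule G) 0)
    (N' := Γ((Scheme.Modules.pushforward (G ↘ Spec (CommRingCat.of k))).obj
        (Coh.structureModule G), ⊤))
    (Scheme.ΓSpecIso (CommRingCat.of k)).symm.commRingCatIsoToRingEquiv
    (CL.HH0Equiv (Coh.structureModule G)) ?_ n hn
  intro a x
  exact CL.HH0Equiv_smul (Coh.structureModule G)
    (Coh.toGlobal (G ↘ Spec (CommRingCat.of k)) a) x

/-- for `G` finite over a field `k`, the pullback of `π_* O_G` to any `k`-scheme is free of rank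
`dim_k H^0(G, O_G)`. -/
theorem nonempty_pullback_pushUnit_iso_freeMod_of_field [IsFinite (G ↘ Spec (CommRingCat.of k))]
    (n : ℕ) (hn : Module.finrank k (Coh.HH G (Coh.structureModule G) 0) = n)
    {T : Scheme.{u}} (h : T ⟶ Spec (CommRingCat.of k)) :
    Nonempty ((Scheme.Modules.pullback h).obj
      ((Scheme.Modules.pushforward (G ↘ Spec (CommRingCat.of k))).obj (Coh.structureModule G)) ≅
        FlatMod.freeMod T n) := by
  haveI : Subsingleton (Spec (CommRingCat.of k)) :=
    inferInstanceAs (Subsingleton (PrimeSpectrum k))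
  haveI : IsDomain (CommRingCat.of k) := inferInstanceAs (IsDomain k)
  haveI : IsNoetherianRing (CommRingCat.of k) := inferInstanceAs (IsNoetherianRing k)
  haveI : Flat (G ↘ Spec (CommRingCat.of k)) := inferInstance
  haveI : LocallyOfFinitePresentation (G ↘ Spec (CommRingCat.of k)) := inferInstance
  have hM : FlatMod.IsFinLocFree ((Scheme.Modules.pushforward
      (G ↘ Spec (CommRingCat.of k))).obj (Coh.structureModule G)) := isFinLocFree_pushUnit _
  haveI : ((Scheme.Modules.pushforward (G ↘ Spec (CommRingCat.of k))).obj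
      (Coh.structureModule G)).IsQuasicoherent := QC.qc_of_isFinLocFree _ hM
  haveI : Module.Finite Γ(Spec (CommRingCat.of k), ⊤)
      Γ((Scheme.Modules.pushforward (G ↘ Spec (CommRingCat.of k))).obj
        (Coh.structureModule G), ⊤) := by
    haveI := ((QC.isFinLocFree_iff_sections _).mp hM ⊤
      (isAffineOpen_top (Spec (CommRingCat.of k)))).1
    infer_instance
  obtain ⟨e⟩ := (QC.restrict_fromSpec_iso_freeMod_iff _
    (isAffineOpen_top (Spec (CommRingCat.of k))) n).mpr
    (nonempty_sections_pushUnit_equiv k G n hn)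
  haveI : IsIso (isAffineOpen_top (Spec (CommRingCat.of k))).fromSpec := by
    rw [IsAffineOpen.fromSpec_top]; infer_instance
  have hh : (h ≫ inv (isAffineOpen_top (Spec (CommRingCat.of k))).fromSpec) ≫
      (isAffineOpen_top (Spec (CommRingCat.of k))).fromSpec = h := by
    rw [Category.assoc, IsIso.inv_hom_id, Category.comp_id]
  exact ⟨(Scheme.Modules.pullbackCongr hh.symm).app _ ≪≫
    ((Scheme.Modules.pullbackComp (h ≫ inv (isAffineOpen_top (Spec (CommRingCat.of k))).fromSpec)
      (isAffineOpen_top (Spec (CommRingCat.of k))).fromSpec).app _).symm ≪≫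
    (Scheme.Modules.pullback (h ≫ inv (isAffineOpen_top (Spec (CommRingCat.of k))).fromSpec)).mapIso
      (((Scheme.Modules.restrictFunctorIsoPullback
        (isAffineOpen_top (Spec (CommRingCat.of k))).fromSpec).app _).symm ≪≫ e) ≪≫
    QC.pullbackFreeModIso _ n⟩

end Field

section Squares

/-- two cartesian squares over the same arrow `q2`, both along affine morphisms, identify the
pullbacks of the direct images of the structure sheaves. -/
theorem nonempty_pullback_push_iso_of_squares {Pl X W G S : Scheme.{u}} (j : Pl ⟶ X) (πX : X ⟶ S)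
    (πG : G ⟶ S) (t : W ⟶ Pl) (q2 : W ⟶ Pl) (g : W ⟶ G) (H₃ : IsPullback t q2 j j)
    (H₂ : IsPullback g q2 πG (j ≫ πX)) [IsAffineHom j] [IsAffineHom πG] :
    Nonempty ((Scheme.Modules.pullback j).obj
        ((Scheme.Modules.pushforward j).obj (unitMod Pl)) ≅
      (Scheme.Modules.pullback (j ≫ πX)).obj ((Scheme.Modules.pushforward πG).obj (unitMod G))) := by
  haveI := FBC.isIso_bc0_of_isAffineHom j j q2 t H₃ (unitMod Pl)
  haveI := FBC.isIso_bc0_of_isAffineHom πG (j ≫ πX) q2 g H₂ (unitMod G)
  exact ⟨asIso (CohBC.bc0 j j q2 t H₃.w (unitMod Pl)) ≪≫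
    (Scheme.Modules.pushforward q2).mapIso (QC.pullbackUnitIso t ≪≫ (QC.pullbackUnitIso g).symm) ≪≫
    (asIso (CohBC.bc0 πG (j ≫ πX) q2 g H₂.w (unitMod G))).symm⟩

open MonoidalCategory CartesianMonoidalCategory in
/-- the pseudo-torsor condition gives the two cartesian squares. -/
theorem nonempty_iso_of_pseudoTorsor {X G S : Scheme.{u}} (πX : X ⟶ S) (πG : G ⟶ S)
    [IsAffineHom πG] (GX P : Over X) (fG : GX.left ⟶ G) (H₀ : IsPullback fG GX.hom πG πX)
    (Ψ : GX ⊗ P ⟶ P ⊗ P) [IsIso Ψ]
    (hΨ : Ψ ≫ CartesianMonoidalCategory.snd P P = CartesianMonoidalCategory.snd GX P)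
    [IsAffineHom P.hom] :
    Nonempty ((Scheme.Modules.pullback P.hom).obj
        ((Scheme.Modules.pushforward P.hom).obj (unitMod P.left)) ≅
      (Scheme.Modules.pullback (P.hom ≫ πX)).obj
        ((Scheme.Modules.pushforward πG).obj (unitMod G))) := by
  haveI : IsIso Ψ.left := (Over.forget X).map_isIso Ψ
  have Hpp : IsPullback (CartesianMonoidalCategory.fst P P).left
      (CartesianMonoidalCategory.snd P P).left P.hom P.hom :=
    IsPullback.of_hasPullback P.hom P.hom
  have H₁ : IsPullback (CartesianMonoidalCategory.fst GX P).left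
      (CartesianMonoidalCategory.snd GX P).left GX.hom P.hom :=
    IsPullback.of_hasPullback GX.hom P.hom
  have hΨ' : Ψ.left ≫ (CartesianMonoidalCategory.snd P P).left =
      (CartesianMonoidalCategory.snd GX P).left := by
    rw [← Over.comp_left, hΨ]
  have hL : IsPullback Ψ.left (CartesianMonoidalCategory.snd GX P).left
      (CartesianMonoidalCategory.snd P P).left (𝟙 P.left) :=
    IsPullback.of_horiz_isIso ⟨by rw [hΨ', Category.comp_id]⟩
  have H₃ : IsPullback (Ψ.left ≫ (CartesianMonoidalCategory.fst P P).left)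
      (CartesianMonoidalCategory.snd GX P).left P.hom P.hom := by
    have := hL.paste_horiz Hpp
    rwa [Category.id_comp] at this
  have H₂ : IsPullback ((CartesianMonoidalCategory.fst GX P).left ≫ fG)
      (CartesianMonoidalCategory.snd GX P).left πG (P.hom ≫ πX) := H₁.paste_horiz H₀
  exact nonempty_pullback_push_iso_of_squares P.hom πX πG _ _ _ H₃ H₂

end Squares

section Torsor

open MonoidalCategory CartesianMonoidalCategory

variable (k : Type u) [Field k] (X : Scheme.{u}) [X.Over (Spec (CommRingCat.of k))]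
  (G : Scheme.{u}) [G.Over (Spec (CommRingCat.of k))]
  [GrpObj (G.asOver (Spec (CommRingCat.of k)))] [IsFinite (G ↘ Spec (CommRingCat.of k))]

/-- `j^* j_* O_P ≅ O_P^n` for a pseudo-torsor `j : P → X` under `G ×_k X`, `G` finite over `k`
with `n = dim_k H^0(G, O_G)`, `j` affine. -/
theorem nonempty_pullback_pushUnit_torsor (n : ℕ)
    (hn : Module.finrank k (Coh.HH G (Coh.structureModule G) 0) = n)
    (P : Over X)
    (a : AlgGrp.Action (Red.bc (X ↘ Spec (CommRingCat.of k))
      (G.asOver (Spec (CommRingCat.of k)))) P)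
    (hP : NonAbH1.IsPseudoTorsorSch a) [IsAffineHom P.hom] :
    Nonempty ((Scheme.Modules.pullback P.hom).obj
      ((Scheme.Modules.pushforward P.hom).obj (Coh.structureModule P.left)) ≅
        FlatMod.freeMod P.left n) := by
  haveI : IsIso (lift a.act (CartesianMonoidalCategory.snd (Red.bc (X ↘ Spec (CommRingCat.of k))
      (G.asOver (Spec (CommRingCat.of k)))) P)) := hP
  obtain ⟨e1⟩ := nonempty_iso_of_pseudoTorsor (X ↘ Spec (CommRingCat.of k))
    (G ↘ Spec (CommRingCat.of k))
    (Red.bc (X ↘ Spec (CommRingCat.of k)) (G.asOver (Spec (CommRingCat.of k)))) P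
    (pullback.fst (G ↘ Spec (CommRingCat.of k)) (X ↘ Spec (CommRingCat.of k)))
    (IsPullback.of_hasPullback _ _)
    (lift a.act (CartesianMonoidalCategory.snd _ P)) (lift_snd _ _)
  obtain ⟨e2⟩ := nonempty_pullback_pushUnit_iso_freeMod_of_field k G n hn
    (P.hom ≫ (X ↘ Spec (CommRingCat.of k)))
  exact ⟨e1 ≪≫ e2⟩

/-- `j_* O_P ⊗ j_* O_P ≅ (j_* O_P)^n`. -/
theorem nonempty_tensorSq_pushUnit_torsor (n : ℕ)
    (hn : Module.finrank k (Coh.HH G (Coh.structureModule G) 0) = n)
    (P : Over X)
    (a : AlgGrp.Action (Red.bc (X ↘ Spec (CommRingCat.of k))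
      (G.asOver (Spec (CommRingCat.of k)))) P)
    (hP : NonAbH1.IsPseudoTorsorSch a) [IsFinite P.hom] [Flat P.hom]
    [LocallyOfFinitePresentation P.hom] :
    Nonempty (CohB1.tensorMod ((Scheme.Modules.pushforward P.hom).obj (Coh.structureModule P.left))
        ((Scheme.Modules.pushforward P.hom).obj (Coh.structureModule P.left)) ≅
      ∐ fun _ : Fin n => (Scheme.Modules.pushforward P.hom).obj (Coh.structureModule P.left)) := by
  obtain ⟨e⟩ := nonempty_tensor_pushUnit_iso P.hom _ n (isFinLocFree_pushUnit P.hom)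
    (nonempty_pullback_pushUnit_torsor k X G n hn P a hP)
  exact ⟨e ≪≫ biproduct.isoCoproduct _⟩

end Torsor

end

end Groth.Agent.LD.KSch
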