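import Groth.Agent.Lib.Lead.KSch.Dual
import Groth.Agent.Lib.Lead.MV.TwPow
import Groth.Agent.Lib.Lead.PN.ExtTwist
import Groth.Agent.Lib.Helper5.Curve6.P1Facts
import Groth.Agent.Lib.Helper5.Curve6.Ext3

/-!
# Multiplicities of the indecomposable modules of twisting type `j` and `-j` on a Severi–Brauer scheme
-/

set_option autoImplicit false
set_option linter.style.haveILetI false
universe u
open CategoryTheory CategoryTheory.Limits AlgebraicGeometry TopologicalSpace Opposite

namespace Groth.Agent.LD.KSch

open Groth.Agent.LD Groth.Agent.LD.QC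

attribute [-instance] Groth.Agent.LD.QC.stalkModule
attribute [local instance] Abelian.hasFiniteBiproducts
attribute [local instance] overBC

noncomputable section

variable {k : Type u} [Field k] {X : Scheme.{u}} (f : X ⟶ Spec (CommRingCat.of k)) (n : ℕ)
  (K : Type u) [Field K] [Algebra k K]

/-- `O_e(a) ⊗ O_e(b) ≅ O` for `a + b = 0`. -/
def twistTensorIso (e : BrSev.Splitting f K n) (a b : ℤ) (h : a + b = 0) :
    CohB1.tensorMod (e.twist a) (e.twist b) ≅ QC.unitMod (BrSev.bc f K) :=
  (QC.pbTensorIso e.iso.hom _ _ (PN.isInvertible_twist n K a) (PN.isInvertible_twist n K b)).symm ≪≫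
    (Scheme.Modules.pullback e.iso.hom).mapIso
      (PN.twistMulIso n K a b 0 h ≪≫ TW.twistZeroIso (CohB1.polyGrading n K)) ≪≫
    QC.pullbackUnitIso e.iso.hom

variable {f n K}

/-- **S14202**: the indecomposable modules of types `j` and `-j` have the same multiplicity. -/
theorem twPow_mult_neg [IsProper f] [IsAlgClosed K] (e : BrSev.Splitting f K n) (j : ℤ)
    (W W' : X.Modules) (hW : FlatMod.IsFinLocFree W) (hW' : FlatMod.IsFinLocFree W')
    (hWi : Indec W) (hW'i : Indec W') (r r' : ℕ) (hWt : BrSev.IsTwPow e j r W)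
    (hW't : BrSev.IsTwPow e (-j) r' W') : r = r' := by
  letI : X.Over (Spec (CommRingCat.of k)) := ⟨f⟩
  haveI : IsProper (X ↘ Spec (CommRingCat.of k)) := ‹IsProper f›
  haveI : IsIntegral (CohB1.ProjSpace n K) := Groth.Agent.H5.Curve6.isIntegral_projSpace K n
  haveI : Nonempty (BrSev.bc f K) :=
    ⟨e.iso.inv.base (Classical.choice (inferInstance : Nonempty (CohB1.ProjSpace n K)))⟩
  haveI hint : IsIntegral (XK k X K) :=
    show IsIntegral (BrSev.bc f K) from isIntegral_of_isOpenImmersion e.iso.hom
  haveI := isProper_strK k X K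
  have hinv : ∀ d : ℤ, PicF.IsInvertible (e.twist d) := fun d =>
    QC.isInvertible_pullback e.iso.hom (PN.isInvertible_twist n K d)
  have hindec : ∀ d : ℤ, Indec (show (XK k X K).Modules from e.twist d) := fun d =>
    indec_of_end_scalar (K := K)
      (Groth.Agent.H5.Curve6.not_isZero_of_isInvertible (X := XK k X K) (hinv d))
      (fun u => end_scalar K (XK k X K) (hinv d) u)
  have hqc : ∀ d : ℤ, (show (XK k X K).Modules from e.twist d).IsQuasicoherent := fun d =>
    QC.qc_of_isInvertible _ (hinv d)
  haveI := hqc j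
  haveI := hqc (-j)
  have h1 : r' ∣ r := dvd_of_dual k X K (e.twist j) (e.twist (-j)) (hindec (-j))
    (twistTensorIso f n K e j (-j) (by ring)) W W' hW hW' hW'i r r' hWt hW't
  have h2 : r ∣ r' := dvd_of_dual k X K (e.twist (-j)) (e.twist j) (hindec j)
    (twistTensorIso f n K e (-j) j (by ring)) W' W hW' hW hWi r' r hW't hWt
  exact Nat.dvd_antisymm h2 h1

end

end Groth.Agent.LD.KSch
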