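import Groth.Agent.Lib.Lead.KSch.Basic

/-!
# Finiteness in the sense of Weil, abstractly (Nori's criterion)

For a sequence of objects `T n` (the tensor powers of a vector bundle) of an abelian category
in which the objects `T n` have Krull–Schmidt decompositions:

* `exists_inR`, `nori_types`: if `P(T) ≅ Q(T)` for two distinct polynomials with natural
  coefficients, and `T (n + 1) ≅ F (T n)` for an additive functor `F`, then only finitely many
  indecomposable objects occur as direct summands of the `T n`;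
* `weil_of_types`, `weil_of_allIn`: conversely, if only finitely many indecomposables occur, then
  `P(T) ≅ Q(T)` for two distinct polynomials (linear algebra over `ℤ`).
-/

set_option autoImplicit false
universe v u
open CategoryTheory CategoryTheory.Limits

namespace Groth.Agent.LD.KSch

noncomputable section

variable {C : Type u} [Category.{v} C] [Abelian C]

attribute [local instance] Abelian.hasFiniteBiproducts

/-! ### retracts -/

/-- `A` is a retract (direct summand) of `M`. -/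
def IsRetr (A M : C) : Prop := ∃ (i : A ⟶ M) (r : M ⟶ A), i ≫ r = 𝟙 A

lemma IsRetr.refl (A : C) : IsRetr A A := ⟨𝟙 A, 𝟙 A, Category.id_comp _⟩

lemma IsRetr.trans {A B M : C} (h₁ : IsRetr A B) (h₂ : IsRetr B M) : IsRetr A M := by
  obtain ⟨i, r, h⟩ := h₁
  obtain ⟨i', r', h'⟩ := h₂
  refine ⟨i ≫ i', r' ≫ r, ?_⟩
  calc (i ≫ i') ≫ r' ≫ r = i ≫ (i' ≫ r') ≫ r := by simp only [Category.assoc]
    _ = 𝟙 A := by rw [h', Category.id_comp, h]

lemma IsRetr.of_iso {A M : C} (e : A ≅ M) : IsRetr A M := ⟨e.hom, e.inv, e.hom_inv_id⟩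

lemma IsRetr.ι {J : Type} [Fintype J] (f : J → C) (j : J) : IsRetr (f j) (⨁ f) :=
  ⟨biproduct.ι f j, biproduct.π f j, biproduct.ι_π_self f j⟩

lemma IsRetr.map (F : C ⥤ C) {A M : C} (h : IsRetr A M) : IsRetr (F.obj A) (F.obj M) := by
  obtain ⟨i, r, h⟩ := h
  exact ⟨F.map i, F.map r, by rw [← F.map_comp, h, F.map_id]⟩

lemma IsRetr.biproduct_map {J : Type} [Fintype J] (f g : J → C) (h : ∀ j, IsRetr (f j) (g j)) :
    IsRetr (⨁ f) (⨁ g) := by
  choose i r hir using h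
  refine ⟨biproduct.map i, biproduct.map r, ?_⟩
  refine biproduct.hom_ext' _ _ (fun j => ?_)
  rw [biproduct.ι_map_assoc, biproduct.ι_map, ← Category.assoc, hir, Category.id_comp,
    Category.comp_id]

/-- a retract with local endomorphism ring of a finite direct sum is a retract of a summand. -/
lemma LE.retr_biproduct {Z : C} (hZ : LE Z) {J : Type} [Fintype J] (f : J → C)
    (h : IsRetr Z (⨁ f)) : ∃ j, IsRetr Z (f j) := by
  obtain ⟨i, r, hir⟩ := h
  have hsum : ∑ j ∈ (Finset.univ : Finset J),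
      ((i ≫ biproduct.π f j) ≫ (biproduct.ι f j ≫ r)) = 𝟙 Z := by
    calc ∑ j ∈ (Finset.univ : Finset J), ((i ≫ biproduct.π f j) ≫ (biproduct.ι f j ≫ r))
        = ∑ j ∈ (Finset.univ : Finset J), i ≫ ((biproduct.π f j ≫ biproduct.ι f j) ≫ r) :=
          Finset.sum_congr rfl (fun j _ => by simp only [Category.assoc])
      _ = i ≫ ((∑ j ∈ (Finset.univ : Finset J), biproduct.π f j ≫ biproduct.ι f j) ≫ r) := by
          rw [Preadditive.sum_comp, Preadditive.comp_sum]
      _ = 𝟙 Z := by rw [biproduct.total, Category.id_comp, hir]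
  have hiso : IsIso (∑ j ∈ (Finset.univ : Finset J),
      ((i ≫ biproduct.π f j) ≫ (biproduct.ι f j ≫ r))) := by
    rw [hsum]; infer_instance
  obtain ⟨j, -, hj⟩ := hZ.exists_isIso_of_isIso_sum
    (fun j => (i ≫ biproduct.π f j) ≫ (biproduct.ι f j ≫ r)) Finset.univ hiso
  haveI := hj
  refine ⟨j, i ≫ biproduct.π f j,
    (biproduct.ι f j ≫ r) ≫ inv ((i ≫ biproduct.π f j) ≫ (biproduct.ι f j ≫ r)), ?_⟩
  rw [← Category.assoc, IsIso.hom_inv_id]

/-! ### objects all of whose indecomposable summands lie in a given family -/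

/-- every direct summand of `M` with local endomorphism ring is one of the `W t`. -/
def AllIn {T : Type} (W : T → C) (M : C) : Prop :=
  ∀ Z : C, LE Z → IsRetr Z M → ∃ t, Nonempty (Z ≅ W t)

lemma AllIn.of_retr {T : Type} {W : T → C} {M N : C} (h : AllIn W M) (hN : IsRetr N M) :
    AllIn W N :=
  fun Z hZ hZN => h Z hZ (hZN.trans hN)

lemma AllIn.biproduct {T : Type} {W : T → C} {J : Type} [Fintype J] (f : J → C)
    (h : ∀ j, AllIn W (f j)) : AllIn W (⨁ f) := by
  intro Z hZ hZM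
  obtain ⟨j, hj⟩ := hZ.retr_biproduct f hZM
  exact h j Z hZ hj

lemma allIn_of_indec {T : Type} {W : T → C} {V : C} (hV : Indec V) (t : T) (e : V ≅ W t) :
    AllIn W V := by
  rintro Z hZ ⟨i, r, hir⟩
  haveI := isIso_of_splitMono_indec hZ.1 hV i r hir
  exact ⟨t, ⟨asIso i ≪≫ e⟩⟩

/-! ### Krull–Schmidt decompositions -/

/-- `M` is a finite direct sum of indecomposable objects with local endomorphism rings. -/
def HasLEDec (M : C) : Prop :=
  ∃ (n : ℕ) (V : Fin n → C), (∀ x, LE (V x)) ∧ (∀ x, Indec (V x)) ∧ Nonempty (M ≅ ⨁ V)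

lemma HasLEDec.cancel {A M N : C} (hA : HasLEDec A) (h : Nonempty (A ⊞ M ≅ A ⊞ N)) :
    Nonempty (M ≅ N) := by
  obtain ⟨n, V, hLE, -, ⟨e⟩⟩ := hA
  obtain ⟨θ⟩ := h
  exact cancel_sum n V hLE
    ⟨(biprod.mapIso e (Iso.refl M)).symm ≪≫ θ ≪≫ biprod.mapIso e (Iso.refl N)⟩

lemma HasLEDec.biproduct {J : Type} [Fintype J] (f : J → C) (h : ∀ j, HasLEDec (f j)) :
    HasLEDec (⨁ f) := by
  have h' : ∀ j, ∃ (n : ℕ) (V : Fin n → C), (∀ x, LE (V x)) ∧ (∀ x, Indec (V x)) ∧
      Nonempty (f j ≅ ⨁ V) := h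
  choose n V hLE hI e using h'
  refine ⟨Fintype.card (Σ j, Fin (n j)),
    fun x => V ((Fintype.equivFin (Σ j, Fin (n j))).symm x).1
      ((Fintype.equivFin (Σ j, Fin (n j))).symm x).2,
    fun x => hLE _ _, fun x => hI _ _, ⟨?_⟩⟩
  exact biproduct.mapIso (fun j => (e j).some) ≪≫
    biproductBiproductIso (fun j => Fin (n j)) V ≪≫
    biproduct.whiskerEquiv (Fintype.equivFin (Σ j, Fin (n j)))
      (fun p => eqToIso (by rw [Equiv.symm_apply_apply]))

/-! ### sums with multiplicities -/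

/-- `⨁_j (f j)^{c j}`. -/
abbrev mulSum {J : Type} [Fintype J] (f : J → C) (c : J → ℕ) : C :=
  ⨁ fun p : (Σ j : J, Fin (c j)) => f p.1

lemma nonempty_biproduct_sum_iso {J K : Type} [Fintype J] [Fintype K] (f : J → C) (g : K → C) :
    Nonempty (⨁ (Sum.elim f g) ≅ (⨁ f) ⊞ (⨁ g)) := by
  have h := Cofan.combPairIsColimit (c₁ := (biproduct.bicone f).toCocone)
    (c₂ := (biproduct.bicone g).toCocone)
    (bc := (BinaryBiproduct.bicone (⨁ f) (⨁ g)).toCocone)
    (biproduct.isColimit f) (biproduct.isColimit g) (BinaryBiproduct.isColimit (⨁ f) (⨁ g))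
  exact ⟨(biproduct.isColimit (Sum.elim f g)).coconePointUniqueUpToIso h⟩

lemma nonempty_biprod_iso_biproduct (A B : C) :
    Nonempty (A ⊞ B ≅ ⨁ (Sum.elim (fun _ : Unit => A) (fun _ : Unit => B))) := by
  obtain ⟨φ⟩ := nonempty_biproduct_sum_iso (fun _ : Unit => A) (fun _ : Unit => B)
  exact ⟨(biprod.mapIso (biproductUniqueIso (fun _ : Unit => A))
    (biproductUniqueIso (fun _ : Unit => B))).symm ≪≫ φ.symm⟩

lemma mulSum_split {J : Type} [Fintype J] (f : J → C) (c c₁ c₂ : J → ℕ)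
    (h : ∀ j, c j = c₁ j + c₂ j) :
    Nonempty (mulSum f c ≅ mulSum f c₁ ⊞ mulSum f c₂) := by
  obtain rfl : c = fun j => c₁ j + c₂ j := funext h
  obtain ⟨φ⟩ := nonempty_biproduct_sum_iso (fun p : (Σ j : J, Fin (c₁ j)) => f p.1)
    (fun p : (Σ j : J, Fin (c₂ j)) => f p.1)
  refine ⟨(biproduct.whiskerEquiv
    ((Equiv.sigmaCongrRight fun j => (finSumFinEquiv (m := c₁ j) (n := c₂ j)).symm).trans
      (Equiv.sigmaSumDistrib _ _)).symm (fun k => ?_)).symm ≪≫ φ⟩
  rcases k with p | p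
  · exact Iso.refl _
  · exact Iso.refl _

/-! ### Nori's argument -/

section Nori

variable (T : ℕ → C)

/-- `M` is a retract of a finite direct sum of objects `T i` with `i < d`. -/
def InR (d : ℕ) (M : C) : Prop :=
  ∃ (ι : Type) (_ : Fintype ι) (g : ι → ℕ), (∀ j, g j < d) ∧ IsRetr M (⨁ fun j => T (g j))

lemma InR.of_lt {d i : ℕ} (h : i < d) : InR T d (T i) :=
  ⟨Unit, inferInstance, fun _ => i, fun _ => h, IsRetr.ι (fun _ : Unit => T i) ()⟩

variable {T}

lemma InR.of_retr {d : ℕ} {M N : C} (h : InR T d M) (hN : IsRetr N M) : InR T d N := by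
  obtain ⟨ι, hι, g, hg, hr⟩ := h
  exact ⟨ι, hι, g, hg, hN.trans hr⟩

lemma InR.biproduct {d : ℕ} {J : Type} [Fintype J] (f : J → C) (h : ∀ j, InR T d (f j)) :
    InR T d (⨁ f) := by
  have h' : ∀ j, ∃ (ι : Type) (_ : Fintype ι) (g : ι → ℕ), (∀ x, g x < d) ∧
      IsRetr (f j) (⨁ fun x => T (g x)) := h
  choose ι hι g hg hr using h'
  haveI : ∀ j, Fintype (ι j) := hι
  refine ⟨Σ j, ι j, inferInstance, fun p => g p.1 p.2, fun p => hg p.1 p.2, ?_⟩
  exact (IsRetr.biproduct_map f (fun j => ⨁ fun x => T (g j x)) hr).trans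
    (IsRetr.of_iso (biproductBiproductIso ι (fun j x => T (g j x))))

lemma InR.step (F : C ⥤ C) [F.Additive] (hT : ∀ n, Nonempty (T (n + 1) ≅ F.obj (T n)))
    {d : ℕ} (hd : InR T d (T d)) {M : C} (h : InR T d M) : InR T d (F.obj M) := by
  obtain ⟨ι, hι, g, hg, hr⟩ := h
  haveI := hι
  have h1 : IsRetr (F.obj M) (F.obj (⨁ fun j => T (g j))) := hr.map F
  have h2 : ∀ j, InR T d (F.obj (T (g j))) := by
    intro j
    obtain ⟨e⟩ := hT (g j)
    have h3 : InR T d (T (g j + 1)) := by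
      rcases Nat.lt_or_ge (g j + 1) d with h4 | h4
      · exact InR.of_lt T h4
      · have h5 : g j + 1 = d := le_antisymm (Nat.succ_le_of_lt (hg j)) h4
        rw [h5]; exact hd
    exact h3.of_retr (IsRetr.of_iso e.symm)
  have h6 : InR T d (⨁ fun j => F.obj (T (g j))) := InR.biproduct _ h2
  exact h6.of_retr (h1.trans (IsRetr.of_iso (F.mapBiproduct (fun j => T (g j)))))

lemma inR_of_iso {N : ℕ} (a' b' : Fin (N + 1) → ℕ) (d : Fin (N + 1)) (ha : 0 < a' d)
    (hb : ∀ i, d ≤ i → b' i = 0)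
    (hiso : Nonempty (mulSum (fun i : Fin (N + 1) => T i) a' ≅
      mulSum (fun i : Fin (N + 1) => T i) b')) :
    InR T (d : ℕ) (T (d : ℕ)) := by
  obtain ⟨φ⟩ := hiso
  refine ⟨Σ i : Fin (N + 1), Fin (b' i), inferInstance, fun p => (p.1 : ℕ), ?_, ?_⟩
  · intro p
    by_contra hlt
    have h1 : d ≤ p.1 := Fin.le_def.mpr (not_lt.mp hlt)
    have h2 := hb p.1 h1
    have h3 := p.2.isLt
    omega
  · exact (IsRetr.ι (fun p : (Σ i : Fin (N + 1), Fin (a' i)) => T p.1) ⟨d, ⟨0, ha⟩⟩).trans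
      (IsRetr.of_iso φ)

variable (T)

/-- if `P(T) ≅ Q(T)` with `P ≠ Q`, some `T d` is a retract of a sum of `T i`'s with `i < d`. -/
theorem exists_inR (hdec : ∀ n, HasLEDec (T n)) (N : ℕ) (a b : Fin (N + 1) → ℕ) (hab : a ≠ b)
    (hiso : Nonempty (mulSum (fun i : Fin (N + 1) => T i) a ≅
      mulSum (fun i : Fin (N + 1) => T i) b)) :
    ∃ d : ℕ, InR T d (T d) := by
  classical
  obtain ⟨φ⟩ := hiso
  obtain ⟨φa⟩ := mulSum_split (fun i : Fin (N + 1) => T i) a (fun i => min (a i) (b i))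
    (fun i => a i - b i) (fun i => by show a i = min (a i) (b i) + (a i - b i); omega)
  obtain ⟨φb⟩ := mulSum_split (fun i : Fin (N + 1) => T i) b (fun i => min (a i) (b i))
    (fun i => b i - a i) (fun i => by show b i = min (a i) (b i) + (b i - a i); omega)
  have hcommon : HasLEDec (mulSum (fun i : Fin (N + 1) => T i) (fun i => min (a i) (b i))) :=
    HasLEDec.biproduct _ (fun p => hdec p.1)
  have hiso' : Nonempty (mulSum (fun i : Fin (N + 1) => T i) (fun i => a i - b i) ≅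
      mulSum (fun i : Fin (N + 1) => T i) (fun i => b i - a i)) :=
    hcommon.cancel ⟨φa.symm ≪≫ φ ≪≫ φb⟩
  have hne : (Finset.univ.filter (fun i : Fin (N + 1) => a i ≠ b i)).Nonempty := by
    obtain ⟨i, hi⟩ := Function.ne_iff.mp hab
    exact ⟨i, Finset.mem_filter.mpr ⟨Finset.mem_univ i, hi⟩⟩
  obtain ⟨d, hdmem, hdmax⟩ : ∃ d, d ∈ Finset.univ.filter (fun i : Fin (N + 1) => a i ≠ b i) ∧
      ∀ i ∈ Finset.univ.filter (fun i : Fin (N + 1) => a i ≠ b i), i ≤ d :=
    ⟨_, Finset.max'_mem _ hne, fun i hi => Finset.le_max' _ i hi⟩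
  have hd : a d ≠ b d := (Finset.mem_filter.mp hdmem).2
  have hgt : ∀ i, d < i → a i = b i := by
    intro i hi
    by_contra h
    exact absurd (hdmax i (Finset.mem_filter.mpr ⟨Finset.mem_univ i, h⟩)) (not_le.mpr hi)
  refine ⟨(d : ℕ), ?_⟩
  rcases lt_or_gt_of_ne hd with h | h
  · refine inR_of_iso (fun i => b i - a i) (fun i => a i - b i) d
      (by show 0 < b d - a d; omega) ?_ ⟨hiso'.some.symm⟩
    intro i hi
    show a i - b i = 0
    rcases eq_or_lt_of_le hi with h1 | hi'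
    · rw [← h1]; omega
    · have := hgt i hi'; omega
  · refine inR_of_iso (fun i => a i - b i) (fun i => b i - a i) d
      (by show 0 < a d - b d; omega) ?_ hiso'
    intro i hi
    show b i - a i = 0
    rcases eq_or_lt_of_le hi with h1 | hi'
    · rw [← h1]; omega
    · have := hgt i hi'; omega

/-- **Nori's finiteness**: if some `T d` is a retract of a sum of lower `T i`'s and
`T (n + 1) ≅ F (T n)` for an additive functor `F`, only finitely many indecomposables occur in the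
`T n`. -/
theorem nori_types (F : C ⥤ C) [F.Additive] (hT : ∀ n, Nonempty (T (n + 1) ≅ F.obj (T n)))
    (hdec : ∀ n, HasLEDec (T n)) (d : ℕ) (hd : InR T d (T d)) :
    ∃ (τ : Type) (_ : Fintype τ) (W : τ → C), (∀ t, LE (W t)) ∧ (∀ t, Indec (W t)) ∧
      (∀ t, ∃ n, IsRetr (W t) (T n)) ∧ ∀ n, AllIn W (T n) := by
  have hall : ∀ n, InR T d (T n) := by
    intro n
    induction n with
    | zero =>
      rcases Nat.eq_zero_or_pos d with h | h
      · subst h; exact hd
      · exact InR.of_lt T h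
    | succ n ih =>
      obtain ⟨e⟩ := hT n
      exact (InR.step F hT hd ih).of_retr (IsRetr.of_iso e)
  have hdec' : ∀ n, ∃ (m : ℕ) (V : Fin m → C), (∀ x, LE (V x)) ∧ (∀ x, Indec (V x)) ∧
      Nonempty (T n ≅ ⨁ V) := hdec
  choose m V hLE hI e using hdec'
  have hlow : ∀ i, i < d → AllIn (fun p : (Σ i : Fin d, Fin (m i)) => V p.1 p.2) (T i) := by
    intro i hi
    have h1 : AllIn (fun p : (Σ i : Fin d, Fin (m i)) => V p.1 p.2) (⨁ V i) :=
      AllIn.biproduct (V i) (fun x => allIn_of_indec (hI i x)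
        (⟨⟨i, hi⟩, x⟩ : Σ i : Fin d, Fin (m i)) (Iso.refl _))
    exact h1.of_retr (IsRetr.of_iso (e i).some)
  refine ⟨Σ i : Fin d, Fin (m i), inferInstance, fun p => V p.1 p.2, fun p => hLE _ _,
    fun p => hI _ _, ?_, ?_⟩
  · intro p
    exact ⟨p.1, (IsRetr.ι (V p.1) p.2).trans (IsRetr.of_iso (e p.1).some.symm)⟩
  · intro n
    obtain ⟨ι, hι, g, hg, hr⟩ := hall n
    haveI := hι
    exact (AllIn.biproduct (fun j => T (g j)) (fun j => hlow (g j) (hg j))).of_retr hr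

end Nori

/-! ### the converse: linear algebra -/

lemma card_fiber {J τ : Type} [Fintype J] (c m : J → ℕ) (σ : ∀ j, Fin (m j) → τ) (t : τ) :
    Nat.card {q : (Σ p : (Σ j : J, Fin (c j)), Fin (m p.1)) // σ q.1.1 q.2 = t} =
      ∑ j, c j * Nat.card {x : Fin (m j) // σ j x = t} := by
  let e : {q : (Σ p : (Σ j : J, Fin (c j)), Fin (m p.1)) // σ q.1.1 q.2 = t} ≃
      Σ j : J, Fin (c j) × {x : Fin (m j) // σ j x = t} :=
    { toFun := fun q => ⟨q.1.1.1, (q.1.1.2, ⟨q.1.2, q.2⟩)⟩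
      invFun := fun r => ⟨⟨⟨r.1, r.2.1⟩, r.2.2.1⟩, r.2.2.2⟩
      left_inv := fun q => rfl
      right_inv := fun r => rfl }
  rw [Nat.card_congr e, Nat.card_sigma]
  refine Finset.sum_congr rfl (fun j _ => ?_)
  rw [Nat.card_prod, Nat.card_fin]

lemma iso_of_card_fiber_eq {A B τ : Type} [Fintype A] [Fintype B] (W : τ → C) (α : A → τ)
    (β : B → τ) (h : ∀ t, Nat.card {a // α a = t} = Nat.card {b // β b = t}) :
    Nonempty ((⨁ fun a => W (α a)) ≅ ⨁ fun b => W (β b)) := by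
  classical
  have h' : ∀ t, Nonempty ({a // α a = t} ≃ {b // β b = t}) := fun t =>
    ⟨Fintype.equivOfCardEq
      (Nat.card_eq_fintype_card.symm.trans ((h t).trans Nat.card_eq_fintype_card))⟩
  exact ⟨biproduct.whiskerEquiv (Equiv.ofFiberEquiv (fun t => (h' t).some))
    (fun a => eqToIso (congrArg W (Equiv.ofFiberEquiv_map (fun t => (h' t).some) a)))⟩

/-- if only finitely many objects `W t` occur in decompositions of the `T n`, then
`⨁ (T n)^{a n} ≅ ⨁ (T n)^{b n}` for two distinct families of multiplicities. -/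
theorem weil_of_types (T : ℕ → C) {τ : Type} [Fintype τ] (W : τ → C)
    (h : ∀ n, ∃ (m : ℕ) (σ : Fin m → τ), Nonempty (T n ≅ ⨁ fun x => W (σ x))) :
    ∃ (N : ℕ) (a b : Fin (N + 1) → ℕ), a ≠ b ∧
      Nonempty (mulSum (fun i : Fin (N + 1) => T i) a ≅
        mulSum (fun i : Fin (N + 1) => T i) b) := by
  classical
  choose m σ e using h
  obtain ⟨N, hN⟩ : ∃ N, N = Fintype.card τ + 1 := ⟨_, rfl⟩
  let A : Matrix (Option τ) (Fin (N + 1)) ℤ := fun o n =>
    Option.elim o 0 (fun t => (Nat.card {x : Fin (m n) // σ n x = t} : ℤ))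
  obtain ⟨z, hz0, hAz, -⟩ := Int.Matrix.exists_ne_zero_int_vec_norm_le A
    (by rw [Fintype.card_option, Fintype.card_fin, hN]; omega)
    (by rw [Fintype.card_option]; omega)
  have hrel : ∀ t, ∑ n : Fin (N + 1),
      (Nat.card {x : Fin (m n) // σ n x = t} : ℤ) * z n = 0 :=
    fun t => congrFun hAz (some t)
  obtain ⟨a, b, hab⟩ : ∃ a b : Fin (N + 1) → ℕ, ∀ n, (a n : ℤ) - (b n : ℤ) = z n :=
    ⟨fun n => (z n).toNat, fun n => (-z n).toNat, fun n => by
      show ((z n).toNat : ℤ) - ((-z n).toNat : ℤ) = z n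
      omega⟩
  refine ⟨N, a, b, ?_, ?_⟩
  · intro h
    apply hz0
    funext n
    have h1 := hab n
    rw [congrFun h n, sub_self] at h1
    exact h1.symm
  · have hI : ∀ c : Fin (N + 1) → ℕ, Nonempty (mulSum (fun i : Fin (N + 1) => T i) c ≅
        ⨁ fun q : (Σ p : (Σ n : Fin (N + 1), Fin (c n)), Fin (m p.1)) => W (σ q.1.1 q.2)) := by
      intro c
      exact ⟨biproduct.mapIso (fun p => (e p.1).some) ≪≫
        biproductBiproductIso (fun p : (Σ n : Fin (N + 1), Fin (c n)) => Fin (m p.1))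
          (fun p x => W (σ p.1 x))⟩
    obtain ⟨ia⟩ := hI a
    obtain ⟨ib⟩ := hI b
    have hcard : ∀ t,
        Nat.card {q : (Σ p : (Σ n : Fin (N + 1), Fin (a n)), Fin (m p.1)) // σ q.1.1 q.2 = t} =
        Nat.card {q : (Σ p : (Σ n : Fin (N + 1), Fin (b n)), Fin (m p.1)) // σ q.1.1 q.2 = t} := by
      intro t
      have e1 := card_fiber a (fun n : Fin (N + 1) => m n) (fun n : Fin (N + 1) => σ n) t
      have e2 := card_fiber b (fun n : Fin (N + 1) => m n) (fun n : Fin (N + 1) => σ n) t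
      refine e1.trans (Eq.trans ?_ e2.symm)
      have key : ((∑ n : Fin (N + 1), a n * Nat.card {x : Fin (m n) // σ n x = t} : ℕ) : ℤ) =
          ((∑ n : Fin (N + 1), b n * Nat.card {x : Fin (m n) // σ n x = t} : ℕ) : ℤ) := by
        push_cast
        rw [← sub_eq_zero, ← Finset.sum_sub_distrib]
        refine Eq.trans (Finset.sum_congr rfl (fun n _ => ?_)) (hrel t)
        rw [← sub_mul, hab n, mul_comm]
      exact_mod_cast key
    obtain ⟨ψ⟩ := iso_of_card_fiber_eq W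
      (fun q : (Σ p : (Σ n : Fin (N + 1), Fin (a n)), Fin (m p.1)) => σ q.1.1 q.2)
      (fun q : (Σ p : (Σ n : Fin (N + 1), Fin (b n)), Fin (m p.1)) => σ q.1.1 q.2) hcard
    exact ⟨ia ≪≫ ψ ≪≫ ib.symm⟩

/-- the converse of Nori's finiteness, from a family containing all indecomposable summands. -/
theorem weil_of_allIn (T : ℕ → C) (hdec : ∀ n, HasLEDec (T n)) {τ : Type} [Fintype τ]
    (W : τ → C) (h : ∀ n, AllIn W (T n)) :
    ∃ (N : ℕ) (a b : Fin (N + 1) → ℕ), a ≠ b ∧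
      Nonempty (mulSum (fun i : Fin (N + 1) => T i) a ≅
        mulSum (fun i : Fin (N + 1) => T i) b) := by
  refine weil_of_types T W (fun n => ?_)
  obtain ⟨m, V, hLE, hI, ⟨e⟩⟩ := hdec n
  have h1 : ∀ x, ∃ t, Nonempty (V x ≅ W t) := fun x =>
    h n (V x) (hLE x) ((IsRetr.ι V x).trans (IsRetr.of_iso e.symm))
  choose σ hσ using h1
  exact ⟨m, σ, ⟨e ≪≫ biproduct.mapIso (fun x => (hσ x).some)⟩⟩

/-! ### polynomials -/

/-- the object `P(T) = ⨁_i (T i)^{P_i}`, written as in the statements. -/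
abbrev polyObj (T : ℕ → C) (P : Polynomial ℕ) : C :=
  ∐ fun i : Fin (P.natDegree + 1) => ∐ fun _ : Fin (P.coeff ↑i) => T ↑i

lemma polyObj_iso (T : ℕ → C) (P : Polynomial ℕ) (N : ℕ) (hN : P.natDegree ≤ N) :
    Nonempty (polyObj T P ≅ mulSum (fun i : Fin (N + 1) => T i) (fun i => P.coeff i)) := by
  let e : (Σ i : Fin (P.natDegree + 1), Fin (P.coeff ↑i)) ≃ (Σ i : Fin (N + 1), Fin (P.coeff ↑i)) :=
    { toFun := fun p => ⟨Fin.castLE (Nat.succ_le_succ hN) p.1, p.2⟩
      invFun := fun q => ⟨⟨q.1, Nat.lt_succ_of_le (Polynomial.le_natDegree_of_ne_zero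
        (fun h0 => by have := q.2.isLt; omega))⟩, q.2⟩
      left_inv := fun p => rfl
      right_inv := fun q => rfl }
  exact ⟨sigmaSigmaIso (fun i : Fin (P.natDegree + 1) => Fin (P.coeff ↑i)) (fun i _ => T ↑i) ≪≫
    Sigma.whiskerEquiv
      (f := fun p : (Σ i : Fin (P.natDegree + 1), Fin (P.coeff ↑i)) => T ↑p.1)
      (g := fun q : (Σ i : Fin (N + 1), Fin (P.coeff ↑i)) => T ↑q.1) e (fun p => Iso.refl _) ≪≫
    (biproduct.isoCoproduct (fun p : (Σ i : Fin (N + 1), Fin (P.coeff ↑i)) => T ↑p.1)).symm⟩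

lemma exists_poly (N : ℕ) (a : Fin (N + 1) → ℕ) :
    ∃ P : Polynomial ℕ, P.natDegree ≤ N ∧ ∀ i : Fin (N + 1), P.coeff ↑i = a i := by
  refine ⟨∑ i : Fin (N + 1), Polynomial.monomial (i : ℕ) (a i), ?_, ?_⟩
  · refine Polynomial.natDegree_sum_le_of_forall_le _ _ (fun i _ => ?_)
    exact (Polynomial.natDegree_monomial_le _).trans (Nat.le_of_lt_succ i.isLt)
  · intro i
    rw [Polynomial.finsetSum_coeff]
    simp only [Polynomial.coeff_monomial]
    rw [Finset.sum_eq_single i]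
    · rw [if_pos rfl]
    · intro j _ hji
      rw [if_neg]
      exact fun h => hji (Fin.ext h)
    · intro h; exact absurd (Finset.mem_univ i) h

theorem exists_mulSum_of_poly (T : ℕ → C) (P Q : Polynomial ℕ) (hPQ : P ≠ Q)
    (h : Nonempty (polyObj T P ≅ polyObj T Q)) :
    ∃ (N : ℕ) (a b : Fin (N + 1) → ℕ), a ≠ b ∧
      Nonempty (mulSum (fun i : Fin (N + 1) => T i) a ≅
        mulSum (fun i : Fin (N + 1) => T i) b) := by
  obtain ⟨φ⟩ := h
  obtain ⟨eP⟩ := polyObj_iso T P (max P.natDegree Q.natDegree) (le_max_left _ _)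
  obtain ⟨eQ⟩ := polyObj_iso T Q (max P.natDegree Q.natDegree) (le_max_right _ _)
  refine ⟨max P.natDegree Q.natDegree, fun i => P.coeff i, fun i => Q.coeff i, ?_,
    ⟨eP.symm ≪≫ φ ≪≫ eQ⟩⟩
  intro hab
  apply hPQ
  ext n
  by_cases hn : n < max P.natDegree Q.natDegree + 1
  · exact congrFun hab ⟨n, hn⟩
  · have h1 := le_max_left P.natDegree Q.natDegree
    have h2 := le_max_right P.natDegree Q.natDegree
    rw [Polynomial.coeff_eq_zero_of_natDegree_lt (by omega),
      Polynomial.coeff_eq_zero_of_natDegree_lt (by omega)]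

theorem exists_poly_of_mulSum (T : ℕ → C) (N : ℕ) (a b : Fin (N + 1) → ℕ) (hab : a ≠ b)
    (h : Nonempty (mulSum (fun i : Fin (N + 1) => T i) a ≅
      mulSum (fun i : Fin (N + 1) => T i) b)) :
    ∃ P Q : Polynomial ℕ, P ≠ Q ∧ Nonempty (polyObj T P ≅ polyObj T Q) := by
  obtain ⟨φ⟩ := h
  obtain ⟨P, hPN, hPa⟩ := exists_poly N a
  obtain ⟨Q, hQN, hQb⟩ := exists_poly N b
  obtain ⟨eP⟩ := polyObj_iso T P N hPN
  obtain ⟨eQ⟩ := polyObj_iso T Q N hQN
  have hPa' : (fun i : Fin (N + 1) => P.coeff i) = a := funext hPa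
  have hQb' : (fun i : Fin (N + 1) => Q.coeff i) = b := funext hQb
  rw [hPa'] at eP
  rw [hQb'] at eQ
  refine ⟨P, Q, ?_, ⟨eP ≪≫ φ ≪≫ eQ.symm⟩⟩
  intro hPQ
  apply hab
  funext i
  rw [← hPa i, ← hQb i, hPQ]

end

end Groth.Agent.LD.KSch
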