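import Groth.Agent.Lib.Lead.KSch.WeilFin
import Groth.Agent.Lib.Lead.KSch.Coh
import Groth.Agent.Lib.Lead.KSch.PicCyc
import Groth.Agent.Lib.Lead.Curve.DegMono
import Groth.Agent.Lib.Lead.DF.ZProp
import Groth.Agent.Lib.Lead.QC.TensorComm
import Groth.Agent.Lib.Lead.QC.TensorPow
import Groth.Agent.Lib.Helper5.DegC.RankDeg
import Groth.Agent.Lib.Helper5.SD.PencilB
import Groth.Agent.Lib.Helper5.PicLaw.Law
import Groth.Agent.Lib.Helper5.Curve2.C

/-!
# Vector bundles finite in the sense of Weil on a proper integral scheme over a field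

* `wf_invertible_iff`: an invertible module is finite iff it is torsion;
* `wf_of_biprod`: a direct summand of a finite bundle is finite;
* `wf_biprod_tensor`: direct sums and tensor products of finite bundles are finite.
-/

set_option autoImplicit false
universe u
open CategoryTheory CategoryTheory.Limits AlgebraicGeometry

namespace Groth.Agent.LD.KSch

open Groth.Agent.LD Groth.Agent.LD.QC

attribute [-instance] Groth.Agent.LD.QC.stalkModule
attribute [local instance] Abelian.hasFiniteBiproducts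

noncomputable section

/-- finiteness in the sense of Weil: `P(E) ≅ Q(E)` for two distinct polynomials with natural
coefficients. -/
def WF {X : Scheme.{u}} (E : X.Modules) : Prop :=
  ∃ P Q : Polynomial ℕ, P ≠ Q ∧
    Nonempty (polyObj (CohB1.tensorPow E) P ≅ polyObj (CohB1.tensorPow E) Q)

section Basic

variable (k : Type u) [Field k] (X : Scheme.{u}) [X.Over (Spec (CommRingCat.of k))]
  [IsProper (X ↘ Spec (CommRingCat.of k))]

include k in
lemma hasLEDec_of_isCoh {M : X.Modules} (hM : Coh.IsCoh M) : HasLEDec M := by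
  obtain ⟨n, Fs, hI, ⟨e⟩⟩ := exists_decomp_coh k X M hM
  exact ⟨n, Fs, fun i => le_of_indec_coh k X (isCoh_of_iso_biproduct Fs e hM i) (hI i), hI, ⟨e⟩⟩

variable [IsIntegral X]

lemma isCoh_tensorPow {E : X.Modules} (hE : Coh.IsCoh E) :
    ∀ n, Coh.IsCoh (CohB1.tensorPow E n)
  | 0 => Groth.Agent.LD.DF.isCoh_structureModule X
  | n + 1 => Groth.Agent.H5.DegC.isCoh_tensorMod (isCoh_tensorPow hE n) hE

include k in
/-- **Nori**: a module finite in the sense of Weil has only finitely many indecomposable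
summands in its tensor powers. -/
theorem types_of_wf {E : X.Modules} (hE : Coh.IsCoh E) (h : WF E) :
    ∃ (τ : Type) (_ : Fintype τ) (W : τ → X.Modules), (∀ t, LE (W t)) ∧ (∀ t, Indec (W t)) ∧
      (∀ t, ∃ n, IsRetr (W t) (CohB1.tensorPow E n)) ∧
      ∀ n, AllIn W (CohB1.tensorPow E n) := by
  obtain ⟨P, Q, hPQ, hiso⟩ := h
  have hdec : ∀ n, HasLEDec (CohB1.tensorPow E n) :=
    fun n => hasLEDec_of_isCoh k X (isCoh_tensorPow X hE n)
  obtain ⟨N, a, b, hab, hiso'⟩ := exists_mulSum_of_poly (CohB1.tensorPow E) P Q hPQ hiso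
  obtain ⟨d, hd⟩ := exists_inR (CohB1.tensorPow E) hdec N a b hab hiso'
  exact nori_types (CohB1.tensorPow E) (QC.twF E) (fun n => ⟨Iso.refl _⟩) hdec d hd

include k in
/-- the converse. -/
theorem wf_of_allIn {E : X.Modules} (hE : Coh.IsCoh E) {τ : Type} [Fintype τ]
    (W : τ → X.Modules) (h : ∀ n, AllIn W (CohB1.tensorPow E n)) : WF E := by
  have hdec : ∀ n, HasLEDec (CohB1.tensorPow E n) :=
    fun n => hasLEDec_of_isCoh k X (isCoh_tensorPow X hE n)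
  obtain ⟨N, a, b, hab, hiso⟩ := weil_of_allIn (CohB1.tensorPow E) hdec W h
  exact exists_poly_of_mulSum (CohB1.tensorPow E) N a b hab hiso

include k in
/-- **an invertible module on a proper integral scheme over a field is finite in the sense of
Weil iff it is torsion.** -/
theorem wf_invertible_iff (L : X.Modules) (hL : PicF.IsInvertible L) :
    WF L ↔ ∃ m : ℕ, 0 < m ∧ Nonempty (CohB1.tensorPow L m ≅ Coh.structureModule X) := by
  letI := Groth.Agent.H5.PicLaw.law X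
  have hinv : ∀ n, PicF.IsInvertible (CohB1.tensorPow L n) :=
    fun n => QC.isInvertible_tensorPow hL n
  have hcoh : ∀ n, Coh.IsCoh (CohB1.tensorPow L n) :=
    fun n => Groth.Agent.H5.Curve2.isCoh_of_isInvertible (hinv n)
  haveI : ConnectedSpace X := inferInstance
  have hindec : ∀ n, Indec (CohB1.tensorPow L n) :=
    fun n => indec_of_invertible_connected _ (hinv n)
  have hle : ∀ n, LE (CohB1.tensorPow L n) := fun n => le_of_indec_coh k X (hcoh n) (hindec n)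
  have hdec : ∀ n, HasLEDec (CohB1.tensorPow L n) := fun n => hasLEDec_of_isCoh k X (hcoh n)
  constructor
  · rintro ⟨P, Q, hPQ, hiso⟩
    obtain ⟨N, a, b, hab, hiso'⟩ := exists_mulSum_of_poly (CohB1.tensorPow L) P Q hPQ hiso
    obtain ⟨d, ι, hι, g, hg, hr⟩ := exists_inR (CohB1.tensorPow L) hdec N a b hab hiso'
    haveI := hι
    obtain ⟨j, i, r, hir⟩ := (hle d).retr_biproduct (fun j => CohB1.tensorPow L (g j)) hr
    haveI : IsIso i := isIso_of_splitMono_indec (hle d).1 (hindec (g j)) i r hir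
    have hcls : Groth.Agent.H5.PicLaw.clsOf L ^ d = Groth.Agent.H5.PicLaw.clsOf L ^ (g j) := by
      rw [← Groth.Agent.H5.PicLaw.clsOf_pow hL, ← Groth.Agent.H5.PicLaw.clsOf_pow hL]
      exact Groth.Agent.H5.PicLaw.clsOf_iso (asIso i) (hinv d)
    refine ⟨d - g j, Nat.sub_pos_of_lt (hg j), ?_⟩
    rw [← Groth.Agent.H5.PicLaw.clsOf_eq_one_iff (hinv _), Groth.Agent.H5.PicLaw.clsOf_pow hL]
    have h2 : Groth.Agent.H5.PicLaw.clsOf L ^ (d - g j) * Groth.Agent.H5.PicLaw.clsOf L ^ (g j) =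
        1 * Groth.Agent.H5.PicLaw.clsOf L ^ (g j) := by
      rw [one_mul, ← pow_add, Nat.sub_add_cancel (le_of_lt (hg j))]
      exact hcls
    exact mul_right_cancel h2
  · rintro ⟨m, hm, ⟨e⟩⟩
    have hc : Groth.Agent.H5.PicLaw.clsOf L ^ m = 1 := by
      rw [← Groth.Agent.H5.PicLaw.clsOf_pow hL]
      exact (Groth.Agent.H5.PicLaw.clsOf_eq_one_iff (hinv m)).mpr ⟨e⟩
    have hmod : ∀ n, Nonempty (CohB1.tensorPow L n ≅ CohB1.tensorPow L (n % m)) := by
      intro n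
      rw [← Groth.Agent.H5.PicLaw.clsOf_eq_iff (hinv n) (hinv _),
        Groth.Agent.H5.PicLaw.clsOf_pow hL, Groth.Agent.H5.PicLaw.clsOf_pow hL]
      calc Groth.Agent.H5.PicLaw.clsOf L ^ n
          = Groth.Agent.H5.PicLaw.clsOf L ^ (m * (n / m) + n % m) := by rw [Nat.div_add_mod]
        _ = Groth.Agent.H5.PicLaw.clsOf L ^ (n % m) := by
          rw [pow_add, pow_mul, hc, one_pow, one_mul]
    obtain ⟨N, a, b, hab, hiso⟩ := weil_of_types (CohB1.tensorPow L)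
      (fun t : Fin m => CohB1.tensorPow L t) (fun n =>
        ⟨1, fun _ => ⟨n % m, Nat.mod_lt n hm⟩,
          ⟨(hmod n).some ≪≫ (biproductUniqueIso
            (fun _ : Fin 1 => CohB1.tensorPow L (n % m))).symm⟩⟩)
    exact exists_poly_of_mulSum (CohB1.tensorPow L) N a b hab hiso

end Basic

/-! ### direct summands -/

section Summand

lemma isRetr_tensorPow_biprod {X : Scheme.{u}} (E₁ E₂ : X.Modules) :
    ∀ n, IsRetr (CohB1.tensorPow E₁ n) (CohB1.tensorPow (E₁ ⊞ E₂) n)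
  | 0 => IsRetr.refl _
  | n + 1 => by
    obtain ⟨i, r, hir⟩ := isRetr_tensorPow_biprod E₁ E₂ n
    have h : KoszTw.tensorMap i (biprod.inl : E₁ ⟶ E₁ ⊞ E₂) ≫
        KoszTw.tensorMap r (biprod.fst : E₁ ⊞ E₂ ⟶ E₁) =
        𝟙 (CohB1.tensorMod (CohB1.tensorPow E₁ n) E₁) := by
      rw [← KoszTw.tensorMap_comp, hir, biprod.inl_fst]
      exact KoszTw.tensorMap_id _ _
    exact ⟨_, _, h⟩

variable (k : Type u) [Field k] (X : Scheme.{u}) [X.Over (Spec (CommRingCat.of k))]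
  [IsProper (X ↘ Spec (CommRingCat.of k))] [IsIntegral X]

include k in
/-- **a direct summand of a module finite in the sense of Weil is finite.** -/
theorem wf_of_biprod (E₁ E₂ : X.Modules) (hE₁ : Coh.IsCoh E₁) (hE : Coh.IsCoh (E₁ ⊞ E₂))
    (h : WF (E₁ ⊞ E₂)) : WF E₁ := by
  obtain ⟨τ, hτ, W, -, -, -, hall⟩ := types_of_wf k X hE h
  haveI := hτ
  exact wf_of_allIn k X hE₁ W (fun n => (hall n).of_retr (isRetr_tensorPow_biprod E₁ E₂ n))

end Summand

/-! ### sums and tensor products -/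

section Tensor

variable {X : Scheme.{u}}

/-- tensor products of modules all of whose components are known. -/
lemma allIn_tensor {τ : Type} (W : τ → X.Modules) {J K : Type} [Fintype J] [Fintype K]
    (A : J → X.Modules) (B : K → X.Modules) {M N : X.Modules} (eM : M ≅ ⨁ A) (eN : N ≅ ⨁ B)
    (h : ∀ j k', AllIn W (CohB1.tensorMod (A j) (B k'))) : AllIn W (CohB1.tensorMod M N) := by
  have h1 : ∀ j, AllIn W (CohB1.tensorMod (A j) (⨁ B)) := by
    intro j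
    have h2 : AllIn W (⨁ fun k' => (DCoh.tensorBi.obj (A j)).obj (B k')) :=
      AllIn.biproduct _ (fun k' => h j k')
    exact h2.of_retr (IsRetr.of_iso ((DCoh.tensorBi.obj (A j)).mapBiproduct B))
  have h3 : AllIn W (⨁ fun j => (QC.twF (⨁ B)).obj (A j)) := AllIn.biproduct _ (fun j => h1 j)
  have h4 : AllIn W (CohB1.tensorMod (⨁ A) (⨁ B)) :=
    h3.of_retr (IsRetr.of_iso ((QC.twF (⨁ B)).mapBiproduct A))
  exact h4.of_retr (IsRetr.of_iso (QC.tensorIso' eM eN))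

/-- `M` is a retract of a finite direct sum of modules `E₁^a ⊗ E₂^b`. -/
def InD (E₁ E₂ M : X.Modules) : Prop :=
  ∃ (J : Type) (_ : Fintype J) (a b : J → ℕ),
    IsRetr M (⨁ fun j => CohB1.tensorMod (CohB1.tensorPow E₁ (a j)) (CohB1.tensorPow E₂ (b j)))

variable {E₁ E₂ : X.Modules}

lemma InD.single (a b : ℕ) :
    InD E₁ E₂ (CohB1.tensorMod (CohB1.tensorPow E₁ a) (CohB1.tensorPow E₂ b)) :=
  ⟨Unit, inferInstance, fun _ => a, fun _ => b,
    IsRetr.ι (fun _ : Unit => CohB1.tensorMod (CohB1.tensorPow E₁ a) (CohB1.tensorPow E₂ b)) ()⟩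

lemma InD.of_retr {M N : X.Modules} (h : InD E₁ E₂ M) (hN : IsRetr N M) : InD E₁ E₂ N := by
  obtain ⟨J, hJ, a, b, hr⟩ := h
  exact ⟨J, hJ, a, b, hN.trans hr⟩

lemma InD.biproduct {J : Type} [Fintype J] (f : J → X.Modules) (h : ∀ j, InD E₁ E₂ (f j)) :
    InD E₁ E₂ (⨁ f) := by
  have h' : ∀ j, ∃ (ι : Type) (_ : Fintype ι) (a b : ι → ℕ), IsRetr (f j)
      (⨁ fun x => CohB1.tensorMod (CohB1.tensorPow E₁ (a x)) (CohB1.tensorPow E₂ (b x))) := h
  choose ι hι a b hr using h'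
  haveI : ∀ j, Fintype (ι j) := hι
  refine ⟨Σ j, ι j, inferInstance, fun p => a p.1 p.2, fun p => b p.1 p.2, ?_⟩
  exact (IsRetr.biproduct_map f (fun j => ⨁ fun x =>
      CohB1.tensorMod (CohB1.tensorPow E₁ (a j x)) (CohB1.tensorPow E₂ (b j x))) hr).trans
    (IsRetr.of_iso (biproductBiproductIso ι (fun j x =>
      CohB1.tensorMod (CohB1.tensorPow E₁ (a j x)) (CohB1.tensorPow E₂ (b j x)))))

lemma InD.step [E₁.IsQuasicoherent] [E₂.IsQuasicoherent] {M : X.Modules} (h : InD E₁ E₂ M) :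
    InD E₁ E₂ (CohB1.tensorMod M (E₁ ⊞ E₂)) := by
  obtain ⟨J, hJ, a, b, hr⟩ := h
  haveI := hJ
  have h1 : IsRetr (CohB1.tensorMod M (E₁ ⊞ E₂)) ((QC.twF (E₁ ⊞ E₂)).obj
      (⨁ fun j => CohB1.tensorMod (CohB1.tensorPow E₁ (a j)) (CohB1.tensorPow E₂ (b j)))) :=
    hr.map (QC.twF (E₁ ⊞ E₂))
  have h2 : ∀ j, InD E₁ E₂ ((QC.twF (E₁ ⊞ E₂)).obj
      (CohB1.tensorMod (CohB1.tensorPow E₁ (a j)) (CohB1.tensorPow E₂ (b j)))) := by
    intro j
    haveI : PreservesBinaryBiproducts (DCoh.tensorBi.obj (CohB1.tensorMod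
        (CohB1.tensorPow E₁ (a j)) (CohB1.tensorPow E₂ (b j)))) :=
      preservesBinaryBiproducts_of_preservesBiproducts _
    obtain ⟨φ⟩ := nonempty_biprod_iso_biproduct
      (CohB1.tensorMod (CohB1.tensorMod (CohB1.tensorPow E₁ (a j)) (CohB1.tensorPow E₂ (b j))) E₁)
      (CohB1.tensorMod (CohB1.tensorMod (CohB1.tensorPow E₁ (a j)) (CohB1.tensorPow E₂ (b j))) E₂)
    have h3 : InD E₁ E₂ (⨁ (Sum.elim
        (fun _ : Unit => CohB1.tensorMod
          (CohB1.tensorMod (CohB1.tensorPow E₁ (a j)) (CohB1.tensorPow E₂ (b j))) E₁)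
        (fun _ : Unit => CohB1.tensorMod
          (CohB1.tensorMod (CohB1.tensorPow E₁ (a j)) (CohB1.tensorPow E₂ (b j))) E₂))) := by
      refine InD.biproduct _ (fun s => ?_)
      rcases s with s | s
      · -- `(A ⊗ B) ⊗ E₁ ≅ (A ⊗ E₁) ⊗ B`
        refine (InD.single (E₁ := E₁) (E₂ := E₂) (a j + 1) (b j)).of_retr (IsRetr.of_iso ?_)
        exact QC.tensorAssoc (CohB1.tensorPow E₁ (a j)) (CohB1.tensorPow E₂ (b j)) E₁ ≪≫
          QC.tensorIso' (Iso.refl _) (QC.tensorComm (CohB1.tensorPow E₂ (b j)) E₁) ≪≫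
          (QC.tensorAssoc (CohB1.tensorPow E₁ (a j)) E₁ (CohB1.tensorPow E₂ (b j))).symm
      · refine (InD.single (E₁ := E₁) (E₂ := E₂) (a j) (b j + 1)).of_retr (IsRetr.of_iso ?_)
        exact QC.tensorAssoc (CohB1.tensorPow E₁ (a j)) (CohB1.tensorPow E₂ (b j)) E₂
    exact h3.of_retr (IsRetr.of_iso
      ((DCoh.tensorBi.obj (CohB1.tensorMod (CohB1.tensorPow E₁ (a j))
        (CohB1.tensorPow E₂ (b j)))).mapBiprod E₁ E₂ ≪≫ φ))
  have h4 : InD E₁ E₂ (⨁ fun j => (QC.twF (E₁ ⊞ E₂)).obj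
      (CohB1.tensorMod (CohB1.tensorPow E₁ (a j)) (CohB1.tensorPow E₂ (b j)))) :=
    InD.biproduct _ h2
  exact h4.of_retr (h1.trans (IsRetr.of_iso ((QC.twF (E₁ ⊞ E₂)).mapBiproduct _)))

lemma inD_pow_biprod [E₁.IsQuasicoherent] [E₂.IsQuasicoherent] :
    ∀ n, InD E₁ E₂ (CohB1.tensorPow (E₁ ⊞ E₂) n)
  | 0 => (InD.single (E₁ := E₁) (E₂ := E₂) 0 0).of_retr
      (IsRetr.of_iso (SecTwist.unitorR (Coh.structureModule X)).symm)
  | n + 1 => InD.step (inD_pow_biprod n)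

lemma inD_pow_tensor [E₁.IsQuasicoherent] [E₂.IsQuasicoherent] (n : ℕ) :
    InD E₁ E₂ (CohB1.tensorPow (CohB1.tensorMod E₁ E₂) n) :=
  (InD.single (E₁ := E₁) (E₂ := E₂) n n).of_retr
    (IsRetr.of_iso (QC.tensorPowTensor E₁ E₂ n).symm)

lemma InD.allIn {τ : Type} {W : τ → X.Modules}
    (hW : ∀ a b, AllIn W (CohB1.tensorMod (CohB1.tensorPow E₁ a) (CohB1.tensorPow E₂ b)))
    {M : X.Modules} (h : InD E₁ E₂ M) : AllIn W M := by
  obtain ⟨J, hJ, a, b, hr⟩ := h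
  haveI := hJ
  exact (AllIn.biproduct _ (fun j => hW (a j) (b j))).of_retr hr

end Tensor

section Main

variable (k : Type u) [Field k] (X : Scheme.{u}) [X.Over (Spec (CommRingCat.of k))]
  [IsProper (X ↘ Spec (CommRingCat.of k))] [IsIntegral X]

include k in
/-- **direct sums and tensor products of modules finite in the sense of Weil are finite.** -/
theorem wf_biprod_tensor (E₁ E₂ : X.Modules) (hE₁ : Coh.IsCoh E₁) (hE₂ : Coh.IsCoh E₂)
    (hE : Coh.IsCoh (E₁ ⊞ E₂)) (h₁ : WF E₁) (h₂ : WF E₂) :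
    WF (E₁ ⊞ E₂) ∧ WF (CohB1.tensorMod E₁ E₂) := by
  haveI := hE₁.1
  haveI := hE₂.1
  obtain ⟨τ₁, hτ₁, W₁, -, -, hR₁, hall₁⟩ := types_of_wf k X hE₁ h₁
  obtain ⟨τ₂, hτ₂, W₂, -, -, hR₂, hall₂⟩ := types_of_wf k X hE₂ h₂
  haveI := hτ₁
  haveI := hτ₂
  have hc₁ : ∀ t, Coh.IsCoh (W₁ t) := by
    intro t
    obtain ⟨n, i, r, hir⟩ := hR₁ t
    exact isCoh_of_retract i r hir (isCoh_tensorPow X hE₁ n)
  have hc₂ : ∀ t, Coh.IsCoh (W₂ t) := by
    intro t
    obtain ⟨n, i, r, hir⟩ := hR₂ t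
    exact isCoh_of_retract i r hir (isCoh_tensorPow X hE₂ n)
  have hdecST : ∀ st : τ₁ × τ₂, ∃ (n : ℕ) (V : Fin n → X.Modules), (∀ x, LE (V x)) ∧
      (∀ x, Indec (V x)) ∧ Nonempty (CohB1.tensorMod (W₁ st.1) (W₂ st.2) ≅ ⨁ V) :=
    fun st => hasLEDec_of_isCoh k X
      (Groth.Agent.H5.DegC.isCoh_tensorMod (hc₁ st.1) (hc₂ st.2))
  choose mm U hULE hUI eU using hdecST
  have hW : ∀ s t, AllIn (fun p : (Σ st : τ₁ × τ₂, Fin (mm st)) => U p.1 p.2)
      (CohB1.tensorMod (W₁ s) (W₂ t)) := by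
    intro s t
    have h1 : AllIn (fun p : (Σ st : τ₁ × τ₂, Fin (mm st)) => U p.1 p.2) (⨁ U (s, t)) :=
      AllIn.biproduct (U (s, t)) (fun x => allIn_of_indec (hUI (s, t) x)
        (⟨(s, t), x⟩ : Σ st : τ₁ × τ₂, Fin (mm st)) (Iso.refl _))
    exact h1.of_retr (IsRetr.of_iso (eU (s, t)).some)
  have hAB : ∀ a b, AllIn (fun p : (Σ st : τ₁ × τ₂, Fin (mm st)) => U p.1 p.2)
      (CohB1.tensorMod (CohB1.tensorPow E₁ a) (CohB1.tensorPow E₂ b)) := by
    intro a b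
    obtain ⟨m₁, V₁, hLE₁, -, ⟨e₁⟩⟩ := hasLEDec_of_isCoh k X (isCoh_tensorPow X hE₁ a)
    obtain ⟨m₂, V₂, hLE₂, -, ⟨e₂⟩⟩ := hasLEDec_of_isCoh k X (isCoh_tensorPow X hE₂ b)
    have g₁ : ∀ x, ∃ t, Nonempty (V₁ x ≅ W₁ t) := fun x =>
      hall₁ a (V₁ x) (hLE₁ x) ((IsRetr.ι V₁ x).trans (IsRetr.of_iso e₁.symm))
    have g₂ : ∀ y, ∃ t, Nonempty (V₂ y ≅ W₂ t) := fun y =>
      hall₂ b (V₂ y) (hLE₂ y) ((IsRetr.ι V₂ y).trans (IsRetr.of_iso e₂.symm))
    choose s₁ hs₁ using g₁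
    choose s₂ hs₂ using g₂
    exact allIn_tensor _ V₁ V₂ e₁ e₂ (fun x y =>
      (hW (s₁ x) (s₂ y)).of_retr (IsRetr.of_iso (QC.tensorIso' (hs₁ x).some (hs₂ y).some)))
  exact ⟨wf_of_allIn k X hE _ (fun n => (inD_pow_biprod n).allIn hAB),
    wf_of_allIn k X (Groth.Agent.H5.DegC.isCoh_tensorMod hE₁ hE₂) _
      (fun n => (inD_pow_tensor n).allIn hAB)⟩

end Main

end

end Groth.Agent.LD.KSch
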