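import Groth.Agent.Lib.Lead.KSch.WeilFin2
import Groth.Agent.Lib.Helper6.Tr4
import Groth.Agent.Lib.Helper5.Hyper.H0Push
import Groth.Agent.Lib.Helper5.Curve4.VB2
import Groth.Agent.Lib.Helper5.Curve4.Sat2
import Groth.Agent.Lib.Helper7.Kum1
import Groth.Agent.Lib.Lead.Misc2.GenIsoPush
import Groth.Agent.Lib.Lead.Misc3.KRRAmple
import Groth.Agent.Lib.Lead.QC.LocFree3
import Groth.Agent.Lib.Lead.QC.FreeData

/-!
# Bundles trivialized by a finite étale cover are finite in the sense of Weil (characteristic zero)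

In characteristic zero the trace splits `O_X ⟶ f_* O_Y` for a finite étale surjective
`f : Y ⟶ X` onto a connected scheme, so every tensor power of a bundle `E` with `f^* E` trivial is a
direct summand of a finite direct sum of copies of `f_* O_Y`; all indecomposable summands of the
tensor powers of `E` are therefore among those of `f_* O_Y`.
-/

set_option autoImplicit false
universe u
open CategoryTheory CategoryTheory.Limits AlgebraicGeometry Opposite

namespace Groth.Agent.LD.KSch

open Groth.Agent.LD Groth.Agent.LD.QC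

attribute [-instance] Groth.Agent.LD.QC.stalkModule
attribute [local instance] Abelian.hasFiniteBiproducts

noncomputable section

section Push

variable {X Y : Scheme.{u}} (f : Y ⟶ X)

/-- `f_* O_Y` is the module underlying the direct image algebra. -/
def pushUnitIso [QuasiCompact f] [QuasiSeparated f] :
    (Scheme.Modules.pushforward f).obj (Coh.structureModule Y) ≅
      (RelSpec.QCAlg.directImage f).toModule where
  hom := ⟨letI := (RelSpec.QCAlg.directImage f).moduleSect
    PresheafOfModules.homMk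
      { app := fun U => AddCommGrpCat.ofHom (AddMonoidHom.id _)
        naturality := fun U V i => rfl }
      (fun U r s => rfl)⟩
  inv := ⟨letI := (RelSpec.QCAlg.directImage f).moduleSect
    PresheafOfModules.homMk
      { app := fun U => AddCommGrpCat.ofHom (AddMonoidHom.id _)
        naturality := fun U V i => rfl }
      (fun U r s => rfl)⟩
  hom_inv_id := rfl
  inv_hom_id := rfl

lemma isFinLocFree_pushUnit [IsFinite f] [Flat f] [LocallyOfFinitePresentation f] :
    FlatMod.IsFinLocFree ((Scheme.Modules.pushforward f).obj (Coh.structureModule Y)) :=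
  ((QC.affine_finLocFree_pushforward_iff f).mpr ⟨inferInstance, inferInstance, inferInstance⟩).2

lemma rank_pushUnit_ne_zero [Surjective f] [Nonempty X] (d : ℕ)
    (h : FlatMod.IsFinLocFreeOfRank d
      ((Scheme.Modules.pushforward f).obj (Coh.structureModule Y))) : d ≠ 0 := by
  rintro rfl
  have hz := Groth.Agent.H5.Curve4.isZero_of_rank_zero h
  haveI : Subsingleton Γ(Y, ⊤) :=
    Groth.Agent.LD.GenIsoPush.subsingleton_sections_of_isZero hz ⊤
  haveI := Groth.Agent.H7.Kum.isEmpty_of_subsingleton_Γ Y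
  obtain ⟨x⟩ := (inferInstance : Nonempty X)
  obtain ⟨y, -⟩ := f.surjective x
  exact IsEmpty.false y

/-- the trace splits `O_X ⟶ f_* O_Y` when the degree is invertible. -/
theorem isRetr_unit_pushUnit [IsFinite f] (d : ℕ)
    (h : FlatMod.IsFinLocFreeOfRank d
      ((Scheme.Modules.pushforward f).obj (Coh.structureModule Y)))
    (hd : IsUnit ((d : ℕ) : Γ(X, ⊤))) :
    IsRetr (Coh.structureModule X)
      ((Scheme.Modules.pushforward f).obj (Coh.structureModule Y)) := by
  have hA : FlatMod.IsFinLocFreeOfRank d (RelSpec.QCAlg.directImage f).toModule :=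
    Groth.Agent.H5.Curve4.isFinLocFreeOfRank_of_iso (pushUnitIso f) h
  have hA' : FlatMod.IsFinLocFree (RelSpec.QCAlg.directImage f).toModule :=
    Groth.Agent.H6.Tr.isFinLocFree_of_rank d _ hA
  obtain ⟨σ, hσ⟩ := Groth.Agent.H6.Tr.exists_section (RelSpec.QCAlg.directImage f) d
    (Groth.Agent.H6.Tr.trHom _ hA')
    (Groth.Agent.H6.Tr.s19695 _ d hA _ (Groth.Agent.H6.Tr.isTrace_trHom hA')) hd
  have hret : IsRetr (Coh.structureModule X) (RelSpec.QCAlg.directImage f).toModule :=
    ⟨σ, _, hσ⟩
  exact hret.trans (IsRetr.of_iso (pushUnitIso f).symm)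

/-- the projection formula for a module trivialized by `f`. -/
lemma nonempty_tensor_pushUnit_iso (E : X.Modules) (r : ℕ) (hE : FlatMod.IsFinLocFree E)
    (htriv : Nonempty ((Scheme.Modules.pullback f).obj E ≅ FlatMod.freeMod Y r)) :
    Nonempty (CohB1.tensorMod ((Scheme.Modules.pushforward f).obj (Coh.structureModule Y)) E ≅
      ⨁ fun _ : Fin r => (Scheme.Modules.pushforward f).obj (Coh.structureModule Y)) := by
  obtain ⟨e⟩ := htriv
  obtain ⟨φ⟩ := Groth.Agent.H5.Hyper.nonempty_push_pullback_iso f E hE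
  have e1 : (Scheme.Modules.pushforward f).obj (FlatMod.freeMod Y r) ≅
      ∐ fun _ : Fin r => (Scheme.Modules.pushforward f).obj (Coh.structureModule Y) :=
    PreservesCoproduct.iso (Scheme.Modules.pushforward f) (fun _ : Fin r => Coh.structureModule Y)
  exact ⟨φ.symm ≪≫ (Scheme.Modules.pushforward f).mapIso e ≪≫ e1 ≪≫
    (biproduct.isoCoproduct _).symm⟩

/-- retracts of finite direct sums of copies of `A`. -/
def InA (A M : X.Modules) : Prop :=
  ∃ (J : Type) (_ : Fintype J), IsRetr M (⨁ fun _ : J => A)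

lemma InA.step {A E : X.Modules} (r : ℕ)
    (hEA : Nonempty (CohB1.tensorMod A E ≅ ⨁ fun _ : Fin r => A)) {M : X.Modules}
    (h : InA A M) : InA A (CohB1.tensorMod M E) := by
  obtain ⟨J, hJ, hr⟩ := h
  haveI := hJ
  obtain ⟨e⟩ := hEA
  have h1 : IsRetr (CohB1.tensorMod M E) ((QC.twF E).obj (⨁ fun _ : J => A)) := hr.map (QC.twF E)
  refine ⟨Σ _ : J, Fin r, inferInstance, h1.trans (IsRetr.of_iso ?_)⟩
  exact (QC.twF E).mapBiproduct (fun _ : J => A) ≪≫ biproduct.mapIso (fun _ => e) ≪≫
    biproductBiproductIso (fun _ : J => Fin r) (fun _ _ => A)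

lemma inA_tensorPow {A E : X.Modules} (r : ℕ)
    (hEA : Nonempty (CohB1.tensorMod A E ≅ ⨁ fun _ : Fin r => A))
    (hO : IsRetr (Coh.structureModule X) A) : ∀ n, InA A (CohB1.tensorPow E n)
  | 0 => ⟨Unit, inferInstance, hO.trans (IsRetr.ι (fun _ : Unit => A) ())⟩
  | n + 1 => InA.step r hEA (inA_tensorPow r hEA hO n)

end Push

section Main

variable (k : Type u) [Field k] [CharZero k] (X : Scheme.{u}) [X.Over (Spec (CommRingCat.of k))]
  [IsProper (X ↘ Spec (CommRingCat.of k))] [IsIntegral X]

include k in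
lemma isUnit_natCast_top (d : ℕ) (hd : d ≠ 0) : IsUnit ((d : ℕ) : Γ(X, ⊤)) := by
  have h : ((d : ℕ) : Γ(X, ⊤)) = Coh.toGlobal (X ↘ Spec (CommRingCat.of k)) (d : k) :=
    (map_natCast (Coh.toGlobal (X ↘ Spec (CommRingCat.of k))) d).symm
  rw [h]
  exact (IsUnit.mk0 (d : k) (Nat.cast_ne_zero.mpr hd)).map _

include k in
/-- **a bundle trivialized by a finite étale cover is finite in the sense of Weil**
(characteristic zero). -/
theorem wf_of_trivial_pullback (r : ℕ) (E : X.Modules) (hE : FlatMod.IsFinLocFreeOfRank r E)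
    (Y : Scheme.{u}) (f : Y ⟶ X) [IsFinite f] [Flat f] [LocallyOfFinitePresentation f]
    [Surjective f]
    (htriv : Nonempty ((Scheme.Modules.pullback f).obj E ≅ FlatMod.freeMod Y r)) : WF E := by
  haveI : ConnectedSpace X := inferInstance
  have hAf := isFinLocFree_pushUnit f
  obtain ⟨d, hd⟩ := Groth.Agent.LD.KRRAmple.exists_rank_of_connected hAf
  have hd0 := rank_pushUnit_ne_zero f d hd
  have hO := isRetr_unit_pushUnit f d hd (isUnit_natCast_top k X d hd0)
  have hEA := nonempty_tensor_pushUnit_iso f E r (Groth.Agent.LD.Curve.isFinLocFree_of_rank hE) htriv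
  have hAcoh : Coh.IsCoh ((Scheme.Modules.pushforward f).obj (Coh.structureModule Y)) :=
    Groth.Agent.LD.Curve.isCoh_of_isFinLocFree hAf
  obtain ⟨n, V, -, hI, ⟨e⟩⟩ := hasLEDec_of_isCoh k X hAcoh
  have hA : AllIn V ((Scheme.Modules.pushforward f).obj (Coh.structureModule Y)) :=
    (AllIn.biproduct V (fun x => allIn_of_indec (hI x) x (Iso.refl _))).of_retr (IsRetr.of_iso e)
  refine wf_of_allIn k X (Groth.Agent.LD.Curve.isCoh_of_rank hE) V (fun m => ?_)
  obtain ⟨J, hJ, hr⟩ := inA_tensorPow r hEA hO m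
  haveI := hJ
  exact (AllIn.biproduct _ (fun _ => hA)).of_retr hr

end Main

end

end Groth.Agent.LD.KSch
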