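import Groth.Agent.Lib.Lead.KSch.WeilFin2
import Groth.Agent.Lib.Lead.KSch.Dual
import Groth.Agent.Lib.Lead.XS.DualIso
import Groth.Agent.Lib.Lead.PD.NegAmple
import Groth.Agent.Lib.Lead.QC.FiniteFree
import Groth.Agent.Lib.Helper5.ExtG1.A

/-!
# Finiteness in the sense of Weil and duality

* `adjPow`: `- ⊗ E^{⊗n} ⊣ - ⊗ (E^∨)^{⊗n}` for a finite locally free module `E`;
* `dualPowIso`: `(E^{⊗n})^∨ ≅ (E^∨)^{⊗n}`;
* `homShBiproductIso'`: the sheaf Hom out of a finite direct sum (any finite index type);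
* `wf_dual_iff`: a vector bundle is finite in the sense of Weil iff its dual is.
-/

set_option autoImplicit false
universe u
open CategoryTheory CategoryTheory.Limits AlgebraicGeometry

namespace Groth.Agent.LD.KSch

open Groth.Agent.H2.HomSh Groth.Agent.LD Groth.Agent.LD.QC Groth.Agent.LD.PD.HA
  Groth.Agent.LD.XS Groth.Agent.LD.XS.DI

attribute [-instance] Groth.Agent.LD.QC.stalkModule
attribute [local instance] Abelian.hasFiniteBiproducts

noncomputable section

variable {X : Scheme.{u}}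

lemma qc_unitMod (X : Scheme.{u}) : (unitMod X).IsQuasicoherent :=
  qc_of_isInvertible _ (isInvertible_unit X)

lemma qc_tensorPow (E : X.Modules) [E.IsQuasicoherent] :
    ∀ n, (CohB1.tensorPow E n).IsQuasicoherent
  | 0 => qc_unitMod X
  | n + 1 => by
    haveI := qc_tensorPow E n
    exact tensorMod_isQuasicoherent (CohB1.tensorPow E n) E

/-- `- ⊗ E ⊣ - ⊗ E^∨` for `E` finite locally free. -/
def adjDual (E : X.Modules) [E.IsQuasicoherent] (hE : FlatMod.IsFinLocFree E) :
    twF E ⊣ twF (Dl E) :=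
  (adjR E).ofNatIsoRight (thetaIso E hE).symm

/-- `- ⊗ E^{⊗n} ⊣ - ⊗ (E^∨)^{⊗n}` for `E` finite locally free. -/
def adjPow (E : X.Modules) [E.IsQuasicoherent] (hE : FlatMod.IsFinLocFree E) :
    (n : ℕ) → (twF (CohB1.tensorPow E n) ⊣ twF (CohB1.tensorPow (Dl E) n))
  | 0 => ((Adjunction.id (C := X.Modules)).ofNatIsoLeft
      (twFUnit (X := X)).symm).ofNatIsoRight (twFUnit (X := X)).symm
  | n + 1 =>
    (((adjPow E hE n).comp (adjDual E hE)).ofNatIsoLeft
      (twFComp (CohB1.tensorPow E n) E).symm).ofNatIsoRight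
      ((twFComp (Dl E) (CohB1.tensorPow (Dl E) n)).symm ≪≫
        twFCongr (tensorCommGen (Dl E) (CohB1.tensorPow (Dl E) n)))

/-- **the dual of a tensor power** of a finite locally free module. -/
def dualPowIso (E : X.Modules) [E.IsQuasicoherent] (hE : FlatMod.IsFinLocFree E) (n : ℕ) :
    Dl (CohB1.tensorPow E n) ≅ CohB1.tensorPow (Dl E) n :=
  haveI := qc_tensorPow E n
  ((adjR (CohB1.tensorPow E n)).rightAdjointUniq (adjPow E hE n)).app (unitMod X) ≪≫
    PD.unitorL (CohB1.tensorPow (Dl E) n)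

/-- **the sheaf Hom out of a finite direct sum** (any finite index type). -/
def homShBiproductIso' {J : Type} [Fintype J] (Ls : J → X.Modules) (Z : X.Modules) :
    RefHull.homSh (⨁ Ls) Z ≅ ⨁ fun i => RefHull.homSh (Ls i) Z where
  hom := biproduct.lift (fun i => preHom (biproduct.ι Ls i) Z)
  inv := biproduct.desc (fun i => preHom (biproduct.π Ls i) Z)
  hom_inv_id := by
    rw [biproduct.lift_desc]
    have h1 : ∀ i, preHom (biproduct.ι Ls i) Z ≫ preHom (biproduct.π Ls i) Z =
        preHom (biproduct.π Ls i ≫ biproduct.ι Ls i) Z := fun i => (preHom_comp _ _ Z).symm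
    rw [Finset.sum_congr rfl (fun i _ => h1 i), ← preHom_sum, biproduct.total, preHom_id]
  inv_hom_id := by
    apply biproduct.hom_ext'
    intro i
    apply biproduct.hom_ext
    intro j
    simp only [Category.assoc, Category.comp_id, Category.id_comp, biproduct.ι_desc_assoc,
      biproduct.lift_π]
    rw [← preHom_comp]
    by_cases h : i = j
    · subst h
      rw [biproduct.ι_π_self, preHom_id, biproduct.ι_π_self]
    · rw [biproduct.ι_π_ne _ (Ne.symm h), preHom_zero, biproduct.ι_π_ne _ h]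

/-- finiteness in the sense of Weil is invariant under isomorphism. -/
lemma wf_of_iso {E E' : X.Modules} (e : E ≅ E') (h : WF E) : WF E' := by
  obtain ⟨P, Q, hPQ, hiso⟩ := h
  obtain ⟨N, a, b, hab, ⟨φ⟩⟩ := exists_mulSum_of_poly (CohB1.tensorPow E) P Q hPQ hiso
  have key : ∀ c : Fin (N + 1) → ℕ,
      (mulSum (fun i : Fin (N + 1) => CohB1.tensorPow E i) c ≅
        mulSum (fun i : Fin (N + 1) => CohB1.tensorPow E' i) c) := fun c =>
    biproduct.mapIso (fun p => tensorPowCongr e p.1)
  exact exists_poly_of_mulSum (CohB1.tensorPow E') N a b hab ⟨(key a).symm ≪≫ φ ≪≫ key b⟩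

/-- the dual of a vector bundle finite in the sense of Weil is finite. -/
theorem wf_dual_of_wf (E : X.Modules) [E.IsQuasicoherent] (hE : FlatMod.IsFinLocFree E)
    (h : WF E) : WF (Dl E) := by
  obtain ⟨P, Q, hPQ, hiso⟩ := h
  obtain ⟨N, a, b, hab, ⟨φ⟩⟩ := exists_mulSum_of_poly (CohB1.tensorPow E) P Q hPQ hiso
  have key : ∀ c : Fin (N + 1) → ℕ,
      (Dl (mulSum (fun i : Fin (N + 1) => CohB1.tensorPow E i) c) ≅
        mulSum (fun i : Fin (N + 1) => CohB1.tensorPow (Dl E) i) c) := fun c =>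
    homShBiproductIso' (fun p : (Σ j : Fin (N + 1), Fin (c j)) => CohB1.tensorPow E p.1)
        (unitMod X) ≪≫
      biproduct.mapIso (fun p => dualPowIso E hE p.1)
  exact exists_poly_of_mulSum (CohB1.tensorPow (Dl E)) N a b hab
    ⟨(key a).symm ≪≫ (preHomIso φ (unitMod X)).symm ≪≫ key b⟩

/-- **a vector bundle is finite in the sense of Weil iff its dual is.** -/
theorem wf_dual_iff [IsLocallyNoetherian X] (r : ℕ) (E : X.Modules)
    (hE : FlatMod.IsFinLocFreeOfRank r E) : WF E ↔ WF (RefHull.dual E) := by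
  have hE' : FlatMod.IsFinLocFree E := Curve.isFinLocFree_of_rank hE
  haveI : E.IsQuasicoherent := qc_of_isFinLocFree E hE'
  have hD : FlatMod.IsFinLocFree (Dl E) :=
    HF.isFinLocFree_homSh E _ hE' (isFinLocFree_of_isInvertible _ (isInvertible_unit X))
  haveI : (Dl E).IsQuasicoherent := qc_of_isFinLocFree _ hD
  constructor
  · exact wf_dual_of_wf E hE'
  · intro h
    have h2 : WF (Dl (Dl E)) := wf_dual_of_wf (Dl E) hD h
    haveI := Groth.Agent.H5.ExtG1.isIso_bidualMap r E hE
    exact wf_of_iso (asIso (RefHull.bidualMap E)).symm h2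

end

end Groth.Agent.LD.KSch
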