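import Groth.Agent.Lib.Lead.KSch.WeilFin2
import Groth.Agent.Lib.Helper5.Curve4.VB5
import Groth.Agent.Lib.Helper5.Curve4.Sat2
import Groth.Agent.Lib.Helper5.DegC.TensorDeg
import Groth.Agent.Lib.Lead.QC.ProjFormulaLF
import Groth.Agent.Lib.Lead.QC.LocFree2
import Groth.Agent.Lib.Lead.QC.FiniteFree
import Groth.Agent.Lib.Lead.Curve.Euler
import Groth.Agent.H4.RT4
import Groth.Agent.S15335
import Groth.Agent.S15331

/-!
# A vector bundle finite in the sense of Weil on a curve is semistable of degree zero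

* `isFinLocFreeOfRank_tensorMod`, `isFinLocFreeOfRank_tensorPow`: ranks of tensor products;
* `tensorPowMap`, `mono_tensorPowMap`: tensor powers of a monomorphism of vector bundles;
* `finSuccIso`: `⨁_{Fin (n+1)} V ≅ V 0 ⊞ ⨁ V ∘ succ`;
* `slope_tensorPow`: `deg (F^{⊗n}) = n r^n μ(F)`;
* `deg_zero_and_ss_of_wf`: a finite vector bundle has degree zero and is semistable.
-/

set_option autoImplicit false
universe v u
open CategoryTheory CategoryTheory.Limits AlgebraicGeometry

namespace Groth.Agent.LD.KSch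

open Groth.Agent.LD Groth.Agent.LD.QC Groth.Agent.H5.Curve4

attribute [-instance] Groth.Agent.LD.QC.stalkModule
attribute [local instance] Abelian.hasFiniteBiproducts

noncomputable section

section Abs

variable {C : Type u} [Category.{v} C] [Abelian C]

/-- `⨁_{Fin (n+1)} V ≅ V 0 ⊞ ⨁ V ∘ succ`. -/
def finSuccIso {n : ℕ} (V : Fin (n + 1) → C) :
    (⨁ V) ≅ V 0 ⊞ ⨁ fun i : Fin n => V i.succ where
  hom := biprod.lift (biproduct.π V 0) (biproduct.lift fun i => biproduct.π V i.succ)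
  inv := biprod.desc (biproduct.ι V 0) (biproduct.desc fun i => biproduct.ι V i.succ)
  hom_inv_id := by
    rw [biprod.lift_desc, biproduct.lift_desc, ← biproduct.total, Fin.sum_univ_succ]
  inv_hom_id := by
    apply biprod.hom_ext'
    · apply biprod.hom_ext
      · simp only [Category.assoc, biprod.inl_desc_assoc, biprod.lift_fst, Category.comp_id,
          Category.id_comp, biprod.inl_fst, biproduct.ι_π_self]
      · simp only [Category.assoc, biprod.inl_desc_assoc, biprod.lift_snd, Category.comp_id,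
          Category.id_comp, biprod.inl_snd]
        apply biproduct.hom_ext
        intro j
        rw [Category.assoc, biproduct.lift_π, Limits.zero_comp]
        exact biproduct.ι_π_ne V (Fin.succ_ne_zero j).symm
    · apply biprod.hom_ext
      · simp only [Category.assoc, biprod.inr_desc_assoc, biprod.lift_fst, Category.comp_id,
          Category.id_comp, biprod.inr_fst]
        apply biproduct.hom_ext'
        intro j
        rw [biproduct.ι_desc_assoc, Limits.comp_zero]
        exact biproduct.ι_π_ne V (Fin.succ_ne_zero j)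
      · simp only [Category.assoc, biprod.inr_desc_assoc, biprod.lift_snd, Category.comp_id,
          Category.id_comp, biprod.inr_snd]
        apply biproduct.hom_ext'
        intro i
        apply biproduct.hom_ext
        intro j
        simp only [Category.assoc, biproduct.ι_desc_assoc, biproduct.lift_π, Category.comp_id,
          Category.id_comp]
        by_cases h : i = j
        · subst h
          rw [biproduct.ι_π_self V i.succ, biproduct.ι_π_self (fun i : Fin n => V i.succ) i]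
        · rw [biproduct.ι_π_ne V (fun h' => h (Fin.succ_injective _ h')),
            biproduct.ι_π_ne (fun i : Fin n => V i.succ) h]

end Abs

lemma nonpos_of_forall_nat_mul_le {μ B : ℚ} (h : ∀ n : ℕ, (n : ℚ) * μ ≤ B) : μ ≤ 0 := by
  by_contra hμ
  have hμ' : 0 < μ := not_le.1 hμ
  obtain ⟨n, hn⟩ := exists_nat_gt (B / μ)
  have h1 : B < (n : ℚ) * μ := (div_lt_iff₀ hμ').1 hn
  exact absurd (h n) (not_le.2 h1)

section Rank

variable {X : Scheme.{u}} [IsIntegral X] [IsNoetherian X]

/-- the tensor product of vector bundles of ranks `n`, `m` is a vector bundle of rank `n m`. -/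
theorem isFinLocFreeOfRank_tensorMod (n m : ℕ) (E V : X.Modules)
    (hE : FlatMod.IsFinLocFreeOfRank n E) (hV : FlatMod.IsFinLocFreeOfRank m V) :
    FlatMod.IsFinLocFreeOfRank (n * m) (CohB1.tensorMod E V) := by
  have h1 : FlatMod.IsFinLocFree (CohB1.tensorMod E V) :=
    Groth.Agent.H4.RT4.isFinLocFree_tensor E V (Curve.isFinLocFree_of_rank hE)
      (Curve.isFinLocFree_of_rank hV)
  obtain ⟨a, ha⟩ := exists_rank h1
  have h2 : gdim (CohB1.tensorMod E V) = a := gdim_of_rank ha
  have h3 : gdim (CohB1.tensorMod E V) = n * gdim V :=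
    Groth.Agent.H5.DegC.gdim_tensorMod n E hE V (Curve.isCoh_of_rank hV)
  have h4 : gdim V = m := gdim_of_rank hV
  have h5 : a = n * m := by rw [← h2, h3, h4]
  rw [← h5]
  exact ha

theorem isFinLocFreeOfRank_tensorPow (r : ℕ) (E : X.Modules)
    (hE : FlatMod.IsFinLocFreeOfRank r E) :
    ∀ n, FlatMod.IsFinLocFreeOfRank (r ^ n) (CohB1.tensorPow E n)
  | 0 => by
    rw [pow_zero]
    exact (isInvertible_iff _).1 (isInvertible_unit X)
  | n + 1 => by
    rw [pow_succ]
    exact isFinLocFreeOfRank_tensorMod (r ^ n) r _ E (isFinLocFreeOfRank_tensorPow r E hE n) hE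

end Rank

section Pow

variable {X : Scheme.{u}}

/-- tensor powers of a morphism. -/
def tensorPowMap {F E : X.Modules} (i : F ⟶ E) :
    ∀ n, CohB1.tensorPow F n ⟶ CohB1.tensorPow E n
  | 0 => 𝟙 _
  | n + 1 => KoszTw.tensorMap (tensorPowMap i n) i

lemma mono_tensorPowMap {F E : X.Modules} (i : F ⟶ E) [Mono i] (hF : FlatMod.IsFinLocFree F)
    (hE : ∀ n, FlatMod.IsFinLocFree (CohB1.tensorPow E n)) : ∀ n, Mono (tensorPowMap i n)
  | 0 => by
    change Mono (𝟙 _)
    infer_instance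
  | n + 1 => by
    haveI := mono_tensorPowMap i hF hE n
    have h : (KoszTw.tensorMap (tensorPowMap i n) i :
        CohB1.tensorMod (CohB1.tensorPow F n) F ⟶ CohB1.tensorMod (CohB1.tensorPow E n) E) =
        KoszTw.tensorMap (tensorPowMap i n) (𝟙 F) ≫
          KoszTw.tensorMap (𝟙 (CohB1.tensorPow E n)) i := by
      rw [← KoszTw.tensorMap_comp, Category.comp_id, Category.id_comp]
    change Mono (KoszTw.tensorMap (tensorPowMap i n) i)
    rw [h]
    haveI := mono_tensorMap_of_isFinLocFree (tensorPowMap i n) F hF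
    haveI := mono_tensorMap_left_of_isFinLocFree i (CohB1.tensorPow E n) (hE n)
    exact mono_comp _ _

end Pow

section CurveSec

variable (k : Type u) [Field k] [IsAlgClosed k] (X : Scheme.{u}) [X.Over (Spec (CommRingCat.of k))]
  [IsIntegral X] [IsProper (X ↘ Spec (CommRingCat.of k))] [Smooth (X ↘ Spec (CommRingCat.of k))]

/-- all finite locally free submodules of positive rank of `M` have slope at most `B`. -/
def SlopeBd (B : ℚ) (M : X.Modules) : Prop :=
  ∀ (G : X.Modules) (r' : ℕ) (i : G ⟶ M), Mono i → 0 < r' → FlatMod.IsFinLocFreeOfRank r' G →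
    (Curv2.deg k X G r' : ℚ) / r' ≤ B

lemma SlopeBd.mono {B B' : ℚ} {M : X.Modules} (h : SlopeBd k X B M) (hB : B ≤ B') :
    SlopeBd k X B' M :=
  fun G r' i hi hr' hG => (h G r' i hi hr' hG).trans hB

lemma SlopeBd.of_iso {B : ℚ} {M M' : X.Modules} (e : M ≅ M') (h : SlopeBd k X B M) :
    SlopeBd k X B M' := by
  intro G r' i hi hr' hG
  haveI := hi
  exact h G r' (i ≫ e.inv) (mono_comp _ _) hr' hG

lemma exists_slopeBd (hdim : topologicalKrullDim X = 1) (r : ℕ) (hr : 0 < r) (E : X.Modules)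
    (hE : FlatMod.IsFinLocFreeOfRank r E) : ∃ B : ℚ, SlopeBd k X B E := by
  obtain ⟨N, hN⟩ := Groth.Agent.S15331.result k X hdim r hr E hE
  refine ⟨max (N : ℚ) 0, fun G r' i hi hr' hG => ?_⟩
  have h1 : (Curv2.deg k X G r' : ℚ) ≤ (N : ℚ) := by exact_mod_cast hN G r' i hi hG
  have hr1 : (1 : ℚ) ≤ (r' : ℚ) := by exact_mod_cast hr'
  have hr0 : (0 : ℚ) < (r' : ℚ) := by exact_mod_cast hr'
  rw [div_le_iff₀ hr0]
  calc (Curv2.deg k X G r' : ℚ) ≤ max (N : ℚ) 0 := h1.trans (le_max_left _ _)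
    _ = max (N : ℚ) 0 * 1 := (mul_one _).symm
    _ ≤ max (N : ℚ) 0 * r' := mul_le_mul_of_nonneg_left hr1 (le_max_right _ _)

lemma SlopeBd.biprod (hdim : topologicalKrullDim X = 1) {B : ℚ} (r₁ r₂ : ℕ) (hr₁ : 0 < r₁)
    (hr₂ : 0 < r₂) (E₁ E₂ : X.Modules) (hE₁ : FlatMod.IsFinLocFreeOfRank r₁ E₁)
    (hE₂ : FlatMod.IsFinLocFreeOfRank r₂ E₂) (h₁ : SlopeBd k X B E₁) (h₂ : SlopeBd k X B E₂) :
    SlopeBd k X B (E₁ ⊞ E₂) := by
  intro F r' i hi hr' hF
  have h := Groth.Agent.S15335.result k X hdim r₁ r₂ hr₁ hr₂ E₁ E₂ hE₁ hE₂ B B h₁ h₂ F r' i hi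
    hr' hF
  rwa [max_self] at h

/-- a vector bundle of positive rank with slopes of subbundles bounded above by `B` and slope
bounded below by `B'`. -/
def Good (B B' : ℚ) (M : X.Modules) : Prop :=
  ∃ s : ℕ, 0 < s ∧ FlatMod.IsFinLocFreeOfRank s M ∧ SlopeBd k X B M ∧
    B' * s ≤ Curv2.deg k X M s

lemma Good.of_iso {B B' : ℚ} {M M' : X.Modules} (e : M ≅ M') (h : Good k X B B' M) :
    Good k X B B' M' := by
  obtain ⟨s, hs, hM, hb, hd⟩ := h
  refine ⟨s, hs, isFinLocFreeOfRank_of_iso e hM, hb.of_iso k X e, ?_⟩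
  rw [← Curve.deg_iso k X e s]
  exact hd

lemma Good.biprod (hdim : topologicalKrullDim X = 1) {B B' : ℚ} {M₁ M₂ : X.Modules}
    (h₁ : Good k X B B' M₁) (h₂ : Good k X B B' M₂) : Good k X B B' (M₁ ⊞ M₂) := by
  obtain ⟨s₁, hs₁, hM₁, hb₁, hd₁⟩ := h₁
  obtain ⟨s₂, hs₂, hM₂, hb₂, hd₂⟩ := h₂
  refine ⟨s₁ + s₂, by omega, Groth.Agent.H5.SD.isFinLocFreeOfRank_biprod M₁ M₂ s₁ s₂ hM₁ hM₂,
    SlopeBd.biprod k X hdim s₁ s₂ hs₁ hs₂ M₁ M₂ hM₁ hM₂ hb₁ hb₂, ?_⟩
  rw [Groth.Agent.H5.SD.deg_biprod k X M₁ M₂ s₁ s₂ hM₁ hM₂]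
  push_cast
  rw [mul_add]
  exact add_le_add hd₁ hd₂

lemma good_biproduct (hdim : topologicalKrullDim X = 1) {B B' : ℚ} (n : ℕ) :
    ∀ (V : Fin (n + 1) → X.Modules), (∀ x, Good k X B B' (V x)) → Good k X B B' (⨁ V) := by
  induction n with
  | zero =>
    intro V h
    haveI : Unique (Fin (0 + 1)) := inferInstanceAs (Unique (Fin 1))
    exact (h _).of_iso k X (biproductUniqueIso V).symm
  | succ n ih =>
    intro V h
    exact (Good.biprod k X hdim (h 0) (ih (fun i => V i.succ) (fun i => h i.succ))).of_iso k X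
      (finSuccIso V).symm

/-- `deg (F^{⊗n}) = n r^n μ(F)`. -/
lemma slope_tensorPow (hdim' : topologicalKrullDim X ≤ 1) (r' : ℕ) (hr' : 0 < r')
    (F : X.Modules) (hF : FlatMod.IsFinLocFreeOfRank r' F) :
    ∀ n : ℕ, (Curv2.deg k X (CohB1.tensorPow F n) (r' ^ n) : ℚ) =
      n * (r' : ℚ) ^ n * ((Curv2.deg k X F r' : ℚ) / r')
  | 0 => by
    have h0 : Curv2.deg k X (CohB1.tensorPow F 0) (r' ^ 0) = 0 := by
      rw [pow_zero]
      change Curv2.deg k X (Coh.structureModule X) 1 = 0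
      unfold Curv2.deg
      push_cast
      ring
    rw [h0]
    simp
  | n + 1 => by
    haveI : IsNoetherian X := Groth.Agent.H5.Curve2.isNoetherian_of_proper k X
    have hn := slope_tensorPow hdim' r' hr' F hF n
    have h1 := Groth.Agent.H5.DegC.deg_tensorMod k hdim' (r' ^ n) r' (CohB1.tensorPow F n) F
      (isFinLocFreeOfRank_tensorPow r' F hF n) hF
    have h2 : Curv2.deg k X (CohB1.tensorPow F (n + 1)) (r' ^ (n + 1)) =
        Curv2.deg k X (CohB1.tensorMod (CohB1.tensorPow F n) F) (r' ^ n * r') := by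
      rw [pow_succ]
      rfl
    rw [h2, h1]
    push_cast
    rw [hn]
    have hr0 : (r' : ℚ) ≠ 0 := by exact_mod_cast hr'.ne'
    field_simp
    ring

/-- **a vector bundle finite in the sense of Weil on a smooth proper curve has degree zero and is
semistable.** -/
theorem deg_zero_and_ss_of_wf (hdim : topologicalKrullDim X = 1) (r : ℕ) (hr : 0 < r)
    (E : X.Modules) (hE : FlatMod.IsFinLocFreeOfRank r E) (h : WF E) :
    Curv2.deg k X E r = 0 ∧
      ∀ (F : X.Modules) (r' : ℕ) (i : F ⟶ E), Mono i → 0 < r' →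
        FlatMod.IsFinLocFreeOfRank r' F →
        Curv2.deg k X F r' * (r : ℤ) ≤ Curv2.deg k X E r * (r' : ℤ) := by
  haveI : IsNoetherian X := Groth.Agent.H5.Curve2.isNoetherian_of_proper k X
  have hdim' : topologicalKrullDim X ≤ 1 := hdim.le
  have hcoh : Coh.IsCoh E := Curve.isCoh_of_rank hE
  have hpow : ∀ n, FlatMod.IsFinLocFreeOfRank (r ^ n) (CohB1.tensorPow E n) :=
    isFinLocFreeOfRank_tensorPow r E hE
  obtain ⟨τ, hτ, W, hLE, hI, hR, hAll⟩ := types_of_wf k X hcoh h
  haveI := hτ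
  -- the types are vector bundles of positive rank
  have hW : ∀ t, ∃ s : ℕ, 0 < s ∧ FlatMod.IsFinLocFreeOfRank s (W t) := by
    intro t
    obtain ⟨n, i, p, hip⟩ := hR t
    have h1 : FlatMod.IsFinLocFree (W t) :=
      isFinLocFree_of_retract i p hip (Curve.isFinLocFree_of_rank (hpow n))
    obtain ⟨s, hs⟩ := exists_rank h1
    refine ⟨s, Nat.pos_of_ne_zero ?_, hs⟩
    rintro rfl
    exact (hI t).1 (isZero_of_rank_zero hs)
  choose s hs hWs using hW
  have hB : ∀ t, ∃ B : ℚ, SlopeBd k X B (W t) :=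
    fun t => exists_slopeBd k X hdim (s t) (hs t) (W t) (hWs t)
  choose Bt hBt using hB
  obtain ⟨B, hBle⟩ : ∃ B : ℚ, ∀ t, Bt t ≤ B :=
    ⟨∑ t, max (Bt t) 0, fun t => (le_max_left _ _).trans
      (Finset.single_le_sum (f := fun t => max (Bt t) 0) (fun t _ => le_max_right _ _)
        (Finset.mem_univ t))⟩
  obtain ⟨B', hB'le⟩ : ∃ B' : ℚ, ∀ t, B' ≤ (Curv2.deg k X (W t) (s t) : ℚ) / s t :=
    ⟨-∑ t, max (-((Curv2.deg k X (W t) (s t) : ℚ) / s t)) 0, fun t => neg_le.1
      ((le_max_left _ _).trans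
        (Finset.single_le_sum
          (f := fun t => max (-((Curv2.deg k X (W t) (s t) : ℚ) / s t)) 0)
          (fun t _ => le_max_right _ _) (Finset.mem_univ t)))⟩
  have hGoodW : ∀ t, Good k X B B' (W t) := fun t =>
    ⟨s t, hs t, hWs t, (hBt t).mono k X (hBle t),
      (le_div_iff₀ (by exact_mod_cast hs t)).1 (hB'le t)⟩
  -- every tensor power is good
  have hGoodPow : ∀ n, Good k X B B' (CohB1.tensorPow E n) := by
    intro n
    obtain ⟨m, V, hVLE, hVI, ⟨e⟩⟩ := hasLEDec_of_isCoh k X (isCoh_tensorPow X hcoh n)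
    have hV : ∀ x, Good k X B B' (V x) := by
      intro x
      obtain ⟨t, ⟨φ⟩⟩ := hAll n (V x) (hVLE x) ((IsRetr.ι V x).trans (IsRetr.of_iso e.symm))
      exact (hGoodW t).of_iso k X φ.symm
    cases m with
    | zero =>
      exfalso
      exact not_isZero_of_rank_pos X (pow_pos hr n) (hpow n)
        ((isZero_biproduct_fin_zero V).of_iso e)
    | succ m => exact (good_biproduct k X hdim m V hV).of_iso k X e.symm
  -- slopes of submodules are nonpositive
  have key : ∀ (F : X.Modules) (r' : ℕ) (i : F ⟶ E), Mono i → 0 < r' →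
      FlatMod.IsFinLocFreeOfRank r' F → (Curv2.deg k X F r' : ℚ) / r' ≤ 0 := by
    intro F r' i hi hr' hF
    haveI := hi
    apply nonpos_of_forall_nat_mul_le (B := B)
    intro n
    obtain ⟨sn, -, -, hbd, -⟩ := hGoodPow n
    have hmono : Mono (tensorPowMap i n) :=
      mono_tensorPowMap i (Curve.isFinLocFree_of_rank hF)
        (fun m => Curve.isFinLocFree_of_rank (hpow m)) n
    have h1 := hbd (CohB1.tensorPow F n) (r' ^ n) (tensorPowMap i n) hmono (pow_pos hr' n)
      (isFinLocFreeOfRank_tensorPow r' F hF n)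
    rw [slope_tensorPow k X hdim' r' hr' F hF n] at h1
    have hr0 : (r' : ℚ) ≠ 0 := by exact_mod_cast hr'.ne'
    have h2 : (n : ℚ) * (r' : ℚ) ^ n * ((Curv2.deg k X F r' : ℚ) / r') / ((r' ^ n : ℕ) : ℚ) =
        n * ((Curv2.deg k X F r' : ℚ) / r') := by
      push_cast
      field_simp
    rwa [h2] at h1
  -- the slope of `E` is nonnegative
  have hlow : 0 ≤ (Curv2.deg k X E r : ℚ) / r := by
    have h0 : -((Curv2.deg k X E r : ℚ) / r) ≤ 0 := by
      apply nonpos_of_forall_nat_mul_le (B := -B')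
      intro n
      obtain ⟨sn, -, hsn, -, hd⟩ := hGoodPow n
      have hsn' : sn = r ^ n := (gdim_of_rank hsn).symm.trans (gdim_of_rank (hpow n))
      subst hsn'
      rw [slope_tensorPow k X hdim' r hr E hE n] at hd
      have hp : (0 : ℚ) < ((r ^ n : ℕ) : ℚ) := by exact_mod_cast pow_pos hr n
      have h3 : B' ≤ n * ((Curv2.deg k X E r : ℚ) / r) := by
        have h4 : (n : ℚ) * (r : ℚ) ^ n * ((Curv2.deg k X E r : ℚ) / r) =
            (n * ((Curv2.deg k X E r : ℚ) / r)) * ((r ^ n : ℕ) : ℚ) := by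
          push_cast
          ring
        rw [h4] at hd
        exact le_of_mul_le_mul_right hd hp
      linarith
    linarith
  have hμE : (Curv2.deg k X E r : ℚ) / r = 0 :=
    le_antisymm (key E r (𝟙 E) inferInstance hr hE) hlow
  have hr0 : (r : ℚ) ≠ 0 := by exact_mod_cast hr.ne'
  have hdegE : Curv2.deg k X E r = 0 := by
    have h8 := (div_eq_zero_iff.1 hμE).resolve_right hr0
    exact_mod_cast h8
  refine ⟨hdegE, fun F r' i hi hr' hF => ?_⟩
  have h5 := key F r' i hi hr' hF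
  have hr'0 : (0 : ℚ) < r' := by exact_mod_cast hr'
  have h6 : (Curv2.deg k X F r' : ℚ) ≤ 0 := by
    have h9 := (div_le_iff₀ hr'0).1 h5
    rwa [zero_mul] at h9
  have h7 : Curv2.deg k X F r' ≤ 0 := by exact_mod_cast h6
  rw [hdegE, zero_mul]
  nlinarith [h7, Int.natCast_nonneg r]

end CurveSec

end

end Groth.Agent.LD.KSch
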